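import Cfsg.Agent.Lib.Solv.PSolvHall
import Cfsg.Prelude.Def_HallClasses

/-!
Hall subgroups of π-separable groups. The solvability of groups of odd order is an explicit
hypothesis; it is only used for the conjugacy half of Schur–Zassenhaus.
-/

set_option autoImplicit false

open scoped Pointwise

namespace Cfsg.Agent.Solv.OddGated

universe u

/-- Groups of odd order are solvable. -/
def OddSolvable : Prop :=
  ∀ (X : Type u) [Group X] [Finite X], Odd (Nat.card X) → Group.IsSolvable X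

theorem solvable_or_of_coprime {G H : Type u} [Group G] [Finite G] [Group H] [Finite H]
    (hFT : OddSolvable.{u}) (hco : (Nat.card G).Coprime (Nat.card H)) :
    Group.IsSolvable G ∨ Group.IsSolvable H := by
  rcases Nat.even_or_odd (Nat.card G) with h | h
  · refine Or.inr (hFT H (Nat.not_even_iff_odd.1 fun h' => ?_))
    exact absurd (Nat.eq_one_of_dvd_coprimes hco h.two_dvd h'.two_dvd) (by norm_num)
  · exact Or.inl (hFT G h)

/-- Every prime divisor lies in `π`. -/
def PiNum (π : Set ℕ) (n : ℕ) : Prop := ∀ q : ℕ, q.Prime → q ∣ n → q ∈ π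

/-- No prime divisor lies in `π`. -/
def CoPiNum (π : Set ℕ) (n : ℕ) : Prop := ∀ q : ℕ, q.Prime → q ∣ n → q ∉ π

theorem coprime_of_pi {π : Set ℕ} {a b : ℕ} (ha : PiNum π a) (hb : CoPiNum π b) :
    a.Coprime b :=
  Nat.coprime_of_dvd fun q hq hqa hqb => hb q hq hqb (ha q hq hqa)

theorem isPiHall_iff {G : Type u} [Group G] {π : Set ℕ} {H : Subgroup G} :
    Cfsg.IsPiHall π H ↔ PiNum π (Nat.card H) ∧ CoPiNum π H.index :=
  ⟨fun h => ⟨h.1, fun q hq hd hπ => h.2 q hq hπ hd⟩,
    fun h => ⟨h.1, fun q hq hπ hd => h.2 q hq hd hπ⟩⟩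

/-- A π-separable group: a normal series with π- or π'-factors. -/
def Sep (π : Set ℕ) (G : Type u) [Group G] : Prop :=
  ∃ (n : ℕ) (H : Fin (n + 1) → Subgroup G), H 0 = ⊥ ∧ H (Fin.last n) = ⊤ ∧ Monotone H ∧
    (∀ i, (H i).Normal) ∧
    ∀ i : Fin n, PiNum π ((H i.castSucc).relIndex (H i.succ)) ∨
      CoPiNum π ((H i.castSucc).relIndex (H i.succ))

variable {G : Type u} [Group G] {π : Set ℕ}

theorem Sep.map {Q : Type u} [Group Q] (h : Sep π G) (f : G →* Q) (hf : Function.Surjective f) :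
    Sep π Q := by
  obtain ⟨n, H, h0, hl, hm, hn, hstep⟩ := h
  refine ⟨n, fun i => (H i).map f, by simp [h0], ?_,
    fun i j hij => Subgroup.map_mono (hm hij), fun i => (hn i).map f hf, fun i => ?_⟩
  · show (H (Fin.last n)).map f = ⊤
    rw [hl]; exact Subgroup.map_top_of_surjective f hf
  · exact (hstep i).imp (fun h q hq hd => h q hq (hd.trans (relIndex_map_dvd f)))
      (fun h q hq hd => h q hq (hd.trans (relIndex_map_dvd f)))

theorem Sep.exists_normal [Nontrivial G] (h : Sep π G) :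
    ∃ N : Subgroup G, N.Normal ∧ N ≠ ⊥ ∧ (PiNum π (Nat.card N) ∨ CoPiNum π (Nat.card N)) := by
  obtain ⟨n, H, h0, hl, hm, hn, hstep⟩ := h
  by_contra hno
  push Not at hno
  have key : ∀ i : ℕ, ∀ hi : i < n + 1, H ⟨i, hi⟩ = ⊥ := by
    intro i
    induction i with
    | zero => intro hi; exact h0
    | succ i ih =>
      intro hi
      have hprev : H (Fin.castSucc ⟨i, by omega⟩) = ⊥ := ih (by omega)
      by_contra hne
      obtain ⟨h1, h2⟩ := hno _ (hn ⟨i + 1, hi⟩) hne
      have h3 := hstep ⟨i, by omega⟩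
      rw [hprev, Subgroup.relIndex_bot_left] at h3
      exact h3.elim h1 h2
  exact top_ne_bot (hl.symm.trans (key n (by omega)))

theorem sep_hall_aux (hFT : OddSolvable.{u}) : ∀ (k : ℕ) {G : Type u} [Group G] [Finite G],
    Nat.card G = k → Sep π G →
    (∃ H : Subgroup G, Cfsg.IsPiHall π H) ∧
      ∀ U H : Subgroup G, PiNum π (Nat.card U) → Cfsg.IsPiHall π H →
        ∃ g : G, MulAut.conj g • U ≤ H := by
  intro k
  induction k using Nat.strong_induction_on with
  | _ k ih =>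
  intro G _ _ hk hG
  rcases subsingleton_or_nontrivial G with hs | hnt
  · refine ⟨⟨⊥, isPiHall_iff.2 ⟨fun q hq hd => ?_, fun q hq hd => ?_⟩⟩,
      fun U H _ _ => ⟨1, le_of_eq (Subsingleton.elim _ _)⟩⟩
    · rw [Subgroup.card_bot] at hd; exact absurd (Nat.dvd_one.1 hd) hq.ne_one
    · rw [Subgroup.index_eq_one.2 (Subsingleton.elim _ _)] at hd
      exact absurd (Nat.dvd_one.1 hd) hq.ne_one
  obtain ⟨N, hN, hNb, hNc⟩ := hG.exists_normal
  haveI := hN
  set f := QuotientGroup.mk' N with hf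
  have hsurj : Function.Surjective f := QuotientGroup.mk'_surjective N
  obtain ⟨⟨Hb, hHb⟩, hcont⟩ := ih _ (hk ▸ card_quotient_lt N hNb) (G := G ⧸ N) rfl
    (hG.map f hsurj)
  rw [isPiHall_iff] at hHb
  set L := Hb.comap f with hL
  have hLi : L.index = Hb.index := Subgroup.index_comap_of_surjective _ hsurj
  have hLc : Nat.card L = Nat.card Hb * Nat.card N := card_comap_mk' N Hb
  have hNL : N ≤ L := QuotientGroup.le_comap_mk' N Hb
  have hmap : ∀ U H : Subgroup G, PiNum π (Nat.card U) → Cfsg.IsPiHall π H →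
      ∃ g : G, MulAut.conj g • U ≤ N ⊔ H := by
    intro U H hU hH
    rw [isPiHall_iff] at hH
    obtain ⟨g, hg⟩ := hcont (U.map f) (H.map f)
      (fun q hq hd => hU q hq (hd.trans (U.card_map_dvd f)))
      (isPiHall_iff.2 ⟨fun q hq hd => hH.1 q hq (hd.trans (H.card_map_dvd f)),
        fun q hq hd => hH.2 q hq (hd.trans (H.index_map_dvd hsurj))⟩)
    obtain ⟨g, rfl⟩ := hsurj g
    rw [← map_conj_smul] at hg
    exact ⟨g, map_mk'_le_imp_le N _ _ hg⟩
  rcases hNc with hNπ | hNπ'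
  · refine ⟨⟨L, isPiHall_iff.2 ⟨fun q hq hd => ?_, hLi ▸ hHb.2⟩⟩, fun U H hU hH => ?_⟩
    · rw [hLc] at hd
      exact (hq.dvd_mul.1 hd).elim (hHb.1 q hq) (hNπ q hq)
    · obtain ⟨g, hg⟩ := hmap U H hU hH
      refine ⟨g, hg.trans (sup_le ?_ le_rfl)⟩
      exact normal_le_of_coprime_index N H (coprime_of_pi hNπ (isPiHall_iff.1 hH).2)
  · have hidxN : (N.subgroupOf L).index = Nat.card Hb := by
      have h2 := (N.subgroupOf L).card_mul_index
      rw [card_subgroupOf hNL, hLc] at h2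
      exact Nat.eq_of_mul_eq_mul_left Nat.card_pos (by rw [h2, mul_comm])
    obtain ⟨X₀, hX₀⟩ := Subgroup.exists_right_complement'_of_coprime (N := N.subgroupOf L)
      (by rw [card_subgroupOf hNL, hidxN]; exact (coprime_of_pi hHb.1 hNπ').symm)
    set X := X₀.map L.subtype with hX
    have hXc : Nat.card X = Nat.card Hb := by
      rw [hX, card_map_subtype, ← hidxN, hX₀.symm.index_eq_card]
    refine ⟨⟨X, isPiHall_iff.2 ⟨hXc ▸ hHb.1, fun q hq hd => ?_⟩⟩, fun U H hU hH => ?_⟩
    · have h3 := X.card_mul_index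
      rw [← L.card_mul_index, hLc, hLi, hXc, mul_assoc] at h3
      rw [Nat.eq_of_mul_eq_mul_left Nat.card_pos h3] at hd
      exact (hq.dvd_mul.1 hd).elim (hNπ' q hq) (hHb.2 q hq)
    · obtain ⟨g, hg⟩ := hmap U H hU hH
      rw [isPiHall_iff] at hH
      have hUc : (Nat.card N).Coprime (Nat.card (MulAut.conj g • U : Subgroup G)) := by
        rw [card_conj_smul]; exact (coprime_of_pi hU hNπ').symm
      obtain ⟨m, -, hm⟩ := sz_contain N H (MulAut.conj g • U)
        (le_top.trans (Subgroup.normalizer_eq_top_iff.2 hN).ge) hg hUc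
        (coprime_of_pi hH.1 hNπ').symm (solvable_or_of_coprime hFT hUc)
      refine ⟨m⁻¹ * g, ?_⟩
      rw [← conj_smul_conj, ← Subgroup.pointwise_smul_le_pointwise_smul_iff (a := MulAut.conj m),
        conj_smul_conj, mul_inv_cancel, conj_one_smul]
      exact hm

/-- The three Sylow-type statements for π-separable groups. -/
theorem sep_sylow (hFT : OddSolvable.{u}) [Finite G] (hG : Sep π G) :
    (∃ K : Subgroup G, Cfsg.IsPiHall π K) ∧
      (∀ K L : Subgroup G, Cfsg.IsPiHall π K → Cfsg.IsPiHall π L →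
        ∃ g : G, L = K.map (MulAut.conj g).toMonoidHom) ∧
      ∀ U : Subgroup G, (∀ q : ℕ, q.Prime → q ∣ Nat.card U → q ∈ π) →
        ∃ K : Subgroup G, Cfsg.IsPiHall π K ∧ U ≤ K := by
  obtain ⟨⟨H₀, hH₀⟩, hcov⟩ := sep_hall_aux hFT _ rfl hG
  refine ⟨⟨H₀, hH₀⟩, fun K L hK hL => ?_, fun U hU => ?_⟩
  · obtain ⟨g, hg⟩ := hcov K L hK.1 hL
    refine ⟨g, ?_⟩
    change L = MulAut.conj g • K
    refine (Subgroup.eq_of_le_of_card_ge hg (Nat.le_of_dvd Nat.card_pos ?_)).symm
    rw [card_conj_smul]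
    exact (coprime_of_pi hL.1 (isPiHall_iff.1 hK).2).dvd_of_dvd_mul_right
      (K.card_mul_index.symm ▸ Subgroup.card_subgroup_dvd_card L)
  · obtain ⟨g, hg⟩ := hcov U H₀ hU hH₀
    refine ⟨MulAut.conj g⁻¹ • H₀, ?_, ?_⟩
    · obtain ⟨h1, h2⟩ := isPiHall_iff.1 hH₀
      refine isPiHall_iff.2 ⟨?_, ?_⟩
      · rw [card_conj_smul]; exact h1
      · intro q hq hd
        refine h2 q hq ?_
        have e : (MulAut.conj g⁻¹ • H₀ : Subgroup G).index = H₀.index := by
          refine Nat.eq_of_mul_eq_mul_left (Nat.card_pos (α := H₀)) ?_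
          have h5 := (MulAut.conj g⁻¹ • H₀ : Subgroup G).card_mul_index
          rw [card_conj_smul] at h5
          rw [h5, H₀.card_mul_index]
        rwa [e] at hd
    · rw [← Subgroup.pointwise_smul_le_pointwise_smul_iff (a := MulAut.conj g), conj_smul_conj,
        mul_inv_cancel, conj_one_smul]
      exact hg

end Cfsg.Agent.Solv.OddGated
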