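import Cfsg.Agent.S5212
import Cfsg.Agent.Lib.Local.FS.Group
import Cfsg.Agent.Lib.Fusion.NPC
import Cfsg.Agent.Lib.Fusion.Cores
import Cfsg.Agent.Lib.Char.HomocyclicSylow
import Cfsg.Agent.Lib.Solv.OddGated.SeparableHall

/-!
A group whose Sylow 2-subgroup has a cyclic normal subgroup with cyclic quotient of order
more than two is soluble, given that groups of odd order are soluble.
-/

set_option autoImplicit false
set_option linter.style.haveILetI false

namespace Cfsg.Agent.Solv.OddGated.MetacyclicTwo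

open Cfsg Cfsg.Agent.Fusion

universe u

/-- A cyclic normal subgroup with cyclic quotient of order more than two. -/
def Long (X : Type u) [Group X] : Prop :=
  ∃ (N : Subgroup X) (_ : N.Normal), IsCyclic N ∧ IsCyclic (X ⧸ N) ∧ 2 < N.index

theorem long_equiv {X Y : Type u} [Group X] [Group Y] (e : X ≃* Y) (h : Long X) : Long Y := by
  obtain ⟨N, hN, hc, hq, hi⟩ := h
  haveI : (N.map e.toMonoidHom).Normal := hN.map _ e.surjective
  refine ⟨N.map e.toMonoidHom, inferInstance,
    isCyclic_of_surjective (e.toMonoidHom.subgroupMap N) (e.toMonoidHom.subgroupMap_surjective N), ?_, ?_⟩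
  · exact isCyclic_of_surjective (QuotientGroup.congr N (N.map e.toMonoidHom) e rfl).toMonoidHom
      (QuotientGroup.congr N (N.map e.toMonoidHom) e rfl).surjective
  · rwa [show (N.map e.toMonoidHom).index = N.index from Subgroup.index_map_equiv N e]

/-- A cyclic quotient generated by elements squaring into the kernel has order at most two. -/
theorem index_le_two {X : Type u} [Group X] [Finite X] (N : Subgroup X) [N.Normal]
    (hc : IsCyclic (X ⧸ N)) {T : Set X} (hT : Subgroup.closure T = ⊤) (hsq : ∀ x ∈ T, x ^ 2 ∈ N) :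
    N.index ≤ 2 := by
  classical
  haveI := Fintype.ofFinite (X ⧸ N)
  letI : CommGroup (X ⧸ N) := IsCyclic.commGroup
  have hall : ∀ q : X ⧸ N, q ^ 2 = 1 := by
    intro q
    obtain ⟨x, rfl⟩ := QuotientGroup.mk'_surjective N q
    have hle : Subgroup.closure T ≤ ((powMonoidHom 2).comp (QuotientGroup.mk' N)).ker :=
      (Subgroup.closure_le _).2 fun y hy => by
        rw [SetLike.mem_coe, MonoidHom.mem_ker, MonoidHom.comp_apply, powMonoidHom_apply, ← map_pow]
        exact (QuotientGroup.eq_one_iff _).2 (hsq y hy)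
    have := hle (hT ▸ Subgroup.mem_top x)
    rwa [MonoidHom.mem_ker, MonoidHom.comp_apply, powMonoidHom_apply] at this
  have h := IsCyclic.card_pow_eq_one_le (α := X ⧸ N) two_pos
  rw [Finset.filter_true_of_mem fun q _ => hall q, Finset.card_univ] at h
  rwa [Subgroup.index_eq_card, Nat.card_eq_fintype_card]

theorem not_long_dihedral {X : Type u} [Group X] [Finite X] {m : ℕ} (e : X ≃* DihedralGroup m)
    (h : Long X) : False := by
  obtain ⟨N, hN, -, hq, hi⟩ := h
  refine absurd (index_le_two N hq (T := e.symm '' Set.range DihedralGroup.sr) ?_ ?_) (by omega)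
  · refine eq_top_iff.2 fun x _ => ?_
    rw [← e.symm_apply_apply x]
    cases e x with
    | r i =>
      rw [show (DihedralGroup.r i : DihedralGroup m) = DihedralGroup.sr 0 * DihedralGroup.sr i by simp, map_mul]
      exact mul_mem (Subgroup.subset_closure ⟨_, ⟨0, rfl⟩, rfl⟩) (Subgroup.subset_closure ⟨_, ⟨i, rfl⟩, rfl⟩)
    | sr i => exact Subgroup.subset_closure ⟨_, ⟨i, rfl⟩, rfl⟩
  · rintro _ ⟨_, ⟨i, rfl⟩, rfl⟩
    rw [← map_pow, sq, DihedralGroup.sr_mul_self, map_one]
    exact one_mem _

theorem not_long_quaternion {X : Type u} [Group X] [Finite X] {m : ℕ} (hm : Even m) (e : X ≃* QuaternionGroup m)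
    (h : Long X) : False := by
  obtain ⟨N, hN, -, hq, hi⟩ := h
  have hcom : ∀ x y : X, x * y * (y * x)⁻¹ ∈ N := fun x y => by
    letI : CommGroup (X ⧸ N) := IsCyclic.commGroup
    refine (QuotientGroup.eq_one_iff _).1 ?_
    rw [QuotientGroup.mk_mul, QuotientGroup.mk_inv, QuotientGroup.mk_mul, QuotientGroup.mk_mul,
      mul_comm ((x : X ⧸ N)) (y : X ⧸ N), mul_inv_cancel]
  have ha2 : e.symm (QuaternionGroup.a 1) ^ 2 ∈ N := by
    have h1 := hcom (e.symm (QuaternionGroup.a 1)) (e.symm (QuaternionGroup.xa 0))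
    rw [← map_mul, ← map_mul, QuaternionGroup.a_mul_xa, QuaternionGroup.xa_mul_a, zero_sub, zero_add,
      ← map_inv, ← map_mul] at h1
    rw [← map_pow, sq, QuaternionGroup.a_mul_a]
    convert h1 using 2
    refine eq_mul_inv_of_mul_eq ?_
    rw [QuaternionGroup.a_mul_xa]
    congr 1
    ring
  refine absurd (index_le_two N hq (T := e.symm '' Set.range QuaternionGroup.xa) ?_ ?_) (by omega)
  · refine eq_top_iff.2 fun x _ => ?_
    rw [← e.symm_apply_apply x]
    cases e x with
    | a i =>
      rw [show (QuaternionGroup.a i : QuaternionGroup m) =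
        QuaternionGroup.xa 0 * QuaternionGroup.xa (i - (m : ZMod (2 * m))) by simp, map_mul]
      exact mul_mem (Subgroup.subset_closure ⟨_, ⟨0, rfl⟩, rfl⟩) (Subgroup.subset_closure ⟨_, ⟨_, rfl⟩, rfl⟩)
    | xa i => exact Subgroup.subset_closure ⟨_, ⟨i, rfl⟩, rfl⟩
  · rintro _ ⟨_, ⟨i, rfl⟩, rfl⟩
    obtain ⟨k, hk⟩ := hm
    have : (QuaternionGroup.xa i : QuaternionGroup m) ^ 2 = (QuaternionGroup.a 1 ^ 2) ^ k := by
      rw [← pow_mul, QuaternionGroup.a_one_pow, sq, QuaternionGroup.xa_mul_xa]
      congr 1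
      rw [add_sub_cancel_right]
      congr 1
      omega
    rw [← map_pow, this, map_pow, map_pow]
    exact pow_mem ha2 k

theorem not_long_quasiDihedral {X : Type u} [Group X] [Finite X] (hsd : IsQuasiDihedral X) (h : Long X) : False := by
  obtain ⟨n, hn, hcard, x, y, hx, hy, hxy⟩ := hsd
  obtain ⟨N, hN, -, hq, hi⟩ := h
  obtain ⟨d, hd⟩ : ∃ d, 2 ^ (n - 1) - 2 = 2 * d ∧ Odd d := by
    refine ⟨2 ^ (n - 2) - 1, ?_, ?_⟩
    · rw [show n - 1 = n - 2 + 1 by omega, pow_succ]; omega
    · exact Nat.Even.sub_odd Nat.one_le_two_pow ((Nat.even_pow).2 ⟨even_two, by omega⟩) odd_one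
  have hpow : 2 ≤ 2 ^ (n - 1) := le_self_pow (by norm_num) (by omega)
  refine absurd (index_le_two N hq (T := ({x, y} : Set X)) ?_ ?_) (by omega)
  · have hyx : y ∉ Subgroup.zpowers x := by
      intro hy'
      obtain ⟨i, hi'⟩ := Subgroup.mem_zpowers_iff.1 hy'
      have hfix : x ^ (2 ^ (n - 1) - 1) = x := by
        rw [← hxy, ← hi', ← zpow_add_one, ← zpow_neg, ← zpow_add, show i + 1 + -i = (1 : ℤ) by ring, zpow_one]
      have h1 : x ^ (2 ^ (n - 1) - 2) = 1 := by
        refine mul_right_cancel (b := x) ?_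
        rw [one_mul, ← pow_succ, show 2 ^ (n - 1) - 2 + 1 = 2 ^ (n - 1) - 1 by omega, hfix]
      have h2 : 2 ^ n ∣ 2 * d := hd.1 ▸ hx ▸ orderOf_dvd_of_pow_eq_one h1
      have h3 : 2 ^ (n - 1) ∣ d := by
        refine Nat.dvd_of_mul_dvd_mul_left two_pos ?_
        rwa [← pow_succ', show n - 1 + 1 = n by omega]
      exact Nat.not_even_iff_odd.2 hd.2 (even_iff_two_dvd.2 ((dvd_pow_self 2 (by omega)).trans h3))
    have hlt : Subgroup.zpowers x < Subgroup.closure ({x, y} : Set X) :=
      lt_of_le_of_ne ((Subgroup.zpowers_le).2 (Subgroup.subset_closure (Set.mem_insert _ _)))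
        fun e => hyx (e ▸ Subgroup.subset_closure (Set.mem_insert_of_mem _ rfl))
    have h1 : 2 ^ n ∣ Nat.card (Subgroup.closure ({x, y} : Set X)) := by
      rw [← hx, ← Nat.card_zpowers]; exact Subgroup.card_dvd_of_le hlt.le
    have h2 : Nat.card (Subgroup.closure ({x, y} : Set X)) ∣ 2 ^ (n + 1) :=
      hcard ▸ Subgroup.card_subgroup_dvd_card _
    obtain ⟨j, hj, hj'⟩ := (Nat.dvd_prime_pow Nat.prime_two).1 h2
    rw [hj'] at h1
    have := (Nat.pow_dvd_pow_iff_le_right (by norm_num)).1 h1
    refine Subgroup.eq_top_of_card_eq _ ?_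
    rcases Nat.lt_or_ge j (n + 1) with h' | h'
    · exfalso
      refine hlt.ne (Subgroup.eq_of_le_of_card_ge hlt.le ?_)
      rw [hj', Nat.card_zpowers, hx]
      exact Nat.pow_le_pow_right two_pos (by omega)
    · rw [hj', hcard, show j = n + 1 by omega]
  · rintro z (rfl | rfl)
    · letI : CommGroup (X ⧸ N) := IsCyclic.commGroup
      have hb : ((z : X ⧸ N)) ^ (2 * d) = 1 := by
        have := congrArg (fun t : X => (t : X ⧸ N)) hxy
        simp only [QuotientGroup.mk_mul, QuotientGroup.mk_inv, QuotientGroup.mk_pow] at this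
        rw [mul_comm (y : X ⧸ N), mul_inv_cancel_right] at this
        rw [← hd.1]
        refine mul_right_cancel (b := (z : X ⧸ N)) ?_
        rw [one_mul, ← pow_succ, show 2 ^ (n - 1) - 2 + 1 = 2 ^ (n - 1) - 1 by omega, ← this]
      have hd2 : orderOf (z : X ⧸ N) ∣ 2 := by
        refine ((Nat.Coprime.coprime_dvd_left ((orderOf_map_dvd (QuotientGroup.mk' N) z).trans hx.dvd)
          (Nat.Coprime.pow_left n hd.2.coprime_two_left)).dvd_of_dvd_mul_right (orderOf_dvd_of_pow_eq_one hb))
      rw [← QuotientGroup.eq_one_iff, QuotientGroup.mk_pow]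
      exact orderOf_dvd_iff_pow_eq_one.1 hd2
    · rw [show z ^ 2 = 1 by rw [← hy, pow_orderOf_eq_one]]
      exact one_mem _

variable {G : Type u} [Group G] [Finite G]

/-- The case of a trivial odd core. -/
theorem solvable_of_core (hO : ∀ K : Subgroup G, K.Normal → Odd (Nat.card K) → K = ⊥) (S : Sylow 2 G)
    (hS : Long ↥(S : Subgroup G)) : Group.IsSolvable G := by
  classical
  haveI : Fact (Nat.Prime 2) := ⟨Nat.prime_two⟩
  have of_npc : HasNormalPComplement 2 G → Group.IsSolvable G := fun h => by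
    obtain ⟨P, K, hK, hc⟩ := h
    have hK1 : K = ⊥ := hO K hK ((coprime_card_of_isComplement' hc).symm.odd_of_left)
    subst hK1
    haveI : Group.IsNilpotent ↥(P : Subgroup G) := P.isPGroup'.isNilpotent
    have hP : (P : Subgroup G) = ⊤ := Subgroup.isComplement'_bot_left.1 hc
    exact Group.isSolvable_of_surjective (f := (P : Subgroup G).subtype) fun g => ⟨⟨g, hP ▸ Subgroup.mem_top g⟩, rfl⟩
  by_cases hcyc : IsCyclic ↥(S : Subgroup G)
  · refine of_npc ?_
    by_cases h2 : 2 ∣ Nat.card G
    · exact hnpc_of_normalizer_le_centralizer S (IsCyclic.normalizer_le_centralizer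
        ((Nat.minFac_eq_two_iff _).2 h2) hcyc)
    · exact hnpc_of_not_dvd h2
  have hLong := hS
  obtain ⟨N, hN, hNc, hQc, hQ⟩ := hS
  by_cases hh : ∃ n k : ℕ, Nonempty (↥(S : Subgroup G) ≃* Multiplicative (Fin k → ZMod (2 ^ n)))
  · obtain ⟨n, k, ⟨e⟩⟩ := hh
    rcases Nat.lt_or_ge k 2 with hk | hk
    · refine absurd ?_ hcyc
      interval_cases k
      · haveI : Subsingleton ↥(S : Subgroup G) := e.toEquiv.subsingleton
        exact isCyclic_of_subsingleton
      · refine isCyclic_of_surjective (e.symm.toMonoidHom.comp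
          (AddMonoidHom.toMultiplicative (LinearEquiv.funUnique (Fin 1) ℕ (ZMod (2 ^ n))).symm.toAddMonoidHom))
          (e.symm.surjective.comp (LinearEquiv.funUnique (Fin 1) ℕ (ZMod (2 ^ n))).symm.surjective)
    have hn : 2 ≤ n := by
      by_contra hn
      push Not at hn
      refine absurd (index_le_two N hQc Subgroup.closure_univ fun x _ => ?_) (by omega)
      have : x ^ 2 = 1 := by
        refine e.injective (Multiplicative.toAdd.injective ?_)
        rw [map_pow, map_one, toAdd_pow, toAdd_one]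
        funext i
        have hz : ∀ z : ZMod (2 ^ n), 2 • z = 0 := by interval_cases n <;> decide
        exact hz _
      rw [this]; exact one_mem _
    rcases Nat.lt_or_ge k 3 with hk3 | hk3
    · obtain rfl : k = 2 := by omega
      haveI := Fintype.ofFinite G
      let f : Multiplicative (ZMod (2 ^ n) × ZMod (2 ^ n)) ≃* ↥(S : Subgroup G) :=
        ((LinearEquiv.piFinTwo ℕ fun _ => ZMod (2 ^ n)).symm.toAddEquiv.toMultiplicative).trans e.symm
      have := Char.homocyclic_sylow_two (N := 2 ^ n) S ((S : Subgroup G).subtype.comp f.toMonoidHom)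
        (by rw [show (4 : ℕ) = 2 ^ 2 by norm_num]; exact Nat.pow_dvd_pow 2 hn) ⟨n, rfl⟩
        ((S : Subgroup G).subtype_injective.comp f.injective)
        (by rw [MonoidHom.range_comp, MonoidHom.range_eq_top.2 f.surjective, ← MonoidHom.range_eq_map,
          Subgroup.range_subtype]) hO
      obtain ⟨hn', -, hi⟩ := this
      haveI : Group.IsNilpotent ↥(S : Subgroup G) := S.isPGroup'.isNilpotent
      haveI : Group.IsSolvable (G ⧸ (S : Subgroup G)) := by
        rcases hi with hi | hi
        · haveI : Subsingleton (G ⧸ (S : Subgroup G)) :=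
            (Nat.card_eq_one_iff_unique.1 (Subgroup.index_eq_card (S : Subgroup G) ▸ hi)).1
          exact Group.isSolvable_of_comm fun a b => Subsingleton.elim _ _
        · haveI : Fact (Nat.Prime 3) := ⟨Nat.prime_three⟩
          haveI := isCyclic_of_prime_card (Subgroup.index_eq_card (S : Subgroup G) ▸ hi)
          exact Group.isSolvable_of_comm fun a b => IsCyclic.commGroup.mul_comm a b
      exact (Group.isSolvable_iff_subgroup_quotient (S : Subgroup G)).2 ⟨inferInstance, inferInstance⟩
    · exfalso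
      have hin : ∀ v : Fin 3 → Fin 2, ∃ x : ↥(S : Subgroup G), x ^ 2 = 1 ∧ x = e.symm (Multiplicative.ofAdd
          fun i : Fin k => if h : (i : ℕ) < 3 then ((v ⟨i, h⟩ : ℕ) : ZMod (2 ^ n)) * 2 ^ (n - 1) else 0) := fun v =>
        ⟨_, by
          rw [← map_pow, ← map_one e.symm]
          congr 1
          refine Multiplicative.toAdd.injective ?_
          rw [toAdd_pow, toAdd_one]
          funext i
          simp only [toAdd_ofAdd, Pi.smul_apply, nsmul_eq_mul, Pi.zero_apply]
          split
          · rw [mul_left_comm, Nat.cast_ofNat, ← pow_succ', show n - 1 + 1 = n by omega,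
              show ((2 : ZMod (2 ^ n)) ^ n) = ((2 ^ n : ℕ) : ZMod (2 ^ n)) by push_cast; rfl, ZMod.natCast_self,
              mul_zero]
          · rw [mul_zero], rfl⟩
      choose x hx2 hx using hin
      haveI := Fintype.ofFinite ↥(S : Subgroup G)
      haveI := Fintype.ofFinite ↥N
      haveI := Fintype.ofFinite (↥(S : Subgroup G) ⧸ N)
      have hinj : Function.Injective x := by
        intro v w hvw
        rw [hx, hx] at hvw
        funext j
        have hj := congrFun (congrArg Multiplicative.toAdd (e.symm.injective hvw)) ⟨j, by omega⟩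
        simp only [toAdd_ofAdd, dif_pos j.2, Fin.eta] at hj
        have hne : (2 : ZMod (2 ^ n)) ^ (n - 1) ≠ 0 := by
          rw [show ((2 : ZMod (2 ^ n)) ^ (n - 1)) = ((2 ^ (n - 1) : ℕ) : ZMod (2 ^ n)) by push_cast; rfl,
            Ne, ZMod.natCast_eq_zero_iff, Nat.pow_dvd_pow_iff_le_right (by norm_num)]
          omega
        generalize v j = a, w j = b at hj ⊢
        fin_cases a <;> fin_cases b <;> simp_all
      have hN2 := IsCyclic.card_pow_eq_one_le (α := ↥N) two_pos
      have hQ2 := IsCyclic.card_pow_eq_one_le (α := ↥(S : Subgroup G) ⧸ N) two_pos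
      have hmap : ∀ a ∈ ((Finset.univ : Finset (Fin 3 → Fin 2)).image x),
          (QuotientGroup.mk a : ↥(S : Subgroup G) ⧸ N) ∈
            Finset.univ.filter fun q : ↥(S : Subgroup G) ⧸ N => q ^ 2 = 1 := by
        intro a ha
        obtain ⟨v, -, rfl⟩ := Finset.mem_image.1 ha
        rw [Finset.mem_filter, ← QuotientGroup.mk_pow, hx2, QuotientGroup.mk_one]
        exact ⟨Finset.mem_univ _, rfl⟩
      have hfib : ∀ q ∈ (Finset.univ.filter fun q : ↥(S : Subgroup G) ⧸ N => q ^ 2 = 1),
          (((Finset.univ : Finset (Fin 3 → Fin 2)).image x).filter fun a =>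
            (QuotientGroup.mk a : ↥(S : Subgroup G) ⧸ N) = q).card ≤ 2 := by
        intro q _
        rcases Finset.eq_empty_or_nonempty (((Finset.univ : Finset (Fin 3 → Fin 2)).image x).filter fun a =>
            (QuotientGroup.mk a : ↥(S : Subgroup G) ⧸ N) = q) with h0 | ⟨b, hb⟩
        · simp [h0]
        rw [Finset.mem_filter, Finset.mem_image] at hb
        obtain ⟨⟨w, -, rfl⟩, hbq⟩ := hb
        letI hcomm : CommGroup ↥(S : Subgroup G) := { (inferInstance : Group ↥(S : Subgroup G)) with
          mul_comm := fun a b => e.injective (by rw [map_mul, map_mul, mul_comm]) }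
        refine le_trans (Finset.card_le_card_of_injOn
          (fun a => if h : (x w)⁻¹ * a ∈ N then (⟨_, h⟩ : ↥N) else 1) ?_ ?_) hN2
        · intro a ha
          rw [Finset.mem_coe, Finset.mem_filter, Finset.mem_image] at ha
          obtain ⟨⟨v, -, rfl⟩, ha2⟩ := ha
          have h : (x w)⁻¹ * x v ∈ N := QuotientGroup.eq.1 (hbq.trans ha2.symm)
          simp only [dif_pos h, Finset.mem_coe, Finset.mem_filter, Finset.mem_univ, true_and]
          refine Subtype.ext ?_
          rw [Subgroup.coe_pow, mul_pow, inv_pow, hx2, hx2, inv_one, one_mul, Subgroup.coe_one]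
        · intro a ha b hb hab
          rw [Finset.mem_coe, Finset.mem_filter] at ha hb
          have ha' : (x w)⁻¹ * a ∈ N := QuotientGroup.eq.1 (hbq.trans ha.2.symm)
          have hb' : (x w)⁻¹ * b ∈ N := QuotientGroup.eq.1 (hbq.trans hb.2.symm)
          simp only [dif_pos ha', dif_pos hb', Subtype.mk.injEq] at hab
          exact mul_left_cancel hab
      have := Finset.card_le_mul_card_image_of_maps_to hmap 2 hfib
      rw [Finset.card_image_of_injective _ hinj, Finset.card_univ, Fintype.card_fun, Fintype.card_fin,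
        Fintype.card_fin] at this
      omega
  refine of_npc (hnpc_of_fusion_controlled (sylIn_top S) fun a ha g hga => ?_)
  have hinner := S5212.result (Ω := G) (S := (S : Subgroup G)) S.isPGroup'
    (groupFusionSystem (S : Subgroup G)) (Local.FS.group_saturated (sylIn_top S))
    ⟨N, hN, hNc, hQc⟩ hh (fun ⟨m, ⟨e⟩⟩ => not_long_dihedral e hLong)
    (fun ⟨m, ⟨e⟩⟩ => ?_) (fun h => not_long_quasiDihedral h hLong) (Subgroup.zpowers a)
  · have hzS : Subgroup.zpowers a ≤ (S : Subgroup G) := Subgroup.zpowers_le.2 ha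
    have hmem : Cfsg.conjHom (Subgroup.zpowers a) g ∈ (groupFusionSystem (S : Subgroup G)).Hom (Subgroup.zpowers a) := by
      refine ⟨hzS, fun y => ?_, g, fun y => rfl⟩
      obtain ⟨i, hi⟩ := Subgroup.mem_zpowers_iff.1 y.2
      show g * (y : G) * g⁻¹ ∈ (S : Subgroup G)
      rw [← hi, ← conj_zpow]
      exact zpow_mem hga i
    rw [hinner] at hmem
    obtain ⟨-, s, hs, hse⟩ := hmem
    exact ⟨s, hs, (hse ⟨a, Subgroup.mem_zpowers a⟩).symm⟩
  · rcases Nat.even_or_odd m with hm | hm
    · exact not_long_quaternion hm e hLong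
    haveI : NeZero m := ⟨fun h => by simp [h] at hm⟩
    obtain ⟨j, hj⟩ := S.isPGroup'.exists_card_eq
    have hc : Nat.card ↥(S : Subgroup G) = 4 * m := by
      rw [Nat.card_congr e.toEquiv, Nat.card_eq_fintype_card, QuaternionGroup.card]
    have hm1 : m = 1 := by
      obtain ⟨i, -, hi⟩ := (Nat.dvd_prime_pow Nat.prime_two).1
        (show m ∣ 2 ^ j by rw [← hj, hc]; exact Dvd.intro_left 4 rfl)
      rcases Nat.eq_zero_or_pos i with rfl | h
      · simpa using hi
      · exact absurd ((Nat.even_pow).2 ⟨even_two, by omega⟩) (Nat.not_even_iff_odd.2 (hi ▸ hm))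
    have hmul := N.index_mul_card
    rw [hc, hm1] at hmul
    have hN1 : N = ⊥ := by
      refine Subgroup.card_eq_one.1 ?_
      have h1 : N.index ∣ 4 := ⟨_, hmul.symm⟩
      have h2 : N.index ≤ 4 := Nat.le_of_dvd (by norm_num) h1
      interval_cases N.index <;> omega
    exact absurd (isCyclic_of_surjective ((QuotientGroup.quotientMulEquivOfEq hN1).trans
      QuotientGroup.quotientBot).toMonoidHom ((QuotientGroup.quotientMulEquivOfEq hN1).trans
      QuotientGroup.quotientBot).surjective) hcyc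

/-- A group whose Sylow 2-subgroup has a cyclic normal subgroup with cyclic quotient of order
more than two is soluble. -/
theorem solvable_of_long (hFT : OddSolvable.{u}) (S : Sylow 2 G) (hS : Long ↥(S : Subgroup G)) :
    Group.IsSolvable G := by
  haveI : Fact (Nat.Prime 2) := ⟨Nat.prime_two⟩
  haveI : Group.IsSolvable ↥(pPrimeCore 2 G) := hFT _ (card_pPrimeCore_coprime 2 G).odd_of_right
  refine (Group.isSolvable_iff_subgroup_quotient (pPrimeCore 2 G)).2 ⟨inferInstance, ?_⟩
  refine solvable_of_core (fun K hK hodd => ?_) (S.mapSurjective (QuotientGroup.mk'_surjective _)) ?_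
  · haveI := hK
    exact le_bot_iff.1 ((pPrimeCore_quotient_eq_bot (p := 2) (G := G)) ▸ le_pPrimeCore hodd.coprime_two_right)
  refine long_equiv ?_ hS
  refine (MulEquiv.ofBijective ((QuotientGroup.mk' (pPrimeCore 2 G)).subgroupMap (S : Subgroup G))
    ⟨?_, MonoidHom.subgroupMap_surjective _ _⟩).trans (MulEquiv.subgroupCongr (Sylow.coe_mapSurjective _ S).symm)
  intro a b hab
  have h : (a : G)⁻¹ * b ∈ pPrimeCore 2 G := QuotientGroup.eq.1 (congrArg Subtype.val hab)
  have h' : (a : G)⁻¹ * b ∈ pPrimeCore 2 G ⊓ (S : Subgroup G) := ⟨h, (a⁻¹ * b).2⟩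
  rw [coprime_inf_pGroup (card_pPrimeCore_coprime 2 G) S.isPGroup', Subgroup.mem_bot] at h'
  exact Subtype.ext (inv_mul_eq_one.1 h')

/-- The statement in the form of a Sylow subgroup with a cyclic normal subgroup. -/
theorem solvable_of_sylow (hFT : OddSolvable.{u}) (S : Sylow 2 G) (N : Subgroup ↥(S : Subgroup G)) [hN : N.Normal]
    (hNc : IsCyclic N) (hQc : IsCyclic (↥(S : Subgroup G) ⧸ N)) (hQ : 2 < Nat.card (↥(S : Subgroup G) ⧸ N)) :
    Group.IsSolvable G :=
  solvable_of_long hFT S ⟨N, hN, hNc, hQc, by rwa [Subgroup.index_eq_card]⟩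

end Cfsg.Agent.Solv.OddGated.MetacyclicTwo
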