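import Cfsg.Agent.Lib.Solv.OddGated.MaxInvNilStructure
import Mathlib.GroupTheory.SemidirectProduct

/-!
An action by automorphisms seen inside the semidirect product.
-/

set_option autoImplicit false

open scoped Pointwise

namespace Cfsg.Agent.Solv.OddGated.ActionModel

universe u v

variable (A : Type u) (G : Type v) [Group A] [Group G] [MulDistribMulAction A G]

/-- The semidirect product. -/
abbrev Amb := SemidirectProduct G A (MulDistribMulAction.toMulAut A G)

instance [Finite A] [Finite G] : Finite (Amb A G) :=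
  Finite.of_equiv _ SemidirectProduct.equivProd.symm

/-- The copy of `G`. -/
abbrev base : Subgroup (Amb A G) :=
  (⊤ : Subgroup G).map (SemidirectProduct.inl (φ := MulDistribMulAction.toMulAut A G))

/-- The copy of `A`. -/
abbrev top' : Subgroup (Amb A G) :=
  (SemidirectProduct.inr (φ := MulDistribMulAction.toMulAut A G)).range

variable {A G}

theorem inl_smul (a : A) (x : G) :
    (SemidirectProduct.inl (a • x) : Amb A G) =
      SemidirectProduct.inr a * SemidirectProduct.inl x * SemidirectProduct.inr a⁻¹ := by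
  rw [← SemidirectProduct.inl_aut]
  rfl

theorem card_base : Nat.card (base A G) = Nat.card G := by
  rw [Subgroup.card_map_of_injective SemidirectProduct.inl_injective, Subgroup.card_top]

theorem card_top' : Nat.card (top' A G) = Nat.card A :=
  Nat.card_congr (MonoidHom.ofInjective (SemidirectProduct.inr_injective
    (φ := MulDistribMulAction.toMulAut A G))).toEquiv.symm

theorem normalizes_iff [Finite A] [Finite G] {H : Subgroup G} :
    top' A G ≤ Subgroup.normalizer
        ((H.map SemidirectProduct.inl : Subgroup (Amb A G)) : Set (Amb A G)) ↔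
      ∀ a : A, ∀ x ∈ H, a • x ∈ H := by
  constructor
  · intro h a x hx
    have h1 := (Subgroup.mem_normalizer_iff.1 (h ⟨a, rfl⟩) _).1
      (Subgroup.mem_map_of_mem SemidirectProduct.inl hx)
    rw [← map_inv, ← inl_smul] at h1
    obtain ⟨y, hy, e⟩ := h1
    rwa [← SemidirectProduct.inl_injective e]
  · rintro h _ ⟨a, rfl⟩
    refine Solv.mem_normalizer_of_conj_smul
      (Subgroup.eq_of_le_of_card_ge ?_ (Solv.card_conj_smul _ _).ge)
    intro z hz
    rw [Solv.conj_smul_eq_map] at hz
    obtain ⟨_, ⟨x, hx, rfl⟩, rfl⟩ := hz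
    refine ⟨a • x, h a x hx, ?_⟩
    rw [inl_smul, map_inv]
    rfl

theorem normalizes_base [Finite A] [Finite G] :
    top' A G ≤ Subgroup.normalizer ((base A G : Subgroup (Amb A G)) : Set (Amb A G)) :=
  normalizes_iff.2 fun _ _ _ => trivial

theorem allNil [Finite A] [Finite G]
    (hmax : ∀ H : Subgroup G, H ≠ ⊤ → (∀ a : A, ∀ x ∈ H, a • x ∈ H) →
      (∀ K : Subgroup G, H < K → (∀ a : A, ∀ x ∈ K, a • x ∈ K) → K = ⊤) → Group.IsNilpotent H) :
    AllNil (top' A G) (base A G) := by
  intro H hH hne hA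
  set H₀ := H.comap (SemidirectProduct.inl (φ := MulDistribMulAction.toMulAut A G))
  have e : H₀.map SemidirectProduct.inl = H := by
    rw [Subgroup.map_comap_eq, inf_eq_right]
    exact hH.trans (Subgroup.map_le_range _ _)
  have hinv : ∀ a : A, ∀ x ∈ H₀, a • x ∈ H₀ := normalizes_iff.1 (e.symm ▸ hA)
  have hne₀ : H₀ ≠ ⊤ := fun h => hne (by rw [← e, h])
  obtain ⟨L, hHL, hL⟩ := Finite.exists_le_maximal
    (p := fun L : Subgroup G => L ≠ ⊤ ∧ ∀ a : A, ∀ x ∈ L, a • x ∈ L) (a := H₀) ⟨hne₀, hinv⟩
  have hn : Group.IsNilpotent L := hmax L hL.1.1 hL.1.2 fun K hK hKi => by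
    by_contra h
    exact hK.not_ge (hL.2 ⟨h, hKi⟩ hK.le)
  haveI := Solv.isNilpotent_of_le hHL hn
  rw [← e]
  exact Group.nilpotent_of_mulEquiv (H₀.equivMapOfInjective _ SemidirectProduct.inl_injective)

/-- The statement about actions. -/
theorem structure_of_maximal [Finite A] [Finite G] (hFT : OddSolvable.{max v u})
    (hcop : (Nat.card A).Coprime (Nat.card G))
    (hmax : ∀ H : Subgroup G, H ≠ ⊤ → (∀ a : A, ∀ x ∈ H, a • x ∈ H) →
      (∀ K : Subgroup G, H < K → (∀ a : A, ∀ x ∈ K, a • x ∈ K) → K = ⊤) → Group.IsNilpotent H)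
    (hG : ¬ Group.IsNilpotent G) :
    Group.IsSolvable G ∧
      (∃ p q a b : ℕ, p.Prime ∧ q.Prime ∧ p ≠ q ∧ Nat.card G = p ^ a * q ^ b) ∧
      ∃ (p : ℕ) (P : Sylow p G), p.Prime ∧ p ∣ Nat.card G ∧ (P : Subgroup G).Normal ∧
        (∀ a : A, ∀ x ∈ (P : Subgroup G), a • x ∈ (P : Subgroup G)) := by
  have hco : (Nat.card (top' A G)).Coprime (Nat.card (base A G)) := by
    rwa [card_base, card_top']
  have hnil := allNil hmax
  have hK := solvable_of_allNil hFT normalizes_base hco hnil
  let e : (⊤ : Subgroup G) ≃* base A G :=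
    (⊤ : Subgroup G).equivMapOfInjective _ SemidirectProduct.inl_injective
  let e' : G ≃* base A G := Subgroup.topEquiv.symm.trans e
  have hnn : ¬ Group.IsNilpotent (base A G) := fun h => hG
    (Group.nilpotent_of_mulEquiv e'.symm)
  refine ⟨?_, ?_, ?_⟩
  · haveI := hK
    exact Group.isSolvable_of_isSolvable_injective (f := e'.toMonoidHom) e'.injective
  · obtain ⟨p, q, hp, hq, hne, -, -, hall⟩ :=
      exists_two_primes normalizes_base hco hK hnil hnn
    rw [card_base] at hall
    refine ⟨p, q, (Nat.card G).factorization p, (Nat.card G).factorization q, hp, hq, hne, ?_⟩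
    refine Nat.dvd_antisymm ?_ ?_
    · rw [Nat.dvd_iff_prime_pow_dvd_dvd]
      intro r k hr hrk
      rcases eq_or_ne k 0 with rfl | hk
      · simp
      · have h1 := (hr.pow_dvd_iff_le_factorization Nat.card_pos.ne').1 hrk
        rcases hall r hr ((dvd_pow_self r hk).trans hrk) with rfl | rfl
        · exact dvd_mul_of_dvd_left (pow_dvd_pow _ h1) _
        · exact dvd_mul_of_dvd_right (pow_dvd_pow _ h1) _
    · exact ((Nat.coprime_primes hp hq).2 hne).pow _ _ |>.mul_dvd_of_dvd_of_dvd
        (Nat.ordProj_dvd _ _) (Nat.ordProj_dvd _ _)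
  · obtain ⟨q, Q, hq, hqK, hQ, hQn, hQA⟩ := exists_normal_sylow normalizes_base hco hK hnil hnn
    haveI := Fact.mk hq
    set P₀ := Q.comap (SemidirectProduct.inl (φ := MulDistribMulAction.toMulAut A G))
    have e2 : P₀.map SemidirectProduct.inl = Q := by
      rw [Subgroup.map_comap_eq, inf_eq_right]
      exact hQ.1.trans (Subgroup.map_le_range _ _)
    rw [card_base] at hqK
    refine ⟨q, Sylow.ofCard P₀ ?_, hq, hqK, ?_, ?_⟩
    · rw [← Subgroup.card_map_of_injective (f := SemidirectProduct.inl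
        (φ := MulDistribMulAction.toMulAut A G)) SemidirectProduct.inl_injective, e2, hQ.2,
        card_base]
    · rw [Sylow.coe_ofCard]
      refine ⟨fun x hx y => ?_⟩
      show SemidirectProduct.inl (y * x * y⁻¹) ∈ Q
      rw [map_mul, map_mul, map_inv]
      exact (Subgroup.mem_normalizer_iff.1 (hQn (Subgroup.mem_map_of_mem _ (Subgroup.mem_top y)))
        _).1 hx
    · rw [Sylow.coe_ofCard]
      exact normalizes_iff.1 (e2.symm ▸ hQA)

end Cfsg.Agent.Solv.OddGated.ActionModel
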