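import Cfsg.Prelude.Def_HallClasses
import Cfsg.Agent.Lib.Solv.SZ
import Cfsg.Agent.Lib.Solv.Coprime
import Cfsg.Agent.Lib.Fusion.Basic

/-!
Extensions preserve the property of having a single class of Hall `π`-subgroups, provided groups of odd
order are solvable.
-/

set_option autoImplicit false

namespace Cfsg.Agent.Solv.OddGated.CPi

open scoped Pointwise
open Cfsg
open Cfsg.Agent.Fusion (cj cj_eq_self card_cj)

universe u

set_option linter.unusedSectionVars false
set_option linter.style.haveILetI false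

variable {G : Type u} [Group G] [Finite G] {π : Set ℕ} {A : Subgroup G} [A.Normal] {H H' B : Subgroup G}

/-- `n` involves primes of `π` only. -/
def PiOnly (π : Set ℕ) (n : ℕ) : Prop := ∀ p : ℕ, p.Prime → p ∣ n → p ∈ π

/-- `n` involves no prime of `π`. -/
def PiFree (π : Set ℕ) (n : ℕ) : Prop := ∀ p : ℕ, p.Prime → p ∈ π → ¬ p ∣ n

theorem PiOnly.coprime {m n : ℕ} (hm : PiOnly π m) (hn : PiFree π n) : m.Coprime n :=
  Nat.coprime_of_dvd fun p hp h1 h2 => hn p hp (hm p hp h1) h2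

theorem PiFree.mul {m n : ℕ} (hm : PiFree π m) (hn : PiFree π n) : PiFree π (m * n) := fun p hp hπ h =>
  (hp.dvd_mul.1 h).elim (hm p hp hπ) (hn p hp hπ)

theorem PiOnly.mul {m n : ℕ} (hm : PiOnly π m) (hn : PiOnly π n) : PiOnly π (m * n) := fun p hp h =>
  (hp.dvd_mul.1 h).elim (hm p hp) (hn p hp)

theorem card_mul_relIndex {X Y : Subgroup G} (h : X ≤ Y) : Nat.card X * X.relIndex Y = Nat.card Y := by
  have h1 := Subgroup.relIndex_mul_relIndex ⊥ X Y bot_le h
  rwa [Subgroup.relIndex_bot_left, Subgroup.relIndex_bot_left] at h1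

/-- The index of the trace on a normal subgroup divides the index. -/
theorem relIndex_normal_dvd (H A : Subgroup G) [A.Normal] : H.relIndex A ∣ H.index := by
  have hn : H ≤ Subgroup.normalizer (A : Set G) := by rw [Subgroup.normalizer_eq_top]; exact le_top
  have h1 := card_mul_relIndex (le_sup_right : H ≤ A ⊔ H)
  have h2 := Solv.card_sup_mul_card_inf' A H hn
  have h3 := card_mul_relIndex (inf_le_left : A ⊓ H ≤ A)
  rw [inf_comm A H, Subgroup.inf_relIndex_right] at h3
  rw [← h1, ← h3, inf_comm A H] at h2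
  have h4 : H.relIndex (A ⊔ H) = H.relIndex A :=
    Nat.eq_of_mul_eq_mul_left (Nat.mul_pos (Nat.card_pos (α := H)) (Nat.card_pos (α := ↥(H ⊓ A))))
      (by linarith [h2] : Nat.card H * Nat.card ↥(H ⊓ A) * _ = Nat.card H * Nat.card ↥(H ⊓ A) * _)
  exact h4 ▸ Subgroup.relIndex_dvd_index_of_le le_sup_right

/-- The traces of a Hall subgroup on `A` and on `G / A` are Hall subgroups. -/
theorem hall_traces (hH : IsPiHall π H) :
    IsPiHall π (H.subgroupOf A) ∧ IsPiHall π (H.map (QuotientGroup.mk' A)) := by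
  refine ⟨⟨fun p hp h => ?_, fun p hp hπ h => ?_⟩, fun p hp h => ?_, fun p hp hπ h => ?_⟩
  · exact hH.1 p hp (h.trans (Subgroup.card_comap_dvd_of_injective H A.subtype A.subtype_injective))
  · exact hH.2 p hp hπ (h.trans (relIndex_normal_dvd H A))
  · exact hH.1 p hp (h.trans (H.card_map_dvd _))
  · exact hH.2 p hp hπ (h.trans (H.index_map_dvd (QuotientGroup.mk'_surjective A)))

/-- A subgroup of `A` with the order of a Hall subgroup of `A` is a Hall subgroup of `A`. -/
theorem hall_of_card {B₀ C : Subgroup A} (h : IsPiHall π B₀) (hc : Nat.card C = Nat.card B₀) : IsPiHall π C := by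
  refine ⟨fun p hp hd => h.1 p hp (hc ▸ hd), fun p hp hπ hd => h.2 p hp hπ ?_⟩
  have h1 := C.card_mul_index
  rw [hc, ← B₀.card_mul_index] at h1
  rwa [← Nat.eq_of_mul_eq_mul_left Nat.card_pos h1]

/-- Frattini argument for a single class of Hall subgroups of a normal subgroup. -/
theorem frattini (hA : IsCPiGroup π ↥A) (hBA : B ≤ A) (hB : IsPiHall π (B.subgroupOf A)) (g : G) :
    ∃ a ∈ A, a⁻¹ * g ∈ Subgroup.normalizer (B : Set G) := by
  have hle : cj B g ≤ A := (Fusion.cj_mono hBA g).trans (cj_eq_self (by rw [Subgroup.normalizer_eq_top]; trivial)).le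
  have hC : IsPiHall π ((cj B g).subgroupOf A) := hall_of_card hB (by
    rw [Solv.card_subgroupOf hle, Solv.card_subgroupOf hBA, card_cj])
  obtain ⟨a, ha⟩ := hA.2 _ _ hB hC
  refine ⟨a, a.2, Fusion.mem_normalizer_iff_cj.2 ?_⟩
  have h1 : cj B g = cj B (a : G) := by
    have h2 := congrArg (Subgroup.map A.subtype) ha
    rw [Subgroup.map_subgroupOf_eq_of_le hle, Subgroup.map_map] at h2
    rw [h2, show (A.subtype.comp (MulAut.conj a).toMonoidHom) =
      (MulAut.conj (a : G)).toMonoidHom.comp A.subtype from MonoidHom.ext fun x => rfl,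
      ← Subgroup.map_map, Subgroup.map_subgroupOf_eq_of_le hBA]
  rw [← Fusion.cj_cj, h1, Fusion.cj_cj_inv]

/-- The quotient of the preimage of a Hall subgroup of `G / A` inside `N(B)` by `B`. -/
structure Frame (π : Set ℕ) (A B : Subgroup G) [A.Normal] (Kq : Subgroup (G ⧸ A)) : Prop where
  le : B ≤ A
  hall : IsPiHall π (B.subgroupOf A)
  cpi : IsCPiGroup π ↥A
  hallQ : IsPiHall π Kq

/-- The preimage of `Kq` in `N(B)`. -/
def Frame.top {Kq : Subgroup (G ⧸ A)} (_ : Frame π A B Kq) : Subgroup G :=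
  Kq.comap (QuotientGroup.mk' A) ⊓ Subgroup.normalizer (B : Set G)

theorem Frame.main {Kq : Subgroup (G ⧸ A)} (f : Frame π A B Kq)
    (hFT : ∀ (X : Type u) [Group X] [Finite X], Odd (Nat.card X) → Group.IsSolvable X) :
    (∃ H : Subgroup G, IsPiHall π H) ∧ ∀ H H' : Subgroup G, IsPiHall π H → IsPiHall π H' →
      H ⊓ A = B → H' ⊓ A = B → H.map (QuotientGroup.mk' A) = Kq → H'.map (QuotientGroup.mk' A) = Kq →
      ∃ g : G, H' = cj H g := by
  obtain ⟨M, hM⟩ : ∃ M : Subgroup G, M = f.top := ⟨_, rfl⟩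
  have hBM : B ≤ M := hM ▸ le_inf (fun b hb => Subgroup.mem_comap.2 (by
    rw [QuotientGroup.mk'_apply, (QuotientGroup.eq_one_iff b).2 (f.le hb)]; exact Kq.one_mem))
    Subgroup.le_normalizer
  haveI : (B.subgroupOf M).Normal := (Subgroup.normal_subgroupOf_iff_le_normalizer hBM).2 (hM ▸ inf_le_right)
  let Bm := B.subgroupOf M
  let φ : ↥M →* G ⧸ A := (QuotientGroup.mk' A).comp M.subtype
  have hφr : φ.range = Kq := by
    refine le_antisymm ?_ fun q hq => ?_
    · rintro _ ⟨m, rfl⟩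
      exact (Subgroup.mem_inf.1 (hM.le m.2)).1
    obtain ⟨g, rfl⟩ := QuotientGroup.mk'_surjective A q
    obtain ⟨a, ha, hag⟩ := frattini f.cpi f.le f.hall g
    have he : QuotientGroup.mk' A (a⁻¹ * g) = QuotientGroup.mk' A g := by
      rw [map_mul, QuotientGroup.mk'_apply, (QuotientGroup.eq_one_iff (a⁻¹)).2 (A.inv_mem ha), one_mul]
    exact ⟨⟨a⁻¹ * g, hM.ge ⟨Subgroup.mem_comap.2 (he ▸ hq), hag⟩⟩, he⟩
  have hker : φ.ker = A.subgroupOf M := by
    ext m
    simp [φ, MonoidHom.mem_ker, Subgroup.mem_subgroupOf]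
  have hBk : Bm ≤ φ.ker := hker ▸ fun m hm => f.le hm
  let π₁ := QuotientGroup.mk' Bm
  let D := φ.ker.map π₁
  haveI : D.Normal := Subgroup.Normal.map inferInstance _ (QuotientGroup.mk'_surjective Bm)
  have hcomapD : D.comap π₁ = φ.ker := by
    rw [Subgroup.comap_map_eq, QuotientGroup.ker_mk', sup_eq_left.2 hBk]
  have hDi : D.index = Nat.card Kq := by
    rw [← Subgroup.index_comap_of_surjective D (QuotientGroup.mk'_surjective Bm)]
    show (D.comap π₁).index = _
    rw [hcomapD, Subgroup.index_ker, hφr]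
  have hBmc : Nat.card Bm = Nat.card B := Solv.card_subgroupOf hBM
  have hcomap : ∀ W : Subgroup (↥M ⧸ Bm), Nat.card (W.comap π₁) = Nat.card B * Nat.card W := fun W => by
    have h1 := (W.comap π₁).card_mul_index
    rw [Subgroup.index_comap_of_surjective _ (QuotientGroup.mk'_surjective Bm), ← Bm.card_mul_index,
      Subgroup.index_eq_card (H := Bm), ← W.card_mul_index, hBmc, ← mul_assoc] at h1
    exact Nat.eq_of_mul_eq_mul_right (Nat.pos_of_ne_zero Subgroup.index_ne_zero_of_finite) h1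
  have hDc : Nat.card D ∣ (B.subgroupOf A).index := by
    have h1 := hcomap D
    rw [hcomapD, hker] at h1
    have h2 : Nat.card ↥(A.subgroupOf M) ∣ Nat.card A :=
      Subgroup.card_comap_dvd_of_injective A M.subtype M.subtype_injective
    rw [← (B.subgroupOf A).card_mul_index, Solv.card_subgroupOf f.le, h1] at h2
    exact Nat.dvd_of_mul_dvd_mul_left Nat.card_pos h2
  have hfree : PiFree π (Nat.card D) := fun p hp hπ hd => f.hall.2 p hp hπ (hd.trans hDc)
  have hco : (Nat.card D).Coprime D.index := by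
    rw [hDi]
    exact (PiOnly.coprime f.hallQ.1 hfree).symm
  refine ⟨?_, fun H H' hH hH' hi hi' hq hq' => ?_⟩
  · obtain ⟨W, hW⟩ := Subgroup.exists_right_complement'_of_coprime hco
    have hWc : Nat.card W = Nat.card Kq := by rw [← hDi, hW.symm.index_eq_card]
    obtain ⟨H, hHdef⟩ : ∃ H : Subgroup G, H = (W.comap π₁).map M.subtype := ⟨_, rfl⟩
    have hHc : Nat.card H = Nat.card B * Nat.card Kq := by
      rw [hHdef, Subgroup.card_map_of_injective M.subtype_injective, hcomap, hWc]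
    have hBonly : PiOnly π (Nat.card B) := fun p hp hd => f.hall.1 p hp (by rwa [Solv.card_subgroupOf f.le])
    refine ⟨H, fun p hp hd => PiOnly.mul hBonly f.hallQ.1 p hp (hHc ▸ hd), fun p hp hπ hd => ?_⟩
    have h1 := H.card_mul_index
    rw [hHc, ← A.card_mul_index, Subgroup.index_eq_card (H := A), ← (B.subgroupOf A).card_mul_index,
      Solv.card_subgroupOf f.le, ← Kq.card_mul_index, mul_mul_mul_comm] at h1
    rw [Nat.eq_of_mul_eq_mul_left (Nat.mul_pos Nat.card_pos Nat.card_pos) h1] at hd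
    exact PiFree.mul f.hall.2 f.hallQ.2 p hp hπ hd
  have hmemM : ∀ {X : Subgroup G}, X ⊓ A = B → X.map (QuotientGroup.mk' A) = Kq → X ≤ M := by
    intro X hXi hXq x hx
    refine hM.ge ⟨Subgroup.mem_comap.2 (hXq.le (Subgroup.mem_map_of_mem _ hx)), Fusion.mem_normalizer_iff_cj.2 ?_⟩
    rw [← hXi, Fusion.cj_inf, Fusion.cj_eq_self_of_mem hx, cj_eq_self (by rw [Subgroup.normalizer_eq_top]; trivial)]
  have himg : ∀ {X : Subgroup G}, X ⊓ A = B → X.map (QuotientGroup.mk' A) = Kq →
      ((X.subgroupOf M).map π₁).comap π₁ = X.subgroupOf M ∧ Nat.card ((X.subgroupOf M).map π₁) = D.index := by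
    intro X hXi hXq
    have hBX : B ≤ X := hXi ▸ inf_le_left
    have hXc : ((X.subgroupOf M).map π₁).comap π₁ = X.subgroupOf M := by
      rw [Subgroup.comap_map_eq, QuotientGroup.ker_mk', sup_eq_left]
      exact fun m hm => Subgroup.mem_subgroupOf.2 (hBX (Subgroup.mem_subgroupOf.1 hm))
    refine ⟨hXc, ?_⟩
    have h1 := hcomap ((X.subgroupOf M).map π₁)
    rw [hXc, Solv.card_subgroupOf (hmemM hXi hXq)] at h1
    have h2 : Nat.card X = Nat.card B * Nat.card Kq := by
      have h5 : Nat.card ↥(A.subgroupOf X) = Nat.card ↥(X ⊓ A) := by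
        rw [← Subgroup.card_map_of_injective X.subtype_injective, Subgroup.subgroupOf_map_subtype, inf_comm]
      rw [← hXq, ← hXi, ← Subgroup.card_mul_index (A.subgroupOf X), h5]
      congr 1
      rw [show A.subgroupOf X = ((QuotientGroup.mk' A).comp X.subtype).ker from by
        ext x; simp [Subgroup.mem_subgroupOf], Subgroup.index_ker, MonoidHom.range_eq_map, ← Subgroup.map_map,
        ← MonoidHom.range_eq_map, Subgroup.range_subtype]
    rw [hDi]
    exact (Nat.eq_of_mul_eq_mul_left Nat.card_pos (h2.symm.trans h1)).symm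
  obtain ⟨hc, hn⟩ := himg hi hq
  obtain ⟨hc', hn'⟩ := himg hi' hq'
  have hsol : Group.IsSolvable D ∨ Group.IsSolvable ((H.subgroupOf M).map π₁) := by
    by_cases hodd : Odd (Nat.card D)
    · exact Or.inl (hFT _ hodd)
    refine Or.inr (hFT _ ?_)
    rw [hn]
    refine Nat.not_even_iff_odd.1 fun he => hodd (Nat.not_even_iff_odd.1 fun he' => ?_)
    exact absurd (Nat.eq_one_of_dvd_coprimes hco he'.two_dvd he.two_dvd) (by norm_num)
  obtain ⟨y, -, hy⟩ := Solv.sz_conj D _ _ hco hn hn' hsol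
  obtain ⟨m, rfl⟩ := QuotientGroup.mk'_surjective Bm y
  rw [Solv.conj_smul_eq_map] at hy
  refine ⟨m, ?_⟩
  have h3 : (H'.subgroupOf M) = (H.subgroupOf M).map (MulAut.conj m).toMonoidHom := by
    rw [← hc', ← hy, Subgroup.map_map, show (MulAut.conj (π₁ m)).toMonoidHom.comp π₁ =
      π₁.comp (MulAut.conj m).toMonoidHom from MonoidHom.ext fun z => (map_mul π₁ _ _).symm ▸ by simp [π₁],
      ← Subgroup.map_map, Subgroup.comap_map_eq, QuotientGroup.ker_mk', sup_eq_left]
    intro z hz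
    refine ⟨m⁻¹ * z * m, Subgroup.mem_subgroupOf.2 ((hi ▸ inf_le_left : B ≤ H) (Subgroup.mem_subgroupOf.1
      (?_ : m⁻¹ * z * m ∈ Bm))), by simp [mul_assoc]⟩
    simpa using (inferInstance : Bm.Normal).conj_mem z hz m⁻¹
  have h4 := congrArg (Subgroup.map M.subtype) h3
  rw [Subgroup.map_subgroupOf_eq_of_le (hmemM hi' hq'), Subgroup.map_map,
    show M.subtype.comp (MulAut.conj m).toMonoidHom = (MulAut.conj (m : G)).toMonoidHom.comp M.subtype from
      MonoidHom.ext fun x => rfl, ← Subgroup.map_map, Subgroup.map_subgroupOf_eq_of_le (hmemM hi hq)] at h4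
  exact h4

/-- Groups with a single class of Hall `π`-subgroups are closed under extensions. -/
theorem cpi_extension (hFT : ∀ (X : Type u) [Group X] [Finite X], Odd (Nat.card X) → Group.IsSolvable X)
    (hA : IsCPiGroup π ↥A) (hQ : IsCPiGroup π (G ⧸ A)) : IsCPiGroup π G := by
  obtain ⟨B₀, hB₀⟩ := hA.1
  obtain ⟨Kq, hKq⟩ := hQ.1
  have hmap : (B₀.map A.subtype).subgroupOf A = B₀ := Subgroup.comap_map_eq_self_of_injective A.subtype_injective _
  have f : Frame π A (B₀.map A.subtype) Kq := ⟨Subgroup.map_subtype_le _, hmap.symm ▸ hB₀, hA, hKq⟩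
  refine ⟨(f.main hFT).1, fun H K hH hK => ?_⟩
  obtain ⟨hiH, hqH⟩ := hall_traces (A := A) hH
  obtain ⟨hiK, hqK⟩ := hall_traces (A := A) hK
  obtain ⟨q, hq⟩ := hQ.2 _ _ hqK hqH
  obtain ⟨g, rfl⟩ := QuotientGroup.mk'_surjective A q
  have hmapc : ∀ (X : Subgroup G) (x : G), (cj X x).map (QuotientGroup.mk' A) =
      (X.map (QuotientGroup.mk' A)).map (MulAut.conj (QuotientGroup.mk' A x)).toMonoidHom := fun X x => by
    show (X.map _).map _ = _
    rw [Subgroup.map_map, Subgroup.map_map]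
    congr 1
  have hK₁ : IsPiHall π (cj K g) := by
    refine ⟨fun p hp hd => hK.1 p hp (card_cj K g ▸ hd), fun p hp hπ hd => hK.2 p hp hπ ?_⟩
    have h1 := (cj K g).card_mul_index
    rw [card_cj, ← K.card_mul_index] at h1
    rwa [← Nat.eq_of_mul_eq_mul_left Nat.card_pos h1]
  obtain ⟨a, ha⟩ := hA.2 _ _ (hall_traces (A := A) hK₁).1 hiH
  set K₂ := cj (cj K g) (a : G) with hK₂def
  have hK₂ : IsPiHall π K₂ := by
    refine ⟨fun p hp hd => hK₁.1 p hp (card_cj (cj K g) (a : G) ▸ hd), fun p hp hπ hd => hK₁.2 p hp hπ ?_⟩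
    have h1 := K₂.card_mul_index
    rw [hK₂def, card_cj, ← (cj K g).card_mul_index] at h1
    rwa [← Nat.eq_of_mul_eq_mul_left Nat.card_pos h1]
  have hnA : ∀ x : G, cj A x = A := fun x => cj_eq_self ((Subgroup.normalizer_eq_top_iff.2 ‹A.Normal›).ge (Subgroup.mem_top x))
  have hi₂ : K₂ ⊓ A = H ⊓ A := by
    have h2 := congrArg (Subgroup.map A.subtype) ha
    rw [Subgroup.subgroupOf_map_subtype, Subgroup.map_map,
      show A.subtype.comp (MulAut.conj a).toMonoidHom = (MulAut.conj (a : G)).toMonoidHom.comp A.subtype from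
        MonoidHom.ext fun x => rfl, ← Subgroup.map_map, Subgroup.subgroupOf_map_subtype] at h2
    rw [h2, hK₂def]
    show _ = cj (cj K g ⊓ A) (a : G)
    rw [Fusion.cj_inf, hnA]
  have hq₂ : K₂.map (QuotientGroup.mk' A) = H.map (QuotientGroup.mk' A) := by
    rw [hK₂def, hmapc, show QuotientGroup.mk' A (a : G) = 1 from (QuotientGroup.eq_one_iff _).2 a.2, hmapc, ← hq]
    ext z; simp
  have f₂ : Frame π A (H ⊓ A) (H.map (QuotientGroup.mk' A)) :=
    ⟨inf_le_right, by rw [Subgroup.inf_subgroupOf_right]; exact hiH, hA, hqH⟩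
  obtain ⟨m, hm⟩ := (f₂.main hFT).2 K₂ H hK₂ hH hi₂ rfl hq₂ rfl
  refine ⟨(m * ((a : G) * g))⁻¹, ?_⟩
  show K = cj H _
  rw [hm, hK₂def, Fusion.cj_cj, Fusion.cj_cj, Fusion.cj_cj,
    show (m * ((a : G) * g))⁻¹ * m * (a : G) * g = 1 by group, Fusion.cj_one]

end Cfsg.Agent.Solv.OddGated.CPi
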