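import Cfsg.Agent.Lib.Solv.SquarefreeClass.Basic
import Cfsg.Agent.Lib.Solv.Parts
import Mathlib

/-!
A group in which four divides no class size is solvable, given that groups of odd order are
solvable: in a simple group some involution, or square in a Sylow 2-subgroup, would have a
conjugate commuting with every element.
-/

set_option autoImplicit false
set_option linter.style.haveILetI false
set_option linter.unusedSectionVars false

namespace Cfsg.Agent.Solv.OddGated.ClassFour

open Subgroup
open scoped IsMulCommutative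

universe u

variable {G : Type u} [Group G] [Finite G]

/-- Four divides no class size. -/
def NoFour (G : Type u) [Group G] : Prop :=
  ∀ x : G, ¬ 4 ∣ (Subgroup.centralizer ({x} : Set G)).index

theorem NoFour.normal (h : NoFour G) (N : Subgroup G) [N.Normal] : NoFour N := by
  intro x h4
  refine h (x : G) (h4.trans ?_)
  have e : centralizer ({x} : Set N) = (centralizer ({(x : G)} : Set G)).subgroupOf N := by
    ext y
    simp [mem_centralizer_singleton_iff, mem_subgroupOf, Subtype.ext_iff]
  rw [e]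
  exact SquarefreeClass.relIndex_dvd_index N _

theorem NoFour.quotient (h : NoFour G) (N : Subgroup G) [N.Normal] : NoFour (G ⧸ N) := by
  intro y h4
  obtain ⟨x, rfl⟩ := QuotientGroup.mk'_surjective N y
  exact h x (h4.trans (SquarefreeClass.index_map_centralizer_dvd _ (QuotientGroup.mk'_surjective N) x))

/-- Some element of a Sylow 2-subgroup of a simple group has a conjugate in every subgroup of
index at most two of it. -/
theorem exists_everywhere [IsSimpleGroup G] (hna : ∃ a b : G, a * b ≠ b * a) (S : Sylow 2 G)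
    (hS : (S : Subgroup G) ≠ ⊥) :
    ∃ s : G, s ≠ 1 ∧ ∀ R : Subgroup G, R ≤ S → R.relIndex S ∣ 2 → ∃ g : G, g * s * g⁻¹ ∈ R := by
  classical
  haveI : Fact (Nat.Prime 2) := ⟨Nat.prime_two⟩
  by_cases hexp : ∀ a ∈ (S : Subgroup G), a * a = 1
  swap
  · push Not at hexp
    obtain ⟨a, ha, ha2⟩ := hexp
    refine ⟨a * a, ha2, fun R hR hi => ⟨1, ?_⟩⟩
    rw [one_mul, inv_one, mul_one]
    rcases (Nat.dvd_prime Nat.prime_two).1 hi with h1 | h2
    · have := Subgroup.relIndex_eq_one.1 h1 ha
      exact R.mul_mem this this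
    · have := Subgroup.mul_self_mem_of_index_two (H := R.subgroupOf S) h2 ⟨a, ha⟩
      exact this
  · -- the Sylow subgroup is elementary abelian
    haveI hab : IsMulCommutative (S : Subgroup G) := ⟨⟨fun a b => Subtype.ext (by
      have h1 := hexp _ ((a * b : (S : Subgroup G))).2
      have h2 := hexp _ a.2
      have h3 := hexp _ b.2
      simp only [Subgroup.coe_mul] at h1 ⊢
      calc (a : G) * b = ((a : G) * b)⁻¹ := eq_inv_of_mul_eq_one_left h1
        _ = (b : G) * a := by
          rw [mul_inv_rev, inv_eq_of_mul_eq_one_right h2, inv_eq_of_mul_eq_one_right h3])⟩⟩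
    obtain ⟨⟨s, hsS⟩, hs1⟩ := (Subgroup.ne_bot_iff_exists_ne_one (H := (S : Subgroup G))).1 hS
    have hs : s ≠ 1 := fun e => hs1 (Subtype.ext e)
    refine ⟨s, hs, fun R hR hi => ?_⟩
    by_contra hno
    push Not at hno
    rcases (Nat.dvd_prime Nat.prime_two).1 hi with h1 | h2
    · exact hno 1 (by rw [one_mul, inv_one, mul_one]; exact Subgroup.relIndex_eq_one.1 h1 hsS)
    set N : Subgroup G := Subgroup.normalizer (S : Set G) with hN
    have hSN : (S : Subgroup G) ≤ N := Subgroup.le_normalizer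
    let S' : Subgroup N := (S : Subgroup G).subgroupOf N
    letI := Fintype.ofFinite (N ⧸ S')
    have hcomm : ∀ a ∈ (S : Subgroup G), ∀ b ∈ (S : Subgroup G), a * b = b * a := fun a ha b hb =>
      congrArg Subtype.val (mul_comm' (⟨a, ha⟩ : (S : Subgroup G)) ⟨b, hb⟩)
    have hNS : ∀ (n : N) (y : G), y ∈ (S : Subgroup G) → (n : G) * y * (n : G)⁻¹ ∈ (S : Subgroup G) :=
      fun n y hy => (Subgroup.mem_normalizer_iff.1 n.2 y).1 hy
    let φ : N ⧸ S' → (S : Subgroup G) := fun q => ⟨(q.out : G) * s * (q.out : G)⁻¹, hNS _ _ hsS⟩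
    have hφ : ∀ n : N, (φ (QuotientGroup.mk n) : G) = (n : G) * s * (n : G)⁻¹ := by
      intro n
      obtain ⟨⟨t, ht⟩, e⟩ := QuotientGroup.mk_out_eq_mul S' n
      show (((QuotientGroup.mk n : N ⧸ S').out : N) : G) * s * _⁻¹ = _
      rw [e, Subgroup.coe_mul, mul_inv_rev]
      have : (t : G) * s = s * (t : G) := hcomm _ ht _ hsS
      rw [show (n : G) * (t : G) * s * ((t : G)⁻¹ * (n : G)⁻¹) = (n : G) * ((t : G) * s) * ((t : G)⁻¹ * (n : G)⁻¹) by group,
        this]
      group
    let f : (S : Subgroup G) := ∏ q, φ q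
    have hcard : Odd (Fintype.card (N ⧸ S')) := by
      rw [← Nat.card_eq_fintype_card, ← Subgroup.index_eq_card]
      refine Nat.not_even_iff_odd.1 fun he => ?_
      exact S.not_dvd_index (he.two_dvd.trans (Subgroup.relIndex_dvd_index_of_le hSN))
    -- the product avoids `R`
    let R' : Subgroup (S : Subgroup G) := R.subgroupOf S
    have hRi : R'.index = 2 := h2
    have hfR : f ∉ R' := by
      haveI : R'.Normal := Subgroup.normal_of_index_eq_two hRi
      rw [← QuotientGroup.eq_one_iff]
      show QuotientGroup.mk' R' (∏ q, φ q) ≠ 1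
      rw [map_prod]
      have hq : Nat.card ((S : Subgroup G) ⧸ R') = 2 := hRi
      have hu : ∀ q, QuotientGroup.mk' R' (φ q) = QuotientGroup.mk' R' (φ (QuotientGroup.mk 1)) ∧
          QuotientGroup.mk' R' (φ q) ≠ 1 := by
        have hne : ∀ q, QuotientGroup.mk' R' (φ q) ≠ 1 := fun q h => hno _ ((QuotientGroup.eq_one_iff (φ q)).1 h)
        intro q
        refine ⟨?_, hne q⟩
        obtain ⟨a, -, huniq⟩ := Nat.card_eq_two_iff' (1 : (S : Subgroup G) ⧸ R') |>.1 hq
        rw [huniq _ (hne q), huniq _ (hne _)]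
      rw [Finset.prod_congr rfl fun q _ => (hu q).1, Finset.prod_const, Finset.card_univ]
      intro h
      have h' : orderOf (QuotientGroup.mk' R' (φ (QuotientGroup.mk 1))) ∣ 2 := (_root_.orderOf_dvd_natCard _).trans hq.dvd
      have h'' := Nat.dvd_gcd h' (orderOf_dvd_of_pow_eq_one h)
      rw [Nat.coprime_iff_gcd_eq_one.1 (Nat.coprime_two_left.2 hcard), Nat.dvd_one, orderOf_eq_one_iff] at h''
      exact (hu _).2 h''
    -- it is fixed by the normalizer
    have hinv : ∀ n : N, (n : G) * (f : G) * (n : G)⁻¹ = f := by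
      intro n
      let c : (S : Subgroup G) →* (S : Subgroup G) :=
        { toFun := fun y => ⟨(n : G) * y * (n : G)⁻¹, hNS n _ y.2⟩
          map_one' := Subtype.ext (by simp)
          map_mul' := fun a b => Subtype.ext (by simp [mul_assoc]) }
      show ((c f : (S : Subgroup G)) : G) = f
      rw [show c f = ∏ q, c (φ q) from map_prod c φ _]
      congr 1
      refine Fintype.prod_equiv (MulAction.toPerm n) _ _ fun q => Subtype.ext ?_
      obtain ⟨m, rfl⟩ := QuotientGroup.mk_surjective q
      show (n : G) * (φ (QuotientGroup.mk m) : G) * (n : G)⁻¹ = (φ (n • QuotientGroup.mk m) : G)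
      rw [hφ, MulAction.Quotient.smul_mk, hφ, smul_eq_mul, Subgroup.coe_mul]
      group
    -- transfer
    have hkey : ∀ (k : ℕ) (g₀ : G), g₀⁻¹ * (f : G) ^ k * g₀ ∈ (S : Subgroup G) →
        g₀⁻¹ * (f : G) ^ k * g₀ = (f : G) ^ k := by
      intro k g₀ hk
      obtain ⟨n, hn, e⟩ := S.conj_eq_normalizer_conj_of_mem _ g₀ ((S : Subgroup G).pow_mem f.2 k) hk
      rw [e]
      have h' := congrArg (MulAut.conj n⁻¹) (congrArg (· ^ k) (hinv ⟨n, hn⟩))
      simp only [conj_pow, MulAut.conj_apply, inv_inv] at h'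
      rw [← h']
      group
    have ht := MonoidHom.transfer_eq_pow (MonoidHom.id (S : Subgroup G)) (f : G) hkey
    have hker : (MonoidHom.transfer (MonoidHom.id (S : Subgroup G))).ker = ⊤ := by
      refine (IsSimpleGroup.eq_bot_or_eq_top_of_normal _ inferInstance).resolve_left fun hbot => ?_
      obtain ⟨a, b, hab'⟩ := hna
      exact hab' ((MonoidHom.ker_eq_bot_iff _).1 hbot (by rw [map_mul, map_mul, mul_comm']))
    have h1 : MonoidHom.transfer (MonoidHom.id (S : Subgroup G)) (f : G) = 1 :=
      MonoidHom.mem_ker.1 (hker ▸ Subgroup.mem_top _)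
    rw [h1] at ht
    refine hfR ?_
    obtain ⟨j, hj⟩ := Nat.not_even_iff_odd.1 (fun he : Even (S : Subgroup G).index => S.not_dvd_index he.two_dvd)
    have hf2 : f * f = 1 := Subtype.ext (hexp _ f.2)
    have e : f ^ (S : Subgroup G).index = f := by
      rw [hj, pow_succ, pow_mul, sq, hf2, one_pow, one_mul]
    have : f = 1 := by
      rw [← e]
      exact Subtype.ext (congrArg Subtype.val ht).symm
    rw [this]
    exact one_mem _

/-- No nonabelian simple group of even order. -/
theorem not_simple [IsSimpleGroup G] (hna : ∃ a b : G, a * b ≠ b * a) (h2 : 2 ∣ Nat.card G) (h : NoFour G) :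
    False := by
  classical
  haveI : Fact (Nat.Prime 2) := ⟨Nat.prime_two⟩
  obtain ⟨S⟩ : Nonempty (Sylow 2 G) := inferInstance
  obtain ⟨s, hs, hev⟩ := exists_everywhere hna S (S.ne_bot_of_dvd_card h2)
  obtain ⟨a, b, hab⟩ := hna
  have hC : Subgroup.centralizer ({s} : Set G) ≠ ⊤ := fun htop => by
    have hz : s ∈ Subgroup.center G := Subgroup.mem_center_iff.2 fun g =>
      Subgroup.mem_centralizer_singleton_iff.1 (htop ▸ Subgroup.mem_top g)
    rcases (inferInstance : (Subgroup.center G).Normal).eq_bot_or_eq_top with hc | hc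
    · exact hs (Subgroup.mem_bot.1 (hc ▸ hz))
    · exact hab (Subgroup.mem_center_iff.1 (hc ▸ Subgroup.mem_top b) a)
  refine hC (Cfsg.Agent.Solv.eq_top_of_forall_conj_mem _ fun x => ?_)
  set C := Subgroup.centralizer ({x} : Set G)
  obtain ⟨R⟩ : Nonempty (Sylow 2 C) := inferInstance
  obtain ⟨P, hP⟩ := (R.isPGroup'.map C.subtype).exists_le_sylow
  obtain ⟨g, rfl⟩ := MulAction.exists_smul_eq G S P
  set T : Subgroup G := (R : Subgroup C).map C.subtype
  set R₀ : Subgroup G := T.map (MulAut.conj g⁻¹).toMonoidHom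
  have hR₀ : R₀ ≤ S := by
    rintro _ ⟨y, hy, rfl⟩
    have := hP hy
    rw [Sylow.coe_subgroup_smul, Subgroup.mem_pointwise_smul_iff_inv_smul_mem] at this
    simpa [MulAut.smul_def] using this
  have hi : R₀.relIndex S ∣ 2 := by
    obtain ⟨k, hk⟩ := IsPGroup.iff_card.1 S.isPGroup'
    obtain ⟨i, -, hi⟩ := (Nat.dvd_prime_pow Nat.prime_two).1 (hk ▸ Subgroup.relIndex_dvd_card R₀ (S : Subgroup G))
    have hT : Nat.card R₀ = Nat.card (R : Subgroup C) := by
      rw [Subgroup.card_map_of_injective (MulAut.conj g⁻¹).injective, Subgroup.card_map_of_injective C.subtype_injective]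
    have hidx : R₀.relIndex S * (S : Subgroup G).index = (R : Subgroup C).index * C.index := by
      rw [Subgroup.relIndex_mul_index hR₀]
      refine Nat.eq_of_mul_eq_mul_right (Nat.card_pos (α := R₀)) ?_
      rw [Subgroup.index_mul_card, hT, mul_right_comm, Subgroup.index_mul_card, mul_comm, Subgroup.index_mul_card]
    rw [hi]
    rcases Nat.lt_or_ge i 2 with hlt | hge
    · interval_cases i <;> simp
    · exfalso
      refine h x ((((Nat.prime_two.coprime_iff_not_dvd).2 R.not_dvd_index).pow_left 2).dvd_of_dvd_mul_left ?_)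
      rw [← hidx, hi]
      exact dvd_mul_of_dvd_left (pow_dvd_pow 2 hge) _
  obtain ⟨t, ht⟩ := hev R₀ hR₀ hi
  obtain ⟨y, hy, e⟩ := ht
  obtain ⟨⟨y', hy'⟩, -, rfl⟩ := hy
  have hc : y' * x = x * y' := Subgroup.mem_centralizer_singleton_iff.1 hy'
  refine ⟨t⁻¹ * g⁻¹, Subgroup.mem_centralizer_singleton_iff.2 ?_⟩
  have e' : t * s * t⁻¹ = g⁻¹ * y' * g := by rw [← e]; simp [MulAut.conj_apply]
  calc t⁻¹ * g⁻¹ * x * (t⁻¹ * g⁻¹)⁻¹ * s
      = t⁻¹ * g⁻¹ * x * g * (t * s * t⁻¹) * t := by group
    _ = t⁻¹ * g⁻¹ * (x * y') * g * t := by rw [e']; group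
    _ = t⁻¹ * g⁻¹ * (y' * x) * g * t := by rw [hc]
    _ = t⁻¹ * (t * s * t⁻¹) * g⁻¹ * x * g * t := by rw [e']; group
    _ = s * (t⁻¹ * g⁻¹ * x * (t⁻¹ * g⁻¹)⁻¹) := by group

/-- If four divides no class size then the group is solvable. -/
theorem solvable (hodd : ∀ (X : Type u) [Group X] [Finite X], Odd (Nat.card X) → Group.IsSolvable X)
    (h : NoFour G) : Group.IsSolvable G := by
  induction hn : Nat.card G using Nat.strong_induction_on generalizing G with
  | _ n ih =>
    subst hn
    rcases subsingleton_or_nontrivial G with hs | hs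
    · exact Group.isSolvable_of_comm fun a b => Subsingleton.elim _ _
    by_cases hc : ∀ a b : G, a * b = b * a
    · exact Group.isSolvable_of_comm hc
    by_cases hN : ∃ N : Subgroup G, N.Normal ∧ N ≠ ⊥ ∧ N ≠ ⊤
    · obtain ⟨N, hNn, hb, ht⟩ := hN
      haveI : Group.IsSolvable N := ih _ (lt_of_le_of_ne N.card_le_card_group fun e => ht (N.eq_top_of_card_eq e))
        (h.normal N) rfl
      have hidx := Subgroup.index_mul_card N
      have hN1 : 1 < Nat.card N := (Subgroup.one_lt_card_iff_ne_bot N).2 hb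
      have hpos : 0 < N.index := Nat.pos_of_ne_zero Subgroup.index_ne_zero_of_finite
      haveI : Group.IsSolvable (G ⧸ N) := ih _ (show N.index < Nat.card G by nlinarith) (h.quotient N) rfl
      exact (Group.isSolvable_iff_subgroup_quotient N).2 ⟨inferInstance, inferInstance⟩
    · push Not at hN hc
      haveI : IsSimpleGroup G :=
        { eq_bot_or_eq_top_of_normal := fun H hH => or_iff_not_imp_left.2 (hN H hH) }
      rcases Nat.even_or_odd (Nat.card G) with he | ho
      · exact (not_simple hc he.two_dvd h).elim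
      · exact hodd G ho

end Cfsg.Agent.Solv.OddGated.ClassFour
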