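import Cfsg.Agent.Lib.Solv.NilMax
import Cfsg.Agent.Lib.Fusion.AbelianHall
import Cfsg.Agent.Lib.Fusion.NPC

/-!
Normal `p`-complements when the Sylow subgroup has class at most two and the normalizers of the
subgroups containing its centre lie in a nilpotent subgroup.
-/

set_option autoImplicit false

open scoped Pointwise commutatorElement

namespace Cfsg.Agent.Solv.OddGated

universe u

variable {G : Type u} [Group G]

/-- The commutators of `P` are central in `P`. -/
def ClTwo (P : Subgroup G) : Prop :=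
  ∀ a ∈ P, ∀ b ∈ P, ∀ c ∈ P, c * ⁅a, b⁆ = ⁅a, b⁆ * c

theorem ClTwo.comm_mem {P : Subgroup G} (h : ClTwo P) {a b : G} (ha : a ∈ P) (hb : b ∈ P) :
    ⁅a, b⁆ ∈ P ⊓ Subgroup.centralizer (P : Set G) := by
  refine ⟨?_, Subgroup.mem_centralizer_iff.2 fun c hc => h a ha b hb c hc⟩
  rw [commutatorElement_def]
  exact P.mul_mem (P.mul_mem (P.mul_mem ha hb) (P.inv_mem ha)) (P.inv_mem hb)

theorem ClTwo.map {P : Subgroup G} (h : ClTwo P) {Q : Type*} [Group Q] (f : G →* Q) :
    ClTwo (P.map f) := by
  rintro _ ⟨a, ha, rfl⟩ _ ⟨b, hb, rfl⟩ _ ⟨c, hc, rfl⟩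
  rw [← map_commutatorElement, ← map_mul, ← map_mul, h a ha b hb c hc]

/-- Subgroups containing the centre of a class two group are normal in it. -/
theorem ClTwo.le_normalizer {P R : Subgroup G} (h : ClTwo P) (hR : R ≤ P)
    (hZ : P ⊓ Subgroup.centralizer (P : Set G) ≤ R) : P ≤ Subgroup.normalizer (R : Set G) := by
  have key : ∀ t ∈ P, ∀ q ∈ R, t * q * t⁻¹ ∈ R := fun t ht q hq => by
    have := mul_mem (hZ (h.comm_mem ht (hR hq))) hq
    simpa [commutatorElement_def] using this
  intro t ht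
  refine Subgroup.mem_normalizer_iff.2 fun q => ⟨key t ht q, fun hq => ?_⟩
  simpa [mul_assoc] using key t⁻¹ (inv_mem ht) _ hq

variable [Finite G] {p : ℕ} [Fact p.Prime]

theorem hnpc_of_normalizers (P : Sylow p G) {M : Subgroup G} (hnil : Group.IsNilpotent M)
    (hPM : (P : Subgroup G) ≤ M) (hcl : ClTwo (P : Subgroup G))
    (hN : ∀ Q : Subgroup G, (P : Subgroup G) ⊓ Subgroup.centralizer ((P : Subgroup G) : Set G) ≤ Q →
      Q ≤ P → Subgroup.normalizer (Q : Set G) ≤ M) :
    Cfsg.HasNormalPComplement p G := by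
  suffices key : ∀ (k : ℕ) (Q : Subgroup G), IsPGroup p Q → Nat.card G - Nat.card Q = k →
      ∀ g ∈ Subgroup.normalizer (Q : Set G), (orderOf g).Coprime p →
        g ∈ Subgroup.centralizer (Q : Set G) from
    Fusion.hnpc_of_centralize (Fusion.sylIn_top P) fun Q hQ g hg hgp =>
      key _ Q (P.isPGroup'.to_le hQ) rfl g hg hgp
  intro k
  induction k using Nat.strong_induction_on with
  | _ k ih =>
  intro Q hQ hk g hg hgp
  set N := Subgroup.normalizer (Q : Set G) with hNdef
  set C := Subgroup.centralizer (Q : Set G) with hC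
  obtain ⟨R, hR⟩ := Fusion.exists_sylIn (p := p) N
  have hQR : Q ≤ R := by
    have hRQ : IsPGroup p (R ⊔ Q : Subgroup G) :=
      hR.isPGroup.to_sup_of_normal_right' hQ hR.le
    rw [← hR.eq_of_le hRQ le_sup_left (sup_le hR.le Subgroup.le_normalizer)]
    exact le_sup_right
  obtain ⟨T, hRT⟩ := hR.isPGroup.exists_le_sylow
  obtain ⟨x, rfl⟩ := MulAction.exists_smul_eq G P T
  set Z := ((x • P : Sylow p G) : Subgroup G) ⊓
    Subgroup.centralizer (((x • P : Sylow p G) : Subgroup G) : Set G) with hZdef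
  have hQT : Q ≤ ((x • P : Sylow p G) : Subgroup G) := hQR.trans hRT
  by_cases hZ : Z ≤ Q
  · set f := (MulAut.conj x⁻¹).toMonoidHom with hf
    have hTP : ((x • P : Sylow p G) : Subgroup G).map f = (P : Subgroup G) := by
      rw [show ((x • P : Sylow p G) : Subgroup G) =
        (P : Subgroup G).map (MulAut.conj x).toMonoidHom from rfl, Subgroup.map_map]
      convert Subgroup.map_id (P : Subgroup G)
      ext y
      simp [hf, mul_assoc]
    have hQ' : Q.map f ≤ (P : Subgroup G) := hTP ▸ Subgroup.map_mono hQT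
    have hZ' : (P : Subgroup G) ⊓ Subgroup.centralizer ((P : Subgroup G) : Set G) ≤ Q.map f := by
      intro z hz
      refine ⟨x * z * x⁻¹, hZ ⟨⟨z, hz.1, rfl⟩, Subgroup.mem_centralizer_iff.2 ?_⟩, ?_⟩
      · rintro _ ⟨c, hc, rfl⟩
        have := congrArg (MulAut.conj x) (Subgroup.mem_centralizer_iff.1 hz.2 c hc)
        simp only [map_mul, MulAut.conj_apply] at this
        exact this
      · simp [hf, mul_assoc]
    have hg' : f g ∈ Subgroup.normalizer (Q.map f : Set G) :=
      Subgroup.le_normalizer_map f ⟨g, hg, rfl⟩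
    have hgM : f g ∈ M := hN _ hZ' hQ' hg'
    have hQM : Q.map f ≤ M := hQ'.trans hPM
    have hgo : (orderOf (f g)).Coprime p := hgp.coprime_dvd_left (orderOf_map_dvd f g)
    haveI := hnil
    have h := Fusion.hnpc_centralize (Fusion.hnpc_of_isNilpotent (G := M) (p := p))
      (Q := (Q.map f).subgroupOf M) ((hQ.map f).comap_of_injective _ M.subtype_injective)
      (g := ⟨f g, hgM⟩) (by rw [← Subgroup.subgroupOf_normalizer_eq hQM]; exact hg')
      (by rwa [Subgroup.orderOf_mk])
    rw [Subgroup.mem_centralizer_iff] at h ⊢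
    intro t ht
    have h1 : f t * f g = f g * f t :=
      congrArg Subtype.val (h ⟨f t, hQM ⟨t, ht, rfl⟩⟩ ⟨t, ht, rfl⟩)
    rw [← map_mul, ← map_mul] at h1
    exact (MulAut.conj x⁻¹).injective h1
  · set L := Q ⊔ C with hL
    have hLN : L ≤ N := sup_le Subgroup.le_normalizer (Subgroup.centralizer_le_normalizer _)
    have hNC : N ≤ Subgroup.normalizer (C : Set G) := fun n hn => by
      rw [Fusion.mem_normalizer_iff_cj, hC, Fusion.cj_centralizer, Fusion.cj_eq_self hn]
    have hNL : N ≤ Subgroup.normalizer (L : Set G) := fun n hn => by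
      rw [Fusion.mem_normalizer_iff_cj, hL, Fusion.cj_sup, Fusion.cj_eq_self hn,
        Fusion.cj_eq_self (hNC hn)]
    have hU := hR.inf_normal hLN hNL
    set U := R ⊓ L with hUdef
    have hQU : Q < U := by
      refine lt_of_le_not_ge (le_inf hQR le_sup_left) fun h => hZ fun z hz => h ?_
      have hzC : z ∈ C := Subgroup.centralizer_le (s := (Q : Set G))
        (t := (((x • P : Sylow p G) : Subgroup G) : Set G)) hQT hz.2
      refine ⟨?_, Subgroup.mem_sup_right hzC⟩
      have hRe := hR.eq_of_le (Q := ((x • P : Sylow p G) : Subgroup G) ⊓ N)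
        (x • P : Sylow p G).isPGroup'.to_inf_left (le_inf hRT hR.le) inf_le_right
      rw [← hRe]
      exact ⟨hz.1, Subgroup.centralizer_le_normalizer _ hzC⟩
    obtain ⟨l, hl, hlg⟩ := Fusion.frattini_conj hU hNL hg
    have hl' : l ∈ ((Q : Set G) * (C : Set G)) := by
      rw [← Subgroup.coe_mul_of_right_le_normalizer_left Q C (Subgroup.centralizer_le_normalizer _)]
      exact hl
    obtain ⟨q, hq, c, hc, rfl⟩ := hl'
    replace hq : q ∈ Q := hq
    replace hc : c ∈ C := hc
    have hn : c * g ∈ Subgroup.normalizer (U : Set G) := by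
      have h := mul_mem (inv_mem (Subgroup.le_normalizer (H := U) (hQU.le hq))) hlg
      simpa [mul_assoc] using h
    have hU' : ∀ n ∈ Subgroup.normalizer (U : Set G), (orderOf n).Coprime p →
        n ∈ C := by
      intro n hn hnp
      refine Subgroup.centralizer_le (s := (Q : Set G)) (t := (U : Set G)) hQU.le ?_
      refine ih (Nat.card G - Nat.card U) ?_ U hU.isPGroup rfl n hn hnp
      rw [← hk]
      have h1 := Solv.card_lt_of_lt hQU
      have h2 := Subgroup.card_le_card_group U
      omega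
    obtain ⟨j, m, hm, hnm⟩ := Nat.exists_eq_pow_mul_and_not_dvd (orderOf_pos (c * g)).ne' p
      (Fact.out : p.Prime).ne_one
    have hmc : (c * g) ^ p ^ j ∈ C := by
      refine hU' _ (pow_mem hn _) (Nat.Coprime.coprime_dvd_left
        (orderOf_dvd_of_pow_eq_one (n := m) (by rw [← pow_mul, ← hnm, pow_orderOf_eq_one])) ?_)
      exact ((Fact.out : p.Prime).coprime_iff_not_dvd.2 hm).symm
    have hexp : ∀ i : ℕ, ∃ c' ∈ C, (c * g) ^ i = c' * g ^ i := by
      intro i
      induction i with
      | zero => exact ⟨1, one_mem _, by simp⟩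
      | succ i hi =>
        obtain ⟨c', hc', he⟩ := hi
        refine ⟨c' * (g ^ i * c * (g ^ i)⁻¹),
          mul_mem hc' ((Subgroup.mem_normalizer_iff.1 (hNC (pow_mem hg i)) c).1 hc), ?_⟩
        rw [pow_succ, he, pow_succ]; group
    obtain ⟨c', hc', he⟩ := hexp (p ^ j)
    have hgC : g ^ p ^ j ∈ C := by
      have h := mul_mem (inv_mem hc') (he ▸ hmc)
      simpa using h
    obtain ⟨i, hi⟩ := exists_pow_eq_self_of_coprime (x := g) (n := p ^ j)
      (Nat.Coprime.pow_left j hgp.symm)
    rw [← hi]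
    exact pow_mem hgC i

end Cfsg.Agent.Solv.OddGated
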