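import Cfsg.Agent.Lib.Solv.OddGated.ClassTwoAlperin
import Cfsg.Agent.Lib.Solv.Parts

/-!
The obstruction to a normal 2-complement when the Sylow 2-subgroup has class at most two and lies
in a nilpotent subgroup `M` containing the normalizer of its centre.
-/

set_option autoImplicit false

open scoped Pointwise commutatorElement

namespace Cfsg.Agent.Solv.OddGated

universe u

variable {G : Type u} [Group G]

/-- The configuration that has to be excluded. -/
structure Datum (P M : Subgroup G) where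
  Q : Subgroup G
  U : Subgroup G
  x : G
  hQP : Q ≤ P
  two : ∀ e ∈ P, ∀ f ∈ P, e ∉ Q → f ∉ Q → e * f ∈ Q
  hUQ : U ≤ Q
  hne : U ≠ ⊥
  hcen : ∀ q ∈ Q, ∀ u ∈ U, q * u = u * q
  hnor : P ≤ Subgroup.normalizer (U : Set G)
  hxQ : x ∈ Subgroup.normalizer (Q : Set G)
  hxU : ∀ q ∈ Q, x * q * x⁻¹ * q⁻¹ ∈ U
  hfix : ∀ u ∈ U, x * u * x⁻¹ = u → u = 1
  hdis : ∀ c ∈ U, c ∈ Subgroup.centralizer (P : Set G) →
    x * c * x⁻¹ ∈ Subgroup.centralizer (P : Set G) → c = 1
  hxM : x ∉ M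

theorem eq_one_of_two_pow {g : G} {k m : ℕ} (h1 : g ^ 2 ^ k = 1) (h2 : g ^ m = 1) (hm : Odd m) :
    g = 1 := by
  have hco : (2 ^ k).Coprime m := Nat.Coprime.pow_left k (Nat.coprime_two_left.2 hm)
  have := (pow_gcd_eq_one (m := 2 ^ k) (n := m) (a := g)).2 ⟨h1, h2⟩
  rwa [hco.gcd_eq_one, pow_one] at this

theorem commute_of_sq_fixed {H : Type*} [Group H] {x v : H} {m : ℕ} (hx : x ^ m = 1) (hm : Odd m)
    (h : Commute (x * x) v) : Commute x v := by
  obtain ⟨k, hk⟩ := hm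
  have : Commute ((x * x) ^ (k + 1)) v := h.pow_left _
  rwa [← pow_two, ← pow_mul, show 2 * (k + 1) = (2 * k + 1) + 1 by ring, pow_succ, ← hk, hx,
    one_mul] at this

section Dihedral

variable {H : Type*} [Group H] {s s' : H}

theorem inv_of_dihedral (hs : s * s = 1) (hs' : s' * s' = 1) :
    s * (s * s') * s⁻¹ = (s * s')⁻¹ := by
  rw [mul_inv_rev, inv_eq_of_mul_eq_one_right hs, inv_eq_of_mul_eq_one_right hs', ← mul_assoc, hs,
    one_mul]

theorem inv_pow_of_dihedral (hs : s * s = 1) (hs' : s' * s' = 1) (k : ℕ) :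
    s * (s * s') ^ k * s⁻¹ = ((s * s') ^ k)⁻¹ := by
  rw [← conj_pow, inv_of_dihedral hs hs', inv_pow]

theorem conj_of_dihedral_odd (hs : s * s = 1) (hs' : s' * s' = 1) {k : ℕ}
    (hn : (s * s') ^ (2 * k + 1) = 1) :
    (s * s') ^ (k + 1) * s' * ((s * s') ^ (k + 1))⁻¹ = s := by
  have h1 : s' * (s * s') * s' = (s * s')⁻¹ := by
    rw [mul_inv_rev, inv_eq_of_mul_eq_one_right hs, inv_eq_of_mul_eq_one_right hs', ← mul_assoc,
      mul_assoc (s' * s) s' s', hs', mul_one]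
  have h2 : s' * ((s * s') ^ (k + 1))⁻¹ = (s * s') ^ (k + 1) * s' := by
    have h3 : s' * (s * s')⁻¹ * s'⁻¹ = s * s' := by
      rw [← h1, inv_eq_of_mul_eq_one_right hs', ← mul_assoc, ← mul_assoc, hs', one_mul,
        mul_assoc, hs', mul_one]
    have h4 : s' * ((s * s')⁻¹) ^ (k + 1) * s'⁻¹ = (s * s') ^ (k + 1) := by
      rw [← conj_pow, h3]
    rw [← inv_pow]
    calc s' * ((s * s')⁻¹) ^ (k + 1) = s' * ((s * s')⁻¹) ^ (k + 1) * s'⁻¹ * s' := by group
      _ = _ := by rw [h4]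
  rw [mul_assoc, h2, ← mul_assoc, ← pow_add, show k + 1 + (k + 1) = 2 * k + 1 + 1 by ring,
    pow_succ, hn, one_mul, mul_assoc, hs', mul_one]

end Dihedral

variable [Finite G] {P M : Subgroup G}

theorem two_le_of_le (hP : IsPGroup 2 P) (hmax : ∀ R : Subgroup G, IsPGroup 2 R → P ≤ R → R = P)
    (hMP : M ≤ Subgroup.normalizer (P : Set G)) {R : Subgroup G} (hR : IsPGroup 2 R) (hRM : R ≤ M) :
    R ≤ P := by
  rw [← hmax _ (hR.to_sup_of_normal_right' hP (hRM.trans hMP)) le_sup_right]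
  exact le_sup_left

theorem exists_two_power_minimal {Q : Subgroup G} {e : G} (he : e ∉ Q) (hk : ∃ k, e ^ 2 ^ k ∈ Q) :
    ∃ k, e ^ 2 ^ k ∉ Q ∧ e ^ 2 ^ (k + 1) ∈ Q := by
  classical
  obtain ⟨j, hj⟩ : ∃ j, Nat.find hk = j + 1 := Nat.exists_eq_succ_of_ne_zero fun h => he (by
    have := Nat.find_spec hk
    rwa [h, pow_zero, pow_one] at this)
  exact ⟨j, Nat.find_min hk (by omega), hj ▸ Nat.find_spec hk⟩

theorem exists_datum (hP : IsPGroup 2 P) (hmax : ∀ R : Subgroup G, IsPGroup 2 R → P ≤ R → R = P)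
    (hnil : Group.IsNilpotent M) (hPM : P ≤ M) (hMP : M ≤ Subgroup.normalizer (P : Set G))
    (hNP : Subgroup.normalizer (P : Set G) ≤ M)
    (hNZ : Subgroup.normalizer ((P ⊓ Subgroup.centralizer (P : Set G) : Subgroup G) : Set G) ≤ M)
    (hcl : ClTwo P)
    (hbad : ∃ Q : Subgroup G, P ⊓ Subgroup.centralizer (P : Set G) ≤ Q ∧ Q ≤ P ∧
      ¬ Subgroup.normalizer (Q : Set G) ≤ M) : Nonempty (Datum P M) := by
  haveI := Fact.mk Nat.prime_two
  obtain ⟨Q₀, h₀⟩ := hbad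
  obtain ⟨Q, -, hQmax⟩ := Finite.exists_le_maximal
    (p := fun Q : Subgroup G => P ⊓ Subgroup.centralizer (P : Set G) ≤ Q ∧ Q ≤ P ∧
      ¬ Subgroup.normalizer (Q : Set G) ≤ M) (a := Q₀) h₀
  obtain ⟨hZQ, hQP, hQN⟩ := hQmax.1
  set L := Subgroup.normalizer (Q : Set G) with hLdef
  have hPL : P ≤ L := hcl.le_normalizer hQP hZQ
  -- the TI property
  have hTI : ∀ y ∈ L, ∀ e ∈ P, e ∉ Q → y * e * y⁻¹ ∈ P → y ∈ M := by
    intro y hy e he heQ hye
    set R := P ⊓ MulAut.conj y • P with hRdef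
    have hQR : Q ≤ R := le_inf hQP fun q hq => Solv.mem_conj_smul.2
      (hQP (by simpa [mul_assoc] using (Subgroup.mem_normalizer_iff''.1 hy q).1 hq))
    have hQR' : Q < R := lt_of_le_not_ge hQR fun h => heQ (by
      have h1 : y * e * y⁻¹ ∈ Q := h ⟨hye, Solv.mem_conj_smul.2 (by simpa [mul_assoc] using he)⟩
      exact (Subgroup.mem_normalizer_iff.1 hy e).2 h1)
    have hNR : Subgroup.normalizer (R : Set G) ≤ M := by
      by_contra h
      exact hQR'.not_ge (hQmax.2 ⟨hZQ.trans hQR, inf_le_left, h⟩ hQR)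
    set R' := MulAut.conj y⁻¹ • R with hR'
    have hR'P : R' ≤ P := fun r hr => by
      rw [hR', Solv.mem_conj_smul] at hr
      have := Solv.mem_conj_smul.1 hr.2
      simpa [mul_assoc] using this
    have hZR' : P ⊓ Subgroup.centralizer (P : Set G) ≤ R' := fun z hz => by
      rw [hR', Solv.mem_conj_smul]
      simpa [mul_assoc] using hQR ((Subgroup.mem_normalizer_iff.1 hy z).1 (hZQ hz))
    have hn := hcl.le_normalizer hR'P hZR'
    have hle : MulAut.conj y • P ≤ M := fun t ht => hNR (by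
      rw [Solv.mem_conj_smul] at ht
      refine Solv.mem_normalizer_of_conj_smul ?_
      have h1 := Solv.conj_smul_of_mem_normalizer (hn ht)
      rw [hR', Solv.conj_smul_conj] at h1
      have h2 := congrArg (fun S : Subgroup G => MulAut.conj y • S) h1
      simp only [Solv.conj_smul_conj] at h2
      simpa [mul_assoc, Solv.conj_one_smul] using h2)
    have hPy : MulAut.conj y • P ≤ P := two_le_of_le hP hmax hMP
      (by rw [Solv.conj_smul_eq_map]; exact hP.map _) hle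
    exact hNP (Solv.mem_normalizer_of_conj_smul
      (Subgroup.eq_of_le_of_card_ge hPy (Solv.card_conj_smul _ _).ge))
  have hPab : ∀ a ∈ P, ∀ b ∈ P, ⁅a, b⁆ ∈ Q := fun a ha b hb => hZQ (hcl.comm_mem ha hb)
  have htriv : ∀ m ∈ M, m ∈ L → ∀ e ∈ P, m * e * m⁻¹ * e⁻¹ ∈ Q := by
    intro m hm hmL e he
    obtain ⟨m2, mo, hm2, hmo, rfl, ⟨j, hj⟩, hoc⟩ := Solv.exists_ppart 2 m
    have hm2P : m2 ∈ P := two_le_of_le hP hmax hMP (Solv.isPGroup_zpowers hj)
      ((Subgroup.zpowers_le).2 ((Subgroup.zpowers_le.2 hm) hm2)) (Subgroup.mem_zpowers _)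
    have hmoM : mo ∈ M := (Subgroup.zpowers_le.2 hm) hmo
    haveI := hnil
    have h := Fusion.hnpc_centralize (Fusion.hnpc_of_isNilpotent (G := M) (p := 2))
      (Q := P.subgroupOf M) (hP.comap_of_injective _ M.subtype_injective)
      (g := ⟨mo, hmoM⟩) (by rw [← Subgroup.subgroupOf_normalizer_eq hPM]; exact hMP hmoM)
      (by rwa [Subgroup.orderOf_mk])
    have hc : e * mo = mo * e :=
      congrArg Subtype.val (Subgroup.mem_centralizer_iff.1 h ⟨e, hPM he⟩ he)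
    rw [show m2 * mo * e * (m2 * mo)⁻¹ * e⁻¹ = m2 * (mo * e) * mo⁻¹ * m2⁻¹ * e⁻¹ by group, ← hc,
      show m2 * (e * mo) * mo⁻¹ * m2⁻¹ * e⁻¹ = ⁅m2, e⁆ by rw [commutatorElement_def]; group]
    exact hPab _ hm2P _ he
  -- the quotient of `L` by `Q`
  haveI : (Q.subgroupOf L).Normal := Subgroup.normal_subgroupOf_of_le_normalizer le_rfl
  set π := QuotientGroup.mk' (Q.subgroupOf L) with hπ
  have hker : ∀ g : L, π g = 1 ↔ (g : G) ∈ Q := fun g => QuotientGroup.eq_one_iff g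
  have hcoset : ∀ a b : L, π a = π b → (a : G) ∈ P → (b : G) ∈ P := by
    intro a b hab ha
    have h1 : π (a⁻¹ * b) = 1 := by rw [map_mul, map_inv, hab, inv_mul_cancel]
    simpa using mul_mem ha (hQP ((hker _).1 h1))
  -- a first involution
  have hPQ : ¬ P ≤ Q := fun h => hQN (by rw [hLdef, le_antisymm hQP h]; exact hNP)
  obtain ⟨e₀, he₀, he₀Q⟩ := SetLike.not_le_iff_exists.1 hPQ
  have hex : ∀ e ∈ P, ∃ k, e ^ 2 ^ k ∈ Q := fun e he => by
    obtain ⟨k, hk⟩ := hP ⟨e, he⟩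
    exact ⟨k, by rw [show e ^ 2 ^ k = 1 from congrArg Subtype.val hk]; exact one_mem _⟩
  obtain ⟨k₀, hk₀, hk₀'⟩ := exists_two_power_minimal he₀Q (hex e₀ he₀)
  set t : L := ⟨e₀ ^ 2 ^ k₀, hPL (pow_mem he₀ _)⟩ with ht
  have htP : (t : G) ∈ P := pow_mem he₀ _
  have htQ : (t : G) ∉ Q := hk₀
  have hst : π t * π t = 1 := by
    rw [← map_mul, hker]
    simpa [ht, ← pow_add, pow_succ, mul_two] using hk₀'
  obtain ⟨y₀, hy₀L, hy₀M⟩ := SetLike.not_le_iff_exists.1 hQN
  set y : L := ⟨y₀, hy₀L⟩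
  set t' : L := y * t * y⁻¹
  have hst' : π t' * π t' = 1 := by
    rw [map_mul, map_mul, map_inv]
    calc π y * π t * (π y)⁻¹ * (π y * π t * (π y)⁻¹) = π y * (π t * π t) * (π y)⁻¹ := by group
      _ = 1 := by rw [hst]; group
  have hodd : ∀ e : L, (e : G) ∈ P → (e : G) ∉ Q → π e * π e = 1 →
      ∃ k, (π e * π t') ^ (2 * k + 1) = 1 := by
    intro e heP heQ hse
    obtain ⟨n, hn⟩ : ∃ n, orderOf (π e * π t') = n := ⟨_, rfl⟩
    rcases Nat.even_or_odd' n with ⟨j, rfl | rfl⟩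
    swap
    · exact ⟨j, hn ▸ pow_orderOf_eq_one _⟩
    exfalso
    set c : L := (e * t') ^ j
    have hjpos : 0 < j := by
      have := orderOf_pos (π e * π t')
      omega
    have hc1 : π c ≠ 1 := by
      rw [map_pow, map_mul]
      intro h
      have := orderOf_le_of_pow_eq_one hjpos h
      omega
    have hc2 : (π c)⁻¹ = π c := by
      refine inv_eq_of_mul_eq_one_right ?_
      rw [map_pow, map_mul, ← pow_add, ← two_mul, ← hn, pow_orderOf_eq_one]
    have hce : π e * π c * (π e)⁻¹ = π c := by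
      conv_rhs => rw [← hc2]
      rw [map_pow, map_mul]
      exact inv_pow_of_dihedral hse hst' j
    have hce' : π c * π e * (π c)⁻¹ = π e := by
      calc π c * π e * (π c)⁻¹ = (π e * π c * (π e)⁻¹) * π e * (π c)⁻¹ := by rw [hce]
        _ = π e := by group
    have hct' : π c * π t' * (π c)⁻¹ = π t' := by
      have h1 : Commute (π c) (π e * π t') := by
        rw [map_pow, map_mul]; exact Commute.pow_self _ _
      have h2 : Commute (π c) (π e) := mul_inv_eq_iff_eq_mul.1 hce'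
      have h3 := h2.inv_right.mul_right h1
      rw [inv_mul_cancel_left] at h3
      exact mul_inv_eq_iff_eq_mul.2 h3
    have hcM : (c : G) ∈ M := hTI c c.2 e heP heQ
      (hcoset e (c * e * c⁻¹) (by rw [map_mul, map_mul, map_inv, hce']) heP)
    have hcc : (c : G) ^ 2 ∈ Q := by
      have h1 : π (c ^ 2) = 1 := by
        rw [map_pow, pow_two]; nth_rw 1 [← hc2]; exact inv_mul_cancel _
      exact (hker _).1 h1
    have hc2pow : ∃ k, (c : G) ^ 2 ^ k = 1 := by
      obtain ⟨k, hk⟩ := hP ⟨_, hQP hcc⟩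
      exact ⟨k + 1, by rw [pow_succ', pow_mul]; exact congrArg Subtype.val hk⟩
    obtain ⟨k, hk⟩ := hc2pow
    obtain ⟨k', -, hk'⟩ := (Nat.dvd_prime_pow Nat.prime_two).1 (orderOf_dvd_of_pow_eq_one hk)
    have hcP : (c : G) ∈ P := two_le_of_le hP hmax hMP (Solv.isPGroup_zpowers hk')
      (Subgroup.zpowers_le.2 hcM) (Subgroup.mem_zpowers _)
    set d : L := y⁻¹ * c * y
    have hdd : π d * π t * (π d)⁻¹ = π t := by
      have h1 : π t' = π y * π t * (π y)⁻¹ := by rw [map_mul, map_mul, map_inv]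
      rw [h1] at hct'
      rw [map_mul, map_mul, map_inv]
      calc (π y)⁻¹ * π c * π y * π t * ((π y)⁻¹ * π c * π y)⁻¹
          = (π y)⁻¹ * (π c * (π y * π t * (π y)⁻¹) * (π c)⁻¹) * π y := by group
        _ = π t := by rw [hct']; group
    have hdM : (d : G) ∈ M := hTI d d.2 t htP htQ
      (hcoset t (d * t * d⁻¹) (by rw [map_mul, map_mul, map_inv, hdd]) htP)
    have hdP : (d : G) ∈ P := by
      refine two_le_of_le hP hmax hMP (R := Subgroup.zpowers (d : G))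
        (Solv.isPGroup_zpowers (k := k') ?_) (Subgroup.zpowers_le.2 hdM) (Subgroup.mem_zpowers _)
      rw [← hk', show (d : G) = MulAut.conj (y : G)⁻¹ (c : G) by simp [d], MulEquiv.orderOf_eq]
    have hdQ : (d : G) ∉ Q := fun h => hc1 (by
      have h1 : π d = 1 := (hker _).2 h
      rw [map_mul, map_mul, map_inv] at h1
      calc π c = π y * ((π y)⁻¹ * π c * π y) * (π y)⁻¹ := by group
        _ = 1 := by rw [h1]; group)
    exact hy₀M (hTI y y.2 d hdP hdQ (by simpa [d, y, mul_assoc] using hcP))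
  -- all involutions of `P / Q` coincide
  have huniq : ∀ e : L, (e : G) ∈ P → (e : G) ∉ Q → π e * π e = 1 → π e = π t := by
    intro e heP heQ hse
    obtain ⟨k, hk⟩ := hodd e heP heQ hse
    set g : L := (e * t') ^ (k + 1) * y
    have hg : π g * π t * (π g)⁻¹ = π e := by
      have h := conj_of_dihedral_odd hse hst' hk
      rw [map_mul, map_mul, map_inv] at h
      rw [map_mul, map_pow, map_mul, map_mul, map_mul, map_inv]
      calc (π e * (π y * π t * (π y)⁻¹)) ^ (k + 1) * π y * π t *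
            ((π e * (π y * π t * (π y)⁻¹)) ^ (k + 1) * π y)⁻¹
          = (π e * (π y * π t * (π y)⁻¹)) ^ (k + 1) * (π y * π t * (π y)⁻¹) *
            ((π e * (π y * π t * (π y)⁻¹)) ^ (k + 1))⁻¹ := by group
        _ = π e := h
    have hgM : (g : G) ∈ M := hTI g g.2 t htP htQ
      (hcoset e (g * t * g⁻¹) (by rw [map_mul, map_mul, map_inv, hg]) heP)
    have h1 : π (g * t * g⁻¹ * t⁻¹) = 1 := (hker _).2 (by simpa using htriv g hgM g.2 t htP)
    rw [map_mul, map_mul, map_mul, map_inv, map_inv, mul_inv_eq_one, hg] at h1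
    exact h1
  -- an element of odd order inverted by `t`
  obtain ⟨k, hk⟩ := hodd t htP htQ hst
  set w : L := t * t'
  have hw1 : π w ≠ 1 := by
    intro h
    rw [map_mul, mul_eq_one_iff_eq_inv] at h
    refine hy₀M (hTI y y.2 t htP htQ (hcoset t t' ?_ htP))
    rw [h]
    exact inv_eq_of_mul_eq_one_right hst'
  obtain ⟨a, m, hm, ham⟩ := Nat.exists_eq_pow_mul_and_not_dvd (orderOf_pos w).ne' 2 (by norm_num)
  have hmodd : Odd m := Nat.not_even_iff_odd.1 fun h => hm h.two_dvd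
  set x : L := w ^ 2 ^ a
  have hxm : x ^ m = 1 := by rw [← pow_mul, ← ham, pow_orderOf_eq_one]
  have hx1 : π x ≠ 1 := by
    intro h
    refine hw1 (eq_one_of_two_pow (k := a) (m := 2 * k + 1) ?_ ?_ ⟨k, rfl⟩)
    · rw [← map_pow]; exact h
    · rw [map_mul]; exact hk
  have hinv : π t * π x * (π t)⁻¹ = (π x)⁻¹ := by
    rw [map_pow, map_mul]; exact inv_pow_of_dihedral hst hst' _
  have hxM : (x : G) ∉ M := by
    intro h
    have h1 : π (x * t * x⁻¹ * t⁻¹) = 1 := (hker _).2 (by simpa using htriv x h x.2 t htP)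
    rw [map_mul, map_mul, map_mul, map_inv, map_inv, mul_inv_eq_one, mul_inv_eq_iff_eq_mul] at h1
    rw [← h1, mul_inv_cancel_right] at hinv
    refine hx1 (eq_one_of_two_pow (k := 1) (m := m) ?_ (by rw [← map_pow, hxm, map_one]) hmodd)
    rw [pow_one, pow_two]
    nth_rw 1 [hinv]
    exact inv_mul_cancel _
  set X : G := (x : G) with hXdef
  have hXm : X ^ m = 1 := by
    have h := congrArg Subtype.val hxm
    simpa using h
  have hXQ : X ∈ L := x.2
  -- the abelian normal subgroup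
  set V := Q ⊓ Subgroup.centralizer (Q : Set G) with hV
  have hVn : ∀ g ∈ L, ∀ v ∈ V, g * v * g⁻¹ ∈ V := by
    intro g hg v hv
    refine ⟨(Subgroup.mem_normalizer_iff.1 hg v).1 hv.1, Subgroup.mem_centralizer_iff.2 fun q hq => ?_⟩
    have h1 := Subgroup.mem_centralizer_iff.1 hv.2 (g⁻¹ * q * g)
      (by simpa [mul_assoc] using (Subgroup.mem_normalizer_iff''.1 hg q).1 hq)
    calc q * (g * v * g⁻¹) = g * ((g⁻¹ * q * g) * v) * g⁻¹ := by group
      _ = g * v * g⁻¹ * q := by rw [h1]; group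
  have hVc : ∀ a ∈ V, ∀ b ∈ V, a * b = b * a := fun a ha b hb =>
    Subgroup.mem_centralizer_iff.1 hb.2 a ha.1
  have hZV : P ⊓ Subgroup.centralizer (P : Set G) ≤ V :=
    le_inf hZQ (inf_le_right.trans (Subgroup.centralizer_le hQP))
  have hmod : ∀ q ∈ Q, X * q * X⁻¹ * q⁻¹ ∈ V := by
    have hmul : ∀ g ∈ L, ∀ h ∈ L, (∀ q ∈ Q, g * q * g⁻¹ * q⁻¹ ∈ V) →
        (∀ q ∈ Q, h * q * h⁻¹ * q⁻¹ ∈ V) → ∀ q ∈ Q, g * h * q * (g * h)⁻¹ * q⁻¹ ∈ V := by
      intro g hg h hh h1 h2 q hq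
      have := mul_mem (hVn g hg _ (h2 q hq)) (h1 q hq)
      simpa [mul_assoc] using this
    have hPV : ∀ g ∈ P, ∀ q ∈ Q, g * q * g⁻¹ * q⁻¹ ∈ V := fun g hg q hq =>
      hZV (commutatorElement_def g q ▸ hcl.comm_mem hg (hQP hq))
    have ht'V : ∀ q ∈ Q, (t' : G) * q * (t' : G)⁻¹ * q⁻¹ ∈ V := by
      intro q hq
      have := hVn _ y.2 _ (hPV t htP _
        ((Subgroup.mem_normalizer_iff''.1 y.2 q).1 hq))
      simpa [t', mul_assoc] using this
    have hw : ∀ j : ℕ, ∀ q ∈ Q, ((w ^ j : L) : G) * q * ((w ^ j : L) : G)⁻¹ * q⁻¹ ∈ V := by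
      intro j
      induction j with
      | zero => intro q _; simp
      | succ j ih =>
        rw [pow_succ, Subgroup.coe_mul]
        exact hmul _ (w ^ j).2 _ w.2 ih fun q hq => by
          rw [show (w : G) = (t : G) * (t' : G) from rfl]
          exact hmul _ t.2 _ t'.2 (hPV t htP) ht'V q hq
    exact hw (2 ^ a)
  -- the commutator of `V` with `X`
  let δ : V →* G :=
    { toFun := fun v => X * v * X⁻¹ * (v : G)⁻¹
      map_one' := by simp
      map_mul' := fun v v' => by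
        have hb : X * (v' : G) * X⁻¹ * (v' : G)⁻¹ ∈ V := hmod _ v'.2.1
        rw [Subgroup.coe_mul]
        calc X * ((v : G) * v') * X⁻¹ * ((v : G) * v')⁻¹
            = X * v * X⁻¹ * ((X * (v' : G) * X⁻¹ * (v' : G)⁻¹) * (v : G)⁻¹) := by group
          _ = _ := by rw [← hVc _ (inv_mem v.2) _ hb]; group }
  set U := δ.range with hU
  have hUV : U ≤ V := by
    rintro _ ⟨v, rfl⟩
    exact hmod _ v.2.1
  have h2pow : ∀ v ∈ V, ∃ k, v ^ 2 ^ k = 1 := fun v hv => by
    obtain ⟨k, hk⟩ := hP ⟨v, hQP hv.1⟩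
    exact ⟨k, congrArg Subtype.val hk⟩
  have hUfix : ∀ u ∈ U, X * u * X⁻¹ = u → u = 1 := by
    rintro _ ⟨v, rfl⟩ hfx
    have hXd : Commute X (δ v) := mul_inv_eq_iff_eq_mul.1 hfx
    have hj : ∀ j : ℕ, X ^ j * v * (X ^ j)⁻¹ = δ v ^ j * v := by
      intro j
      induction j with
      | zero => simp
      | succ j ih =>
        calc X ^ (j + 1) * v * (X ^ (j + 1))⁻¹ = X * (X ^ j * v * (X ^ j)⁻¹) * X⁻¹ := by
              rw [pow_succ']; group
          _ = X * δ v ^ j * (v : G) * X⁻¹ := by rw [ih]; group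
          _ = δ v ^ j * (X * v * X⁻¹ * (v : G)⁻¹) * v := by rw [(hXd.pow_right j).eq]; group
          _ = δ v ^ (j + 1) * v := by rw [pow_succ]; rfl
    have := hj m
    rw [hXm, one_mul, inv_one, mul_one] at this
    obtain ⟨k, hk⟩ := h2pow _ (hUV ⟨v, rfl⟩)
    exact eq_one_of_two_pow hk (mul_eq_right.1 this.symm) hmodd
  have hXU : ∀ q ∈ Q, X * q * X⁻¹ * q⁻¹ ∈ U := by
    intro q hq
    set v : V := ⟨X * q * X⁻¹ * q⁻¹, hmod q hq⟩
    have hj : ∀ j : ℕ, ∃ u ∈ U, X ^ j * q * (X ^ j)⁻¹ = u * (v : G) ^ j * q := by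
      intro j
      induction j with
      | zero => exact ⟨1, one_mem _, by simp⟩
      | succ j ih =>
        obtain ⟨u, ⟨r, rfl⟩, hu⟩ := ih
        refine ⟨δ ⟨δ r, hUV ⟨r, rfl⟩⟩ * δ r * δ (v ^ j), mul_mem (mul_mem ⟨_, rfl⟩ ⟨_, rfl⟩)
          ⟨_, rfl⟩, ?_⟩
        calc X ^ (j + 1) * q * (X ^ (j + 1))⁻¹ = X * (X ^ j * q * (X ^ j)⁻¹) * X⁻¹ := by
              rw [pow_succ']; group
          _ = _ := by
              rw [hu]
              show X * (δ r * (v : G) ^ j * q) * X⁻¹ =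
                X * δ r * X⁻¹ * (δ r)⁻¹ * δ r *
                  (X * ((v ^ j : V) : G) * X⁻¹ * ((v ^ j : V) : G)⁻¹) * (v : G) ^ (j + 1) * q
              rw [pow_succ, SubgroupClass.coe_pow]
              show _ = X * δ r * X⁻¹ * (δ r)⁻¹ * δ r *
                  (X * (v : G) ^ j * X⁻¹ * ((v : G) ^ j)⁻¹) * ((v : G) ^ j * (X * q * X⁻¹ * q⁻¹)) * q
              group
    obtain ⟨u, hu, he⟩ := hj m
    rw [hXm, one_mul, inv_one, mul_one, right_eq_mul] at he
    have hvm : (v : G) ^ m ∈ U := (inv_eq_of_mul_eq_one_right he) ▸ inv_mem hu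
    obtain ⟨k, hk⟩ := h2pow _ v.2
    have hco : (2 ^ k).Coprime m := Nat.Coprime.pow_left k (Nat.coprime_two_left.2 hmodd)
    obtain ⟨l, hl⟩ := exists_pow_eq_self_of_coprime (x := (v : G)) (n := m)
      (hco.symm.coprime_dvd_right (orderOf_dvd_of_pow_eq_one hk))
    show (v : G) ∈ U
    rw [← hl]
    exact pow_mem hvm _
  have hUne : U ≠ ⊥ := fun h => hxM (hNZ (Subgroup.centralizer_le_normalizer _
    (Subgroup.mem_centralizer_iff.2 fun z hz => by
      have h1 : X * z * X⁻¹ * z⁻¹ = 1 := by simpa [h] using hXU z (hZQ hz)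
      rw [mul_inv_eq_one, mul_inv_eq_iff_eq_mul] at h1
      exact h1.symm)))
  have hinvV : ∀ v ∈ V, (t : G) * (X * v * X⁻¹) * (t : G)⁻¹ = X⁻¹ * ((t : G) * v * (t : G)⁻¹) * X := by
    intro v hv
    have hq : (X : G) * t * X * (t : G)⁻¹ ∈ Q := by
      have h1 : π (x * t * x * t⁻¹) = 1 := by
        rw [map_mul, map_mul, map_mul, map_inv, mul_assoc, mul_assoc, ← mul_assoc (π t), hinv,
          mul_inv_cancel]
      simpa using (hker _).1 h1
    have hv' := hVn _ t.2 _ hv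
    have h2 := Subgroup.mem_centralizer_iff.1 hv'.2 _ hq
    calc (t : G) * (X * v * X⁻¹) * (t : G)⁻¹
        = X⁻¹ * ((X * t * X * (t : G)⁻¹) * ((t : G) * v * (t : G)⁻¹) * (X * t * X * (t : G)⁻¹)⁻¹) * X := by
          group
      _ = _ := by rw [h2]; group
  -- `P / Q` has order two
  have htwo : ∀ e ∈ P, e ∉ Q → e⁻¹ * (t : G) ∈ Q := by
    have hsq : ∀ e : L, π e = π t → (e : G)⁻¹ * t ∈ Q := fun e he => by
      have h1 : π (e⁻¹ * t) = 1 := by rw [map_mul, map_inv, he, inv_mul_cancel]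
      simpa using (hker _).1 h1
    intro e he heQ
    by_cases he2 : e ^ 2 ∈ Q
    · refine hsq ⟨e, hPL he⟩ (huniq _ he heQ ?_)
      rw [← map_mul, hker, Subgroup.coe_mul, ← pow_two]
      exact he2
    exfalso
    obtain ⟨j, hj, hj'⟩ := exists_two_power_minimal he2 (hex _ (pow_mem he 2))
    set d := e ^ 2 ^ j
    have hd2 : (d ^ 2)⁻¹ * (t : G) ∈ Q := by
      refine hsq ⟨d ^ 2, hPL (pow_mem (pow_mem he _) 2)⟩ (huniq _ (pow_mem (pow_mem he _) 2) ?_ ?_)
      · show (e ^ 2 ^ j) ^ 2 ∉ Q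
        rwa [← pow_mul, mul_comm, pow_mul]
      · rw [← map_mul, hker, Subgroup.coe_mul]
        show (e ^ 2 ^ j) ^ 2 * (e ^ 2 ^ j) ^ 2 ∈ Q
        rw [← pow_mul, ← pow_add]
        rw [← pow_mul] at hj'
        rwa [show 2 ^ j * 2 + 2 ^ j * 2 = 2 * 2 ^ (j + 1) by rw [pow_succ]; ring]
    obtain ⟨u₀, hu₀1⟩ := Subgroup.ne_bot_iff_exists_ne_one.1 hUne
    obtain ⟨k, hk⟩ := h2pow _ (hUV u₀.2)
    obtain ⟨k', hk'1, hk'2⟩ := exists_two_power_minimal (Q := (⊥ : Subgroup G)) (e := (u₀ : G))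
      (by simpa using hu₀1) ⟨k, by simpa using hk⟩
    set v := (u₀ : G) ^ 2 ^ k'
    have hvU : v ∈ U := pow_mem u₀.2 _
    have hv2 : v * v = 1 := by
      rw [← pow_add, ← mul_two, ← pow_succ]; simpa using hk'2
    have hfixt : ∀ r ∈ V, r * r = 1 → (t : G) * r * (t : G)⁻¹ = r := by
      intro r hr hr2
      have hc := hcl.comm_mem (pow_mem he (2 ^ j) : d ∈ P) (hQP hr.1)
      set c := ⁅d, r⁆ with hcdef
      have hcr : d * r * d⁻¹ = c * r := by rw [hcdef, commutatorElement_def]; group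
      have hcomm : c * r = r * c := (Subgroup.mem_centralizer_iff.1 hc.2 r (hQP hr.1)).symm
      have hcd : d * c * d⁻¹ = c :=
        mul_inv_eq_iff_eq_mul.2 (Subgroup.mem_centralizer_iff.1 hc.2 d (pow_mem he _))
      have hc2 : c * c = 1 := by
        have h1 : (d * r * d⁻¹) * (d * r * d⁻¹) = 1 := by
          calc (d * r * d⁻¹) * (d * r * d⁻¹) = d * (r * r) * d⁻¹ := by group
            _ = 1 := by rw [hr2]; group
        rw [hcr] at h1
        calc c * c = c * c * (r * r) := by rw [hr2, mul_one]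
          _ = c * (c * r) * r := by group
          _ = c * (r * c) * r := by rw [hcomm]
          _ = c * r * (c * r) := by group
          _ = 1 := h1
      have hd2r : d ^ 2 * r * (d ^ 2)⁻¹ = r := by
        calc d ^ 2 * r * (d ^ 2)⁻¹ = d * (d * r * d⁻¹) * d⁻¹ := by rw [pow_two]; group
          _ = d * (c * r) * d⁻¹ := by rw [hcr]
          _ = (d * c * d⁻¹) * (d * r * d⁻¹) := by group
          _ = c * c * r := by rw [hcd, hcr, mul_assoc]
          _ = r := by rw [hc2, one_mul]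
      have hq := Subgroup.mem_centralizer_iff.1 hr.2 _ hd2
      calc (t : G) * r * (t : G)⁻¹
          = d ^ 2 * (((d ^ 2)⁻¹ * t) * r * ((d ^ 2)⁻¹ * t)⁻¹) * (d ^ 2)⁻¹ := by group
        _ = r := by rw [hq, mul_inv_cancel_right, hd2r]
    have hxv : (X * v * X⁻¹) * (X * v * X⁻¹) = 1 := by
      calc (X * v * X⁻¹) * (X * v * X⁻¹) = X * (v * v) * X⁻¹ := by group
        _ = 1 := by rw [hv2]; group
    have h1 := hinvV v (hUV hvU)
    rw [hfixt _ (hUV hvU) hv2, hfixt _ (hVn X hXQ _ (hUV hvU)) hxv] at h1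
    have h2 : Commute (X * X) v := by
      show X * X * v = v * (X * X)
      calc X * X * v = X * (X * v * X⁻¹) * X := by group
        _ = v * (X * X) := by rw [h1]; group
    have hXv := commute_of_sq_fixed hXm hmodd h2
    exact hk'1 (by simpa using hUfix v hvU (mul_inv_eq_iff_eq_mul.2 hXv))
  refine ⟨⟨Q, U, X, hQP, fun e he f hf heQ hfQ => ?_, hUV.trans inf_le_left, hUne,
    fun q hq u hu => Subgroup.mem_centralizer_iff.1 (hUV hu).2 q hq, fun g hg => ?_, hXQ, hXU, hUfix,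
    fun c hc hcP hcP' => ?_, hxM⟩⟩
  · have h1 := htwo e⁻¹ (inv_mem he) (fun h => heQ (by simpa using inv_mem h))
    have h2 := htwo f hf hfQ
    simpa [mul_assoc] using mul_mem h1 (inv_mem h2)
  · -- `P` normalizes `U`
    have hconj : ∀ g ∈ P, ∀ u ∈ U, g * u * g⁻¹ ∈ U := by
      intro g hg u hu
      by_cases hgQ : g ∈ Q
      · rw [Subgroup.mem_centralizer_iff.1 (hUV hu).2 g hgQ, mul_inv_cancel_right]; exact hu
      have hq := htwo g hg hgQ
      have hcu := Subgroup.mem_centralizer_iff.1 (hUV hu).2 _ hq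
      suffices h : (t : G) * u * (t : G)⁻¹ ∈ U by
        convert h using 1
        calc g * u * g⁻¹ = g * (u * (g⁻¹ * t)) * (t : G)⁻¹ := by group
          _ = (t : G) * u * (t : G)⁻¹ := by rw [← hcu]; group
      obtain ⟨v, rfl⟩ := hu
      show (t : G) * (X * v * X⁻¹ * (v : G)⁻¹) * (t : G)⁻¹ ∈ U
      rw [show (t : G) * (X * v * X⁻¹ * (v : G)⁻¹) * (t : G)⁻¹ =
        (t : G) * (X * v * X⁻¹) * (t : G)⁻¹ * ((t : G) * v * (t : G)⁻¹)⁻¹ by group, hinvV v v.2]
      set r := X⁻¹ * ((t : G) * v * (t : G)⁻¹) * X with hr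
      have hrV : r ∈ V := by
        have := hVn X⁻¹ (inv_mem hXQ) _ (hVn _ t.2 _ v.2)
        simpa [hr] using this
      have : ((t : G) * v * (t : G)⁻¹) = X * r * X⁻¹ := by rw [hr]; group
      rw [this]
      convert inv_mem (show δ ⟨r, hrV⟩ ∈ U from ⟨_, rfl⟩) using 1
      show r * (X * r * X⁻¹)⁻¹ = (X * r * X⁻¹ * r⁻¹)⁻¹
      group
    refine Subgroup.mem_normalizer_iff.2 fun u => ⟨hconj g hg u, fun h => ?_⟩
    simpa [mul_assoc] using hconj g⁻¹ (inv_mem hg) _ h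
  · have h1 := hinvV c (hUV hc)
    rw [Subgroup.mem_centralizer_iff] at hcP hcP'
    rw [hcP _ htP, mul_inv_cancel_right, hcP' _ htP, mul_inv_cancel_right] at h1
    have h2 : Commute (X * X) c := by
      show X * X * c = c * (X * X)
      calc X * X * c = X * (X * c * X⁻¹) * X := by group
        _ = c * (X * X) := by rw [h1]; group
    exact hUfix c hc (mul_inv_eq_iff_eq_mul.2 (commute_of_sq_fixed hXm hmodd h2))

end Cfsg.Agent.Solv.OddGated
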