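import Cfsg.Agent.Lib.Solv.OddGated.ClassTwoDatum

/-!
A group of automorphisms of odd order excludes the configuration.
-/

set_option autoImplicit false

open scoped Pointwise commutatorElement

namespace Cfsg.Agent.Solv.OddGated

universe u

variable {G : Type u} [Group G] [Finite G] {P M : Subgroup G}

theorem no_datum (d : Datum P M) (hcl : ClTwo P) (S : Subgroup (MulAut G))
    (hS : Odd (Nat.card S))
    (hSP : ∀ a ∈ S, P.map (a : MulAut G).toMonoidHom = P)
    (hW : ∀ W : Subgroup G, W ≤ P → W ≠ ⊥ → P ≤ Subgroup.normalizer (W : Set G) →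
      (∀ a ∈ S, W.map (a : MulAut G).toMonoidHom = W) →
      Subgroup.normalizer (W : Set G) ≤ M) : False := by
  obtain ⟨Q, U, X, hQP, two, hUQ, hne, hcen, hnor, hXQ, hXU, hfix, hdis, hXM⟩ := d
  set C := U ⊓ Subgroup.centralizer (P : Set G) with hCdef
  have hSmem : ∀ a ∈ S, ∀ g ∈ P, (a : MulAut G) g ∈ P := fun a ha g hg => by
    rw [← hSP a ha]
    exact Subgroup.mem_map_of_mem _ hg
  have hSinv : ∀ a ∈ S, ∀ g ∈ P, (a : MulAut G).symm g ∈ P := fun a ha g hg =>
    hSmem a⁻¹ (inv_mem ha) g hg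
  have hScent : ∀ a ∈ S, ∀ g ∈ Subgroup.centralizer (P : Set G),
      (a : MulAut G) g ∈ Subgroup.centralizer (P : Set G) := by
    intro a ha g hg
    rw [Subgroup.mem_centralizer_iff] at hg ⊢
    intro e he
    have := congrArg a (hg _ (hSinv a ha e he))
    simpa using this
  by_cases hall : ∀ a ∈ S, ∀ v ∈ U, (a : MulAut G) v ∈ Q
  · -- the join of the translates is normalized by `X`
    set W := ⨆ a : S, U.map ((a : MulAut G)).toMonoidHom with hWdef
    have hUW : U ≤ W := by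
      refine le_trans ?_ (le_iSup (fun a : S => U.map ((a : MulAut G)).toMonoidHom) 1)
      intro u hu
      exact ⟨u, hu, rfl⟩
    have hWQ : W ≤ Q := iSup_le fun a => by
      rintro _ ⟨v, hv, rfl⟩
      exact hall a a.2 v hv
    have hWinv : ∀ b ∈ S, W.map (b : MulAut G).toMonoidHom = W := by
      intro b hb
      have hle : ∀ c ∈ S, W.map (c : MulAut G).toMonoidHom ≤ W := by
        intro c hc
        rw [hWdef, Subgroup.map_iSup]
        refine iSup_le fun a => ?_
        refine le_trans ?_ (le_iSup (fun a : S => U.map ((a : MulAut G)).toMonoidHom) (⟨c, hc⟩ * a))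
        rintro _ ⟨_, ⟨u, hu, rfl⟩, rfl⟩
        exact ⟨u, hu, rfl⟩
      refine le_antisymm (hle b hb) fun w hw => ?_
      exact ⟨(b : MulAut G).symm w, hle b⁻¹ (inv_mem hb) ⟨w, hw, rfl⟩, by simp⟩
    have hWP : P ≤ Subgroup.normalizer (W : Set G) := by
      intro g hg
      refine Solv.mem_normalizer_of_conj_smul
        (Subgroup.eq_of_le_of_card_ge ?_ (Solv.card_conj_smul _ _).ge)
      rw [Solv.conj_smul_eq_map, hWdef, Subgroup.map_iSup]
      refine iSup_mono fun a => ?_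
      rintro _ ⟨_, ⟨u, hu, rfl⟩, rfl⟩
      refine ⟨(a : MulAut G).symm g * u * ((a : MulAut G).symm g)⁻¹,
        (Subgroup.mem_normalizer_iff.1 (hnor (hSinv a a.2 g hg)) u).1 hu, ?_⟩
      simp
    refine hXM (hW W (hWQ.trans hQP) (fun h => hne (eq_bot_iff.2 (h ▸ hUW))) hWP hWinv
      (Solv.mem_normalizer_of_conj_smul
        (Subgroup.eq_of_le_of_card_ge ?_ (Solv.card_conj_smul _ _).ge)))
    rw [Solv.conj_smul_eq_map]
    rintro _ ⟨w, hw, rfl⟩
    have := mul_mem (hUW (hXU w (hWQ hw))) hw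
    simpa using this
  push Not at hall
  obtain ⟨a, ha, v, hv, hvQ⟩ := hall
  have haP : ∀ g ∈ P, (a : MulAut G) g ∈ P := hSmem a ha
  have hvP : (a : MulAut G) v ∈ P := haP _ (hQP (hUQ hv))
  -- `U` is not centralized by `a v`
  have hnc : ∀ g ∈ P, g ∉ Q → ∀ u ∈ U, g * u = u * g → u ∈ C := by
    intro g hg hgQ u hu hgu
    refine ⟨hu, Subgroup.mem_centralizer_iff.2 fun e he => ?_⟩
    by_cases heQ : e ∈ Q
    · exact hcen e heQ u hu
    have h1 := hcen _ (two e he g hg heQ hgQ) u hu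
    calc e * u = e * g * (u * g⁻¹) := by
          rw [show u * g⁻¹ = g⁻¹ * u from (Commute.inv_left (a := g) (b := u) hgu).eq.symm]; group
      _ = (e * g * u) * g⁻¹ := by group
      _ = u * e := by rw [h1]; group
  have hCU : ¬ U ≤ C := fun h => hne (eq_bot_iff.2 fun c hc => Subgroup.mem_bot.2
    (hdis c hc (h hc).2 (h (by
      have h1 := mul_mem (hXU c (hUQ hc)) hc
      simpa using h1)).2))
  -- two elements outside `C` have their product in `C`
  have hQa : ∀ g ∈ P, (a : MulAut G).symm g ∈ Q → g * (a : MulAut G) v = (a : MulAut G) v * g := by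
    intro g hg hgQ
    have h1 := congrArg a (hcen _ hgQ v hv)
    simpa using h1
  have hout : ∀ u ∈ U, u ∉ C → (a : MulAut G).symm u ∉ Q := fun u hu huC h =>
    huC (hnc _ hvP hvQ u hu (hQa u (hQP (hUQ hu)) h).symm)
  have hpair : ∀ u₁ ∈ U, ∀ u₂ ∈ U, u₁ ∉ C → u₂ ∉ C → u₁ * u₂ ∈ C := by
    intro u₁ h₁ u₂ h₂ h₁C h₂C
    refine hnc _ hvP hvQ _ (mul_mem h₁ h₂) (hQa _ (hQP (hUQ (mul_mem h₁ h₂))) ?_).symm
    rw [map_mul]
    exact two _ (hSinv a ha _ (hQP (hUQ h₁))) _ (hSinv a ha _ (hQP (hUQ h₂)))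
      (hout _ h₁ h₁C) (hout _ h₂ h₂C)
  have hXC : ∀ c ∈ C, c ≠ 1 → X * c * X⁻¹ ∈ U ∧ X * c * X⁻¹ ∉ C := by
    intro c hc hc1
    refine ⟨?_, fun h => hc1 (hdis c hc.1 hc.2 h.2)⟩
    simpa using mul_mem (hXU c (hUQ hc.1)) hc.1
  have hC2 : ∀ c₁ ∈ C, ∀ c₂ ∈ C, c₁ ≠ 1 → c₂ ≠ 1 → c₁ * c₂ = 1 := by
    intro c₁ hc₁ c₂ hc₂ h₁ h₂
    refine hdis _ (mul_mem hc₁.1 hc₂.1) (mul_mem hc₁.2 hc₂.2) ?_
    have := (hpair _ (hXC c₁ hc₁ h₁).1 _ (hXC c₂ hc₂ h₂).1 (hXC c₁ hc₁ h₁).2 (hXC c₂ hc₂ h₂).2).2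
    simpa [mul_assoc] using this
  have hCeq : ∀ c₁ ∈ C, ∀ c₂ ∈ C, c₁ ≠ 1 → c₂ ≠ 1 → c₁ = c₂ := fun c₁ hc₁ c₂ hc₂ h₁ h₂ =>
    mul_right_cancel ((hC2 c₁ hc₁ c₂ hc₂ h₁ h₂).trans (hC2 c₂ hc₂ c₂ hc₂ h₂ h₂).symm)
  obtain ⟨u, hu, huC⟩ := SetLike.not_le_iff_exists.1 hCU
  -- a nontrivial element of `C`
  obtain ⟨e, he, heu⟩ : ∃ e ∈ P, ⁅e, u⁆ ≠ 1 := by
    by_contra! h
    exact huC ⟨hu, Subgroup.mem_centralizer_iff.2 fun e he =>
      commutatorElement_eq_one_iff_mul_comm.1 (h e he)⟩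
  set z := ⁅e, u⁆
  have hzC : z ∈ C := ⟨by
      rw [show z = e * u * e⁻¹ * u⁻¹ from commutatorElement_def e u]
      exact U.mul_mem ((Subgroup.mem_normalizer_iff.1 (hnor he) u).1 hu) (U.inv_mem hu),
    (hcl.comm_mem he (hQP (hUQ hu))).2⟩
  have hzX := hXC z hzC heu
  have hsq : ∀ w ∈ U, w ∉ C → w * w = 1 := by
    intro w hw hwC
    by_contra hne1
    have hz : w * w = z := hCeq _ (hpair w hw w hw hwC hwC) _ hzC hne1 heu
    have hw' : X * w * X⁻¹ ∈ U := by simpa using mul_mem (hXU w (hUQ hw)) hw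
    by_cases h : X * w * X⁻¹ ∈ C
    · refine hzX.2 ?_
      rw [← hz, show X * (w * w) * X⁻¹ = X * w * X⁻¹ * (X * w * X⁻¹) by group]
      exact mul_mem h h
    · refine hzX.2 ?_
      rw [← hz, show X * (w * w) * X⁻¹ = X * w * X⁻¹ * (X * w * X⁻¹) by group]
      exact hpair _ hw' _ hw' h h
  -- `a z = z` and `⁅u, a u⁆ = z`
  have hauC : ∀ w ∈ U, w ∉ C → (a : MulAut G) w ∉ Q := by
    intro w hw hwC hwQ
    by_cases hvC : v ∈ C
    · have h1 := hScent a ha v hvC.2
      exact huC (hnc _ hvP hvQ u hu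
        (Subgroup.mem_centralizer_iff.1 h1 u (hQP (hUQ hu))).symm)
    -- `v = w * c` with `c` central
    have hc := hScent a ha _ (hpair w hw v hv hwC hvC).2
    rw [map_mul] at hc
    refine huC (hnc _ hvP hvQ u hu ?_)
    have h1 := Subgroup.mem_centralizer_iff.1 hc u (hQP (hUQ hu))
    have h2 : Commute ((a : MulAut G) w) u := hcen _ hwQ u hu
    have h3 : Commute ((a : MulAut G) w * (a : MulAut G) v) u := h1.symm
    have h4 := h2.inv_left.mul_left h3
    rwa [inv_mul_cancel_left] at h4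
  have hauu : ⁅u, (a : MulAut G) u⁆ ≠ 1 := fun h =>
    huC (hnc _ (haP _ (hQP (hUQ hu))) (hauC u hu huC) u hu
      (commutatorElement_eq_one_iff_mul_comm.1 h).symm)
  have huP := hQP (hUQ hu)
  have hcomU : ⁅u, (a : MulAut G) u⁆ ∈ C := by
    refine ⟨?_, (hcl.comm_mem huP (haP _ huP)).2⟩
    rw [commutatorElement_def, mul_assoc, mul_assoc]
    refine mul_mem hu ?_
    rw [← mul_assoc]
    exact (Subgroup.mem_normalizer_iff.1 (hnor (haP _ huP)) _).1 (inv_mem hu)
  have hcz : ⁅u, (a : MulAut G) u⁆ = z := hCeq _ hcomU _ hzC hauu heu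
  have haz : (a : MulAut G) z = z := by
    have hmemU : (a : MulAut G).symm z ∈ U := by
      rw [← hcz, commutatorElement_def, map_mul, map_mul, map_mul, map_inv, map_inv,
        MulEquiv.symm_apply_apply]
      exact mul_mem ((Subgroup.mem_normalizer_iff.1 (hnor (hSinv a ha u huP)) u).1 hu) (inv_mem hu)
    have hmem : (a : MulAut G).symm z ∈ C := ⟨hmemU, hScent a⁻¹ (inv_mem ha) z hzC.2⟩
    have := hCeq _ hmem _ hzC (by simpa using heu) heu
    conv_lhs => rw [← this]
    simp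
  -- the orbit of `u`
  let us : ℕ → G := fun m => ((a : MulAut G) ^ m) u
  have huP' : ∀ m, us m ∈ P := fun m => hSmem _ (pow_mem ha m) u huP
  have hus2 : ∀ m, us m * us m = 1 := fun m => by
    show ((a : MulAut G) ^ m) u * ((a : MulAut G) ^ m) u = 1
    rw [← map_mul, hsq u hu huC, map_one]
  have hus : ∀ m, ⁅us m, us (m + 1)⁆ = z := by
    intro m
    induction m with
    | zero => simpa [us] using hcz
    | succ m ih =>
      have := congrArg a ih
      rw [map_commutatorElement, haz] at this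
      simpa [us, pow_succ', MulAut.mul_apply] using this
  have hkey : ∀ m, us m ∈ Q ↔ us (m + 1) ∉ Q := by
    intro m
    constructor
    · intro h1 h2
      -- both inside `Q`
      refine heu (hfix z hzC.1 ?_)
      have hA := hXU _ h1
      have hB := hXU _ h2
      have hcA := hcen _ h1 _ hB
      have hcB := hcen _ h2 _ hA
      have hX1Q : X * us m * X⁻¹ ∈ Q := (Subgroup.mem_normalizer_iff.1 hXQ _).1 h1
      rw [← hus m, commutatorElement_def]
      set p := us m
      set q := us (m + 1)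
      have hp : X * p * X⁻¹ = (X * p * X⁻¹ * p⁻¹) * p := by group
      have hq : X * q * X⁻¹ = (X * q * X⁻¹ * q⁻¹) * q := by group
      set A := X * p * X⁻¹ * p⁻¹
      set B := X * q * X⁻¹ * q⁻¹
      have hAB : Commute A B := hcen _ (hUQ hA) _ hB
      have hAq : Commute A q := hcB.symm
      have hBp : Commute B p := hcA.symm
      have hAp : Commute A p := (hcen _ h1 _ hA).symm
      have hBq : Commute B q := (hcen _ h2 _ hB).symm
      calc X * (p * q * p⁻¹ * q⁻¹) * X⁻¹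
          = (X * p * X⁻¹) * (X * q * X⁻¹) * (X * p * X⁻¹)⁻¹ * (X * q * X⁻¹)⁻¹ := by group
        _ = A * p * (B * q) * (A * p)⁻¹ * (B * q)⁻¹ := by rw [← hp, ← hq]
        _ = p * A * (B * q) * (A⁻¹ * p⁻¹) * (B * q)⁻¹ := by
            rw [hAp.eq, mul_inv_rev]
        _ = p * (B * q) * p⁻¹ * (B * q)⁻¹ := by
            have h3 : A * (B * q) * A⁻¹ = B * q := by
              rw [(hAB.mul_right hAq).eq, mul_inv_cancel_right]
            calc p * A * (B * q) * (A⁻¹ * p⁻¹) * (B * q)⁻¹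
                = p * (A * (B * q) * A⁻¹) * p⁻¹ * (B * q)⁻¹ := by group
              _ = _ := by rw [h3]
        _ = p * q * p⁻¹ * q⁻¹ := by
            have h4 : p * B * p⁻¹ = B := by rw [← hBp.eq, mul_inv_cancel_right]
            have h5 : B * (p * q * p⁻¹) = (p * q * p⁻¹) * B := by
              have h6 : Commute B (p * q * p⁻¹) := (hBp.mul_right hBq).mul_right hBp.inv_right
              exact h6.eq
            calc p * (B * q) * p⁻¹ * (B * q)⁻¹ = (p * B * p⁻¹) * (p * q * p⁻¹) * q⁻¹ * B⁻¹ := by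
                  group
              _ = B * (p * q * p⁻¹ * q⁻¹) * B⁻¹ := by rw [h4]; group
              _ = _ := by
                  have h6 : Commute B (p * q * p⁻¹ * q⁻¹) :=
                    Commute.mul_right h5 hBq.inv_right
                  rw [h6.eq, mul_inv_cancel_right]
    · intro h2
      by_contra h1
      refine heu (hfix z hzC.1 ?_)
      have hr : us m * us (m + 1) ∈ Q := two _ (huP' m) _ (huP' (m + 1)) h1 h2
      have hz : us m * us (m + 1) * (us m * us (m + 1)) = z := by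
        rw [← hus m, commutatorElement_def, inv_eq_of_mul_eq_one_right (hus2 m),
          inv_eq_of_mul_eq_one_right (hus2 (m + 1))]
        group
      set r := us m * us (m + 1)
      have hA := hXU _ hr
      have hAr : Commute (X * r * X⁻¹ * r⁻¹) r := (hcen _ hr _ hA).symm
      have hA2 : (X * r * X⁻¹ * r⁻¹) * (X * r * X⁻¹ * r⁻¹) = 1 := by
        set A := X * r * X⁻¹ * r⁻¹
        by_cases hAC : A ∈ C
        · by_cases hA1 : A = 1
          · rw [hA1, one_mul]
          · exact hC2 _ hAC _ hAC hA1 hA1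
        · exact hsq _ hA hAC
      rw [← hz]
      calc X * (r * r) * X⁻¹ = ((X * r * X⁻¹ * r⁻¹) * r) * ((X * r * X⁻¹ * r⁻¹) * r) := by group
        _ = (X * r * X⁻¹ * r⁻¹) * ((X * r * X⁻¹ * r⁻¹) * r) * r := by
            conv_rhs => rw [hAr.eq]
            group
        _ = r * r := by
            calc _ = (X * r * X⁻¹ * r⁻¹) * (X * r * X⁻¹ * r⁻¹) * (r * r) := by group
              _ = _ := by rw [hA2, one_mul]
  have hpar : ∀ m, us m ∈ Q ↔ Even m := by
    intro m
    induction m with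
    | zero => simpa [us] using hUQ hu
    | succ m ih =>
      rw [Nat.even_add_one, ← ih, hkey m, not_not]
  have h1 : (⟨a, ha⟩ : S) ^ Nat.card S = 1 := pow_card_eq_one'
  have h2 : us (Nat.card S) = u := by
    show ((a : MulAut G) ^ Nat.card S) u = u
    rw [show (a : MulAut G) ^ Nat.card S = 1 from congrArg Subtype.val h1]
    rfl
  exact Nat.not_even_iff_odd.2 hS ((hpar _).1 (h2.symm ▸ hUQ hu))

end Cfsg.Agent.Solv.OddGated
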