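import Cfsg.Agent.Lib.Solv.OddGated.MaxInvNil

/-!
Structure of a non-nilpotent group all of whose invariant proper subgroups are nilpotent.
-/

set_option autoImplicit false

open scoped Pointwise commutatorElement

namespace Cfsg.Agent.Solv.OddGated

universe u

variable {G : Type u} [Group G] [Finite G] {A K : Subgroup G}

theorem sylIn_normal_of_nilpotent {p : ℕ} [Fact p.Prime] {P H : Subgroup G} (hP : IsSylIn p P H)
    (hH : Group.IsNilpotent H) : H ≤ Subgroup.normalizer (P : Set G) := by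
  obtain ⟨T, hT⟩ := hP.exists_sylow
  haveI := hH
  haveI hn : (T : Subgroup H).Normal :=
    ((Group.isNilpotent_of_finite_tfae (G := H)).out 0 3
      (a := Group.IsNilpotent H)
      (b := ∀ (q : ℕ) (_ : Fact q.Prime) (R : Sylow q H), (R : Subgroup H).Normal)).1
      hH p ‹_› T
  intro x hx
  refine mem_normalizer_of_conj_smul ?_
  rw [← hT, show x = H.subtype ⟨x, hx⟩ from rfl, ← map_conj_smul,
    conj_smul_of_mem_normalizer (by rw [Subgroup.normalizer_eq_top]; trivial)]

theorem nilpotent_of_sylIn (h : ∀ (p : ℕ) [Fact p.Prime], ∃ P, IsSylIn p P K ∧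
    K ≤ Subgroup.normalizer (P : Set G)) : Group.IsNilpotent K := by
  refine ((Group.isNilpotent_of_finite_tfae (G := K)).out 0 3
    (a := Group.IsNilpotent K)
    (b := ∀ (q : ℕ) (_ : Fact q.Prime) (R : Sylow q K), (R : Subgroup K).Normal)).2 ?_
  intro p _ T
  obtain ⟨P, hP, hn⟩ := h p
  obtain ⟨k, hk, e⟩ := hP.exists_conj (IsSylIn.of_sylow T)
  rw [conj_smul_of_mem_normalizer (hn hk)] at e
  refine ⟨fun x hx y => ?_⟩
  have h1 : ((x : K) : G) ∈ P := e ▸ Subgroup.mem_map_of_mem K.subtype hx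
  have h2 := (Subgroup.mem_normalizer_iff.1 (hn y.2) (x : G)).1 h1
  rw [e] at h2
  obtain ⟨z, hz, hze⟩ := h2
  rwa [show y * x * y⁻¹ = z from Subtype.ext hze.symm]

variable (hAK : A ≤ Subgroup.normalizer (K : Set G)) (hco : (Nat.card A).Coprime (Nat.card K))
  (hK : Group.IsSolvable K) (hnil : AllNil A K) (hnn : ¬ Group.IsNilpotent K)

include hAK hco hK hnil hnn

theorem exists_two_primes : ∃ p q : ℕ, p.Prime ∧ q.Prime ∧ p ≠ q ∧ p ∣ Nat.card K ∧
    q ∣ Nat.card K ∧ ∀ r : ℕ, r.Prime → r ∣ Nat.card K → r = p ∨ r = q := by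
  by_cases hthree : ∀ p q : ℕ, p.Prime → q.Prime →
      ∃ r : ℕ, r.Prime ∧ r ∣ Nat.card K ∧ r ≠ p ∧ r ≠ q
  · refine absurd (nilpotent_of_sylIn fun p hp => ?_) hnn
    haveI := hp
    obtain ⟨P, hP, hPA⟩ := exists_invariant_sylow hAK hco (Or.inr hK) p
    refine ⟨P, hP, ?_⟩
    set M := K ⊓ Subgroup.normalizer (P : Set G)
    suffices h : Nat.card K ∣ Nat.card M by
      have e : M = K := Subgroup.eq_of_le_of_card_ge inf_le_left (Nat.le_of_dvd Nat.card_pos h)
      exact inf_eq_left.1 e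
    rw [Nat.dvd_iff_prime_pow_dvd_dvd]
    intro q j hq hqj
    obtain ⟨r, hr, hrK, hrp, hrq⟩ := hthree p q hp.out hq
    obtain ⟨m, n, hmn, hcmn, hm, hn⟩ :=
      exists_pi_split ({p, q} : Set ℕ) (Nat.card K) Nat.card_pos.ne'
    have hnp : ∀ t ∈ ({p, q} : Set ℕ), t.Prime → t.Coprime n := fun t ht htp =>
      htp.coprime_iff_not_dvd.2 fun hd => hn t htp hd ht
    have hcoP : (Nat.card P).Coprime n := by
      rw [hP.2]
      exact (hnp p (by simp) hp.out).pow_left _
    obtain ⟨H, hHK, hHm, hHA, hPH⟩ :=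
      invariant_hall_contain hAK hco hK hmn hcmn P hP.1 hPA hcoP
    have hHne : H ≠ K := fun e => by
      have h1 : r ∣ m := hHm ▸ e ▸ hrK
      rcases hm r hr h1 with h | h
      · exact hrp h
      · exact hrq (Set.mem_singleton_iff.1 h)
    have hPH' : IsSylIn p P H := by
      refine ⟨hPH, ?_⟩
      obtain ⟨j', hj'⟩ : ∃ j', Nat.card P = p ^ j' := ⟨_, hP.2⟩
      rw [hP.2]
      congr 1
      refine le_antisymm ?_ ((Nat.factorization_le_iff_dvd Nat.card_pos.ne' Nat.card_pos.ne').2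
        (Subgroup.card_dvd_of_le hHK) p)
      have h1 := Subgroup.card_dvd_of_le hPH
      rw [hP.2] at h1
      exact (hp.out.pow_dvd_iff_le_factorization Nat.card_pos.ne').1 h1
    have hle : H ≤ M := le_inf hHK (sylIn_normal_of_nilpotent hPH' (hnil H hHK hHne hHA))
    refine (dvd_trans ?_ (Subgroup.card_dvd_of_le hle))
    rw [hHm]
    exact ((hnp q (by simp) hq).pow_left j).dvd_of_dvd_mul_right (hmn ▸ hqj)
  · push Not at hthree
    obtain ⟨p, q, hp, hq, hall⟩ := hthree
    have hone : ∀ s : ℕ, s.Prime → ¬ ∀ r : ℕ, r.Prime → r ∣ Nat.card K → r = s := by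
      intro s hs h
      haveI := Fact.mk hs
      exact hnn ((IsPGroup.of_card (G := K) (Nat.eq_prime_pow_of_unique_prime_dvd
        Nat.card_pos.ne' (p := s) fun {d} hd hdd => h d hd hdd))).isNilpotent
    have hne : p ≠ q := fun e => hone p hp fun r hr hrK => by
      by_contra h
      exact h ((hall r hr hrK h).trans e.symm)
    have hpd : p ∣ Nat.card K := by
      by_contra h
      refine hone q hq fun r hr hrK => ?_
      exact hall r hr hrK fun e => h (e ▸ hrK)
    have hqd : q ∣ Nat.card K := by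
      by_contra h
      refine hone p hp fun r hr hrK => ?_
      by_contra h'
      exact h ((hall r hr hrK h') ▸ hrK)
    exact ⟨p, q, hp, hq, hne, hpd, hqd, fun r hr hrK =>
      (em (r = p)).imp id (hall r hr hrK)⟩

theorem exists_normal_sylow : ∃ (q : ℕ) (Q : Subgroup G), q.Prime ∧ q ∣ Nat.card K ∧
    IsSylIn q Q K ∧ K ≤ Subgroup.normalizer (Q : Set G) ∧
    A ≤ Subgroup.normalizer (Q : Set G) := by
  haveI := hK
  haveI : Nontrivial K := by
    by_contra h
    haveI := not_nontrivial_iff_subsingleton.1 h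
    exact hnn inferInstance
  have hlt := Group.IsSolvable.commutator_lt_top_of_nontrivial (G := K)
  set D := commutator K
  have hidx : D.index ≠ 1 := fun h => hlt.ne (Subgroup.index_eq_one.1 h)
  obtain ⟨p, hp, hpD⟩ := Nat.exists_prime_and_dvd hidx
  haveI := Fact.mk hp
  set M := (Cfsg.pResidual p K).map K.subtype with hMdef
  have hMK : M ≠ K := fun e => by
    have e1 : Cfsg.pResidual p K = ⊤ := Subgroup.map_injective K.subtype_injective (by
      rw [← hMdef, e, ← MonoidHom.range_eq_map, Subgroup.range_subtype])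
    have e2 : Cfsg.pResidual p (K ⧸ D) = ⊤ := by
      rw [← Fusion.map_pResidual_of_surjective (QuotientGroup.mk' D)
        (QuotientGroup.mk'_surjective D), e1,
        Subgroup.map_top_of_surjective _ (QuotientGroup.mk'_surjective D)]
    haveI : Group.IsNilpotent (K ⧸ D) := by
      letI : CommGroup (K ⧸ D) := inferInstanceAs (CommGroup (Abelianization K))
      infer_instance
    have h1 := Fusion.hnpc_iff.1 (Fusion.hnpc_of_isNilpotent (G := K ⧸ D) (p := p))
    rw [e2, Subgroup.card_top, ← Subgroup.index_eq_card] at h1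
    exact (hp.coprime_iff_not_dvd.1 h1.symm) hpD
  have hMA : A ≤ Subgroup.normalizer (M : Set G) := normalizer_residual p hAK
  have hMnil : Group.IsNilpotent M := hnil M (Subgroup.map_subtype_le _) hMK hMA
  obtain ⟨p₁, q₁, hp₁, hq₁, hne, hd₁, hd₂, -⟩ := exists_two_primes hAK hco hK hnil hnn
  obtain ⟨q, hq, hqK, hqp⟩ : ∃ q : ℕ, q.Prime ∧ q ∣ Nat.card K ∧ q ≠ p := by
    by_cases h : p₁ = p
    · exact ⟨q₁, hq₁, hd₂, fun e => hne (h.trans e.symm)⟩
    · exact ⟨p₁, hp₁, hd₁, h⟩
  haveI := Fact.mk hq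
  obtain ⟨Q, hQ, hQA⟩ := exists_invariant_sylow hAK hco (Or.inr hK) q
  have hQM : Q ≤ M := fun x hx => by
    refine ⟨⟨x, hQ.1 hx⟩, Subgroup.subset_closure ?_, rfl⟩
    show (orderOf _).Coprime p
    rw [← Subgroup.orderOf_coe]
    have h1 : orderOf x ∣ Nat.card Q := by
      rw [← Subgroup.orderOf_mk x hx]; exact orderOf_dvd_natCard _
    rw [hQ.2] at h1
    exact Nat.Coprime.coprime_dvd_left h1 (((Nat.coprime_primes hq hp).2 hqp).pow_left _)
  have hQM' : IsSylIn q Q M := by
    refine ⟨hQM, ?_⟩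
    rw [hQ.2]
    congr 1
    refine le_antisymm ?_ ((Nat.factorization_le_iff_dvd Nat.card_pos.ne' Nat.card_pos.ne').2
      (Subgroup.card_dvd_of_le (Subgroup.map_subtype_le _)) q)
    have h1 := Subgroup.card_dvd_of_le hQM
    rw [hQ.2] at h1
    exact (hq.pow_dvd_iff_le_factorization Nat.card_pos.ne').1 h1
  refine ⟨q, Q, hq, hqK, hQ, fun x hx => ?_, hQA⟩
  have hxM : x ∈ Subgroup.normalizer (M : Set G) := normalizer_residual_self p K hx
  obtain ⟨m, hm, e⟩ := hQM'.exists_conj (hQM'.conj hxM)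
  refine mem_normalizer_of_conj_smul ?_
  rw [← e, conj_smul_of_mem_normalizer (sylIn_normal_of_nilpotent hQM' hMnil hm)]

end Cfsg.Agent.Solv.OddGated
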