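import Cfsg.Agent.Lib.Solv.OddGated.ClassTwoOrbit
import Cfsg.Agent.Lib.Solv.OddGated.MaxInvNilStructure

/-!
A group with a nilpotent maximal invariant subgroup whose Sylow 2-subgroup has class at most two.
-/

set_option autoImplicit false

open scoped Pointwise commutatorElement

namespace Cfsg.Agent.Solv.OddGated

universe u

variable {G : Type u} [Group G]

/-- `M` is a nilpotent maximal invariant proper subgroup of `K`, of 2-class at most two. -/
structure MaxNil (A K M : Subgroup G) : Prop where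
  le : M ≤ K
  ne : M ≠ K
  inv : A ≤ Subgroup.normalizer (M : Set G)
  max : ∀ H : Subgroup G, H ≤ K → M ≤ H → H ≠ K → A ≤ Subgroup.normalizer (H : Set G) → H = M
  nil : Group.IsNilpotent M
  two : ∃ P : Subgroup G, IsSylIn 2 P M ∧ ClTwo P

variable [Finite G]

theorem centralize_of_nilpotent {p : ℕ} [Fact p.Prime] {P M : Subgroup G}
    (hP : IsSylIn p P M) (hM : Group.IsNilpotent M) {m : G} (hm : m ∈ M) :
    ∃ m₁ m₂ : G, m = m₁ * m₂ ∧ m₁ ∈ P ∧ m₂ ∈ M ∧ ∀ e ∈ P, e * m₂ = m₂ * e := by
  obtain ⟨m₁, m₂, h₁, h₂, he, ⟨j, hj⟩, hco⟩ := Solv.exists_ppart p m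
  have hn := sylIn_normal_of_nilpotent hP hM
  have hm₁ : m₁ ∈ M := (Subgroup.zpowers_le.2 hm) h₁
  have hm₂ : m₂ ∈ M := (Subgroup.zpowers_le.2 hm) h₂
  refine ⟨m₁, m₂, he.symm, ?_, hm₂, ?_⟩
  · rw [hP.eq_of_le
      ((Solv.isPGroup_zpowers hj).to_sup_of_normal_right' hP.isPGroup
        ((Subgroup.zpowers_le.2 hm₁).trans hn))
      (sup_le (Subgroup.zpowers_le.2 hm₁) hP.1) le_sup_right]
    exact Subgroup.mem_sup_left (Subgroup.mem_zpowers _)
  · haveI := hM
    have h := Fusion.hnpc_centralize (Fusion.hnpc_of_isNilpotent (G := M) (p := p))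
      (Q := P.subgroupOf M) (hP.isPGroup.comap_of_injective _ M.subtype_injective)
      (g := ⟨m₂, hm₂⟩) (by rw [← Subgroup.subgroupOf_normalizer_eq hP.1]; exact hn hm₂)
      (by rwa [Subgroup.orderOf_mk])
    exact fun e he => congrArg Subtype.val (Subgroup.mem_centralizer_iff.1 h ⟨e, hP.1 he⟩ he)

theorem normalizes_of_nilpotent {p : ℕ} [Fact p.Prime] {P M W : Subgroup G}
    (hP : IsSylIn p P M) (hM : Group.IsNilpotent M) (hWP : W ≤ P)
    (hW : P ≤ Subgroup.normalizer (W : Set G)) : M ≤ Subgroup.normalizer (W : Set G) := by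
  intro m hm
  obtain ⟨m₁, m₂, rfl, h₁, -, hc⟩ := centralize_of_nilpotent hP hM hm
  exact mul_mem (hW h₁) (Subgroup.centralizer_le_normalizer _
    (Subgroup.mem_centralizer_iff.2 fun w hw => hc w (hWP hw)))

theorem map_sylow_image {Q : Type*} [Group Q] [Finite Q] (f : G →* Q) {p : ℕ} [Fact p.Prime]
    {P M : Subgroup G} (hP : IsSylIn p P M) : IsSylIn p (P.map f) (M.map f) := by
  obtain ⟨T, hT⟩ := hP.exists_sylow
  have h := IsSylIn.of_sylow (K := M.map f) (T.mapSurjective (f.subgroupMap_surjective M))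
  have e : ((T.mapSurjective (f.subgroupMap_surjective M) : Sylow p (M.map f)) :
      Subgroup (M.map f)).map (M.map f).subtype = P.map f := by
    rw [Sylow.coe_mapSurjective, Subgroup.map_map, ← hT, Subgroup.map_map]
    rfl
  rwa [e] at h

theorem sylIn_of_normalizer {p : ℕ} [Fact p.Prime] {P M K : Subgroup G} (hP : IsSylIn p P M)
    (hMK : M ≤ K) (hN : K ⊓ Subgroup.normalizer (P : Set G) ≤ M) : IsSylIn p P K := by
  obtain ⟨S, hS⟩ := (hP.isPGroup.comap_subtype (K := K)).exists_le_sylow
  set S' := (S : Subgroup K).map K.subtype with hS'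
  have hPS : P ≤ S' := fun x hx =>
    ⟨⟨x, hMK (hP.1 hx)⟩, hS hx, rfl⟩
  suffices h : S' = P by
    rw [← h]
    exact IsSylIn.of_sylow S
  refine le_antisymm ?_ hPS
  by_contra hne
  have : Group.IsNilpotent S' := (IsSylIn.of_sylow S).isPGroup.isNilpotent
  have hnc := Group.normalizerCondition_of_isNilpotent (G := S') (P.subgroupOf S')
    (lt_top_iff_ne_top.2 fun h => hne (Subgroup.subgroupOf_eq_top.1 h))
  obtain ⟨x, hxN, hxP⟩ := SetLike.exists_of_lt hnc
  have hx' : (x : G) ∈ Subgroup.normalizer (P : Set G) := by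
    have h2 : (P.subgroupOf S').map S'.subtype = P := Subgroup.map_subgroupOf_eq_of_le hPS
    refine mem_normalizer_of_conj_smul ?_
    have := congrArg (Subgroup.map S'.subtype) (conj_smul_of_mem_normalizer hxN)
    rwa [map_conj_smul, h2] at this
  have hxM : (x : G) ∈ M := hN ⟨Subgroup.map_subtype_le _ x.2, hx'⟩
  have hW : P ⊔ Subgroup.zpowers (x : G) ≤ S' := sup_le hPS (Subgroup.zpowers_le.2 x.2)
  have := hP.eq_of_le ((IsSylIn.of_sylow S).isPGroup.to_le hW)
    (sup_le hP.1 (Subgroup.zpowers_le.2 hxM)) le_sup_left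
  exact hxP (by
    show (x : G) ∈ P
    rw [this]
    exact Subgroup.mem_sup_right (Subgroup.mem_zpowers _))

variable {A K M : Subgroup G}

theorem MaxNil.normalizer_eq (h : MaxNil A K M) (hAK : A ≤ Subgroup.normalizer (K : Set G))
    (hcore : ∀ N : Subgroup G, N ≤ M → A ≤ Subgroup.normalizer (N : Set G) →
      K ≤ Subgroup.normalizer (N : Set G) → N = ⊥)
    {W : Subgroup G} (hWM : W ≤ M) (hW : W ≠ ⊥) (hMW : M ≤ Subgroup.normalizer (W : Set G))
    (hAW : A ≤ Subgroup.normalizer (W : Set G)) :
    K ⊓ Subgroup.normalizer (W : Set G) = M :=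
  h.max _ inf_le_left (le_inf h.le hMW) (fun e => hW (hcore W hWM hAW (inf_eq_left.1 e)))
    (normalizer_inf_normalizer hAK hAW)

theorem MaxNil.sylow_normalized {p : ℕ} [Fact p.Prime] (h : MaxNil A K M) {P : Subgroup G}
    (hP : IsSylIn p P M) : A ≤ Subgroup.normalizer (P : Set G) := by
  intro a ha
  obtain ⟨m, hm, e⟩ := hP.exists_conj (hP.conj (h.inv ha))
  exact mem_normalizer_of_conj_smul
    (e.symm.trans (conj_smul_of_mem_normalizer (sylIn_normal_of_nilpotent hP h.nil hm)))

theorem MaxNil.hnpc_two (h : MaxNil A K M) (hAK : A ≤ Subgroup.normalizer (K : Set G))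
    (hco : (Nat.card A).Coprime (Nat.card K))
    (hcore : ∀ N : Subgroup G, N ≤ M → A ≤ Subgroup.normalizer (N : Set G) →
      K ≤ Subgroup.normalizer (N : Set G) → N = ⊥)
    {P : Subgroup G} (hP : IsSylIn 2 P M) (hcl : ClTwo P) (hne : P ≠ ⊥)
    (hPK : IsSylIn 2 P K) : Cfsg.HasNormalPComplement 2 K := by
  haveI := Fact.mk Nat.prime_two
  obtain ⟨T, hT⟩ := hPK.exists_sylow
  set M' := M.subgroupOf K
  have hTM : (T : Subgroup K) ≤ M' := fun x hx => hP.1 (hT ▸ Subgroup.mem_map_of_mem _ hx)
  have hM' : Group.IsNilpotent M' := by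
    haveI := h.nil
    exact Group.nilpotent_of_mulEquiv (Subgroup.subgroupOfEquivOfLe h.le).symm
  have hclT : ClTwo (T : Subgroup K) := fun a ha b hb c hc => Subtype.ext (by
    have := hcl (a : G) (hT ▸ Subgroup.mem_map_of_mem _ ha) b
      (hT ▸ Subgroup.mem_map_of_mem _ hb) c (hT ▸ Subgroup.mem_map_of_mem _ hc)
    simpa [commutatorElement_def] using this)
  let α : A →* MulAut K :=
    (Subgroup.normalizerMonoidHom K).comp (Subgroup.inclusion hAK)
  have hα : ∀ (a : A) (x : K), ((α a x : K) : G) = (a : G) * x * (a : G)⁻¹ := fun a x => rfl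
  have hmapα : ∀ (a : A) (W : Subgroup K),
      (W.map (α a).toMonoidHom).map K.subtype = MulAut.conj (a : G) • W.map K.subtype := by
    intro a W
    rw [conj_smul_eq_map, Subgroup.map_map, Subgroup.map_map]
    congr 1
  have hαP : ∀ σ ∈ α.range, (T : Subgroup K).map (σ : MulAut K).toMonoidHom = (T : Subgroup K) := by
    rintro _ ⟨a, rfl⟩
    refine Subgroup.map_injective K.subtype_injective ?_
    rw [hmapα, hT, conj_smul_of_mem_normalizer (h.sylow_normalized hP a.2)]
  have hW : ∀ W : Subgroup K, W ≤ (T : Subgroup K) → W ≠ ⊥ →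
      (T : Subgroup K) ≤ Subgroup.normalizer (W : Set K) →
      (∀ σ ∈ α.range, W.map (σ : MulAut K).toMonoidHom = W) →
      Subgroup.normalizer (W : Set K) ≤ M' := by
    intro W hWT hWne hTW hinv x hx
    set W₀ := W.map K.subtype
    have hWP : W₀ ≤ P := hT ▸ Subgroup.map_mono hWT
    have hPW : P ≤ Subgroup.normalizer (W₀ : Set G) := by
      rw [← hT]
      rintro _ ⟨t, ht, rfl⟩
      exact Subgroup.le_normalizer_map _ ⟨t, hTW ht, rfl⟩
    have hAW : A ≤ Subgroup.normalizer (W₀ : Set G) := fun a ha => by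
      refine mem_normalizer_of_conj_smul ?_
      rw [← hmapα ⟨a, ha⟩, hinv _ ⟨⟨a, ha⟩, rfl⟩]
    have e := h.normalizer_eq hAK hcore (hWP.trans hP.1)
      (fun e => hWne ((Subgroup.map_eq_bot_iff_of_injective _ K.subtype_injective).1 e))
      (normalizes_of_nilpotent hP h.nil hWP hPW) hAW
    exact e.le ⟨x.2, Subgroup.le_normalizer_map _ ⟨x, hx, rfl⟩⟩
  have hTne : (T : Subgroup K) ≠ ⊥ := fun e => hne (by rw [← hT, e, Subgroup.map_bot])
  have hNT : Subgroup.normalizer ((T : Subgroup K) : Set K) ≤ M' :=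
    hW _ le_rfl hTne Subgroup.le_normalizer hαP
  have hNZ : Subgroup.normalizer (((T : Subgroup K) ⊓
      Subgroup.centralizer ((T : Subgroup K) : Set K) : Subgroup K) : Set K) ≤ M' := by
    refine hW _ inf_le_left ?_ ?_ fun σ hσ => ?_
    · intro e
      haveI : Nontrivial (T : Subgroup K) := (Subgroup.nontrivial_iff_ne_bot _).2 hTne
      haveI := T.isPGroup'.center_nontrivial
      obtain ⟨z, hz⟩ := exists_ne (1 : Subgroup.center (T : Subgroup K))
      refine hz (Subtype.ext (Subtype.ext (Subgroup.mem_bot.1 (e.le ⟨z.1.2, ?_⟩))))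
      exact Subgroup.mem_centralizer_iff.2 fun t ht =>
        congrArg Subtype.val (Subgroup.mem_center_iff.1 z.2 ⟨t, ht⟩)
    · refine hclT.le_normalizer inf_le_left le_rfl
    · have e : ((T : Subgroup K) : Set K) = σ '' ((T : Subgroup K) : Set K) := by
        conv_lhs => rw [← hαP σ hσ]
        rfl
      refine Subgroup.eq_of_le_of_card_ge ?_ (Nat.card_congr
        (Subgroup.equivMapOfInjective _ _ (σ : MulAut K).injective).toEquiv).le
      rintro _ ⟨z, hz, rfl⟩
      refine ⟨(hαP σ hσ).le ⟨z, hz.1, rfl⟩, Subgroup.mem_centralizer_iff.2 fun t ht => ?_⟩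
      obtain ⟨t', ht', rfl⟩ : t ∈ σ '' ((T : Subgroup K) : Set K) := e ▸ ht
      have := congrArg σ (Subgroup.mem_centralizer_iff.1 hz.2 t' ht')
      simpa using this
  have hMT : M' ≤ Subgroup.normalizer ((T : Subgroup K) : Set K) := by
    intro x hx
    refine mem_normalizer_of_conj_smul (Subgroup.map_injective K.subtype_injective ?_)
    rw [map_conj_smul K.subtype x, hT]
    exact conj_smul_of_mem_normalizer (sylIn_normal_of_nilpotent hP h.nil hx)
  refine hnpc_of_normalizers T hM' hTM hclT fun Q hZQ hQT => ?_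
  by_contra hbad
  have heven : 2 ∣ Nat.card K := by
    have h1 : Nat.card P ≠ 1 := fun e => hne (Subgroup.card_eq_one.1 e)
    obtain ⟨j, hj⟩ := IsPGroup.iff_card.1 hP.isPGroup
    refine dvd_trans ?_ (Subgroup.card_dvd_of_le hPK.1)
    rw [hj] at h1 ⊢
    exact dvd_pow_self 2 fun e => h1 (by rw [e, pow_zero])
  have hS : Odd (Nat.card α.range) := by
    refine Nat.not_even_iff_odd.1 fun he => ?_
    exact absurd (Nat.eq_one_of_dvd_coprimes hco
      (he.two_dvd.trans (Subgroup.card_range_dvd α)) heven) (by norm_num)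
  obtain ⟨d⟩ := exists_datum T.isPGroup' (fun R hR hTR => T.is_maximal' hR hTR) hM' hTM hMT hNT hNZ
    hclT ⟨Q, hZQ, hQT, hbad⟩
  exact no_datum d hclT α.range hS hαP hW

theorem solvable_of_maxNil_aux (hFT : OddSolvable.{u}) : ∀ (k : ℕ) (G : Type u) [Group G]
    [Finite G] (A K M : Subgroup G), Nat.card K = k → A ≤ Subgroup.normalizer (K : Set G) →
    (Nat.card A).Coprime (Nat.card K) → MaxNil A K M → Group.IsSolvable K := by
  intro k
  induction k using Nat.strong_induction_on with
  | _ k ih =>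
  intro G _ _ A K M hk hAK hco h
  haveI := Fact.mk Nat.prime_two
  by_cases hred : ∃ N : Subgroup G, N ≤ M ∧ N ≠ ⊥ ∧
      A ≤ Subgroup.normalizer (N : Set G) ∧ K ≤ Subgroup.normalizer (N : Set G)
  · obtain ⟨N, hNM, hN1, hAN, hKN⟩ := hred
    have hNK : N ≤ K := hNM.trans h.le
    set L := Subgroup.normalizer (N : Set G)
    haveI : (N.subgroupOf L).Normal :=
      Subgroup.normal_subgroupOf_of_le_normalizer le_rfl
    set f := QuotientGroup.mk' (N.subgroupOf L) with hf
    set K' := K.subgroupOf L
    set A' := A.subgroupOf L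
    set M' := M.subgroupOf L
    have hML : M ≤ L := h.le.trans hKN
    have hkerM : f.ker ≤ M' := by
      rw [hf, QuotientGroup.ker_mk']; exact fun x hx => hNM hx
    have hMK' : M' ≤ K' := fun x hx => h.le hx
    have hker : f.ker ≤ K' := hkerM.trans hMK'
    have hcard : Nat.card (K'.map f) * Nat.card N = Nat.card K := by
      have h1 := Subgroup.relIndex_map_map f ⊥ K'
      rw [Subgroup.map_bot, bot_sup_eq, sup_eq_left.2 hker, hf, QuotientGroup.ker_mk', ← hf,
        Subgroup.relIndex_bot_left] at h1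
      rw [h1, ← card_subgroupOf hKN, ← card_subgroupOf (Subgroup.le_normalizer : N ≤ L),
        mul_comm, ← card_subgroupOf (L := K') (H := N.subgroupOf L) fun x hx => hNK hx]
      exact Subgroup.card_mul_index _
    have hlt : Nat.card (K'.map f) < k := by
      rw [← hk, ← hcard]
      exact lt_mul_of_one_lt_right Nat.card_pos ((Subgroup.one_lt_card_iff_ne_bot _).2 hN1)
    have hcomapK : (K'.map f).comap f = K' := Subgroup.comap_map_eq_self hker
    have hcomapM : (M'.map f).comap f = M' := Subgroup.comap_map_eq_self hkerM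
    have hnorm : ∀ H : Subgroup G, H ≤ L → A ≤ Subgroup.normalizer (H : Set G) →
        A'.map f ≤ Subgroup.normalizer (((H.subgroupOf L).map f : Subgroup _) : Set _) := by
      rintro H hH hAH _ ⟨a, ha, rfl⟩
      refine mem_normalizer_of_conj_smul ?_
      rw [← map_conj_smul f a]
      congr 1
      refine Subgroup.map_injective L.subtype_injective ?_
      rw [map_conj_smul L.subtype a, Subgroup.map_subgroupOf_eq_of_le hH]
      exact conj_smul_of_mem_normalizer (hAH ha)
    have hsol : Group.IsSolvable (K'.map f) := by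
      refine ih _ hlt _ (A'.map f) (K'.map f) (M'.map f) rfl (hnorm K hKN hAK) ?_
        ⟨Subgroup.map_mono hMK', ?_, hnorm M hML h.inv, ?_, ?_, ?_⟩
      · refine (hco.coprime_dvd_left ?_).coprime_dvd_right (hcard ▸ dvd_mul_right _ _)
        refine (Subgroup.card_map_dvd _ f).trans ?_
        rw [show Nat.card A' = Nat.card A from card_subgroupOf hAN]
      · intro e
        have e1 : M' = K' := by rw [← hcomapM, ← hcomapK, e]
        have e2 := congrArg (Subgroup.map L.subtype) e1
        rw [Subgroup.map_subgroupOf_eq_of_le hML, Subgroup.map_subgroupOf_eq_of_le hKN] at e2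
        exact h.ne e2
      · intro H hH hMH hne hinv
        set H₀ := (H.comap f).map L.subtype with hH₀
        have h1 : H.comap f ≤ K' := hcomapK ▸ Subgroup.comap_mono hH
        have h2 : M' ≤ H.comap f := hcomapM ▸ Subgroup.comap_mono hMH
        have e : H₀ = M := by
          refine h.max _ ((Subgroup.map_mono h1).trans
            (Subgroup.map_subgroupOf_eq_of_le hKN).le)
            ((Subgroup.map_subgroupOf_eq_of_le hML).ge.trans (Subgroup.map_mono h2)) ?_ ?_
          · intro e
            apply hne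
            have e2 : H.comap f = K' := Subgroup.map_injective L.subtype_injective
              (by rw [Subgroup.map_subgroupOf_eq_of_le hKN]; exact e)
            rw [← e2, Subgroup.map_comap_eq_self_of_surjective (QuotientGroup.mk'_surjective _)]
          · intro a ha
            refine mem_normalizer_of_conj_smul ?_
            show MulAut.conj (L.subtype ⟨a, hAN ha⟩) • H₀ = H₀
            rw [hH₀, ← map_conj_smul]
            congr 1
            refine conj_smul_of_mem_normalizer ?_
            have := hinv (Subgroup.mem_map_of_mem f (show (⟨a, hAN ha⟩ : L) ∈ A' from ha))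
            rw [Subgroup.mem_normalizer_iff] at this ⊢
            intro y
            simpa only [Subgroup.mem_comap, map_mul, map_inv] using this (f y)
        have e2 : H.comap f = M' := Subgroup.map_injective L.subtype_injective
          (by rw [Subgroup.map_subgroupOf_eq_of_le hML]; exact e)
        rw [← e2, Subgroup.map_comap_eq_self_of_surjective (QuotientGroup.mk'_surjective _)]
      · haveI := h.nil
        haveI : Group.IsNilpotent M' :=
          Group.nilpotent_of_mulEquiv (Subgroup.subgroupOfEquivOfLe hML).symm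
        exact Group.nilpotent_of_surjective (f.subgroupMap M') (f.subgroupMap_surjective M')
      · obtain ⟨P, hP, hcl⟩ := h.two
        refine ⟨(P.subgroupOf L).map f, map_sylow_image f ⟨fun x hx => hP.1 hx, ?_⟩, ?_⟩
        · rw [card_subgroupOf (hP.1.trans hML), hP.2, card_subgroupOf hML]
        · refine ClTwo.map (fun a ha b hb c hc => Subtype.ext ?_) f
          simpa [commutatorElement_def] using hcl a ha b hb c hc
    have hNsol : Group.IsSolvable N := by
      haveI := h.nil
      exact isSolvable_of_le hNM inferInstance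
    set g := f.subgroupMap K'
    have hK' : Group.IsSolvable K' := by
      haveI := hsol
      haveI : Group.IsSolvable ↥g.ker := by
        have hle : g.ker.map K'.subtype ≤ N.subgroupOf L := by
          rintro _ ⟨x, hx, rfl⟩
          rw [← QuotientGroup.ker_mk' (N.subgroupOf L), MonoidHom.mem_ker]
          exact congrArg Subtype.val (MonoidHom.mem_ker.1 hx)
        haveI := isSolvable_of_le hle (isSolvable_subgroupOf Subgroup.le_normalizer hNsol)
        exact Group.isSolvable_of_isSolvable_injective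
          (f := (g.ker.equivMapOfInjective _ K'.subtype_injective).toMonoidHom)
          (MulEquiv.injective _)
      exact Group.isSolvable_of_ker_le_range g.ker.subtype g (by simp)
    rw [← Subgroup.map_subgroupOf_eq_of_le hKN]
    exact isSolvable_map _ hK'
  have hcore : ∀ N : Subgroup G, N ≤ M → A ≤ Subgroup.normalizer (N : Set G) →
      K ≤ Subgroup.normalizer (N : Set G) → N = ⊥ := fun N h1 h2 h3 => by
    by_contra hN
    exact hred ⟨N, h1, hN, h2, h3⟩
  have hsolv := solvable_or_of_coprime hFT hco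
  rcases Nat.even_or_odd (Nat.card K) with heven | hodd
  swap
  · exact hFT K hodd
  by_cases hM : M = ⊥
  · obtain ⟨P, hP, hPA⟩ := exists_invariant_sylow hAK hco hsolv 2
    have hPne : P ≠ ⊥ := fun e => by
      have := hP.2
      rw [e, Subgroup.card_bot] at this
      exact absurd this.symm (Nat.one_lt_pow ((Nat.Prime.factorization_pos_of_dvd Nat.prime_two
        Nat.card_pos.ne' heven.two_dvd).ne') one_lt_two).ne'
    have e : P = K := by
      by_contra hne
      exact hPne ((h.max P hP.1 (hM ▸ bot_le) hne hPA).trans hM)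
    exact isSolvable_of_pgroup_card (p := 2) (e ▸ hP.isPGroup)
  have hsyl : ∀ (p : ℕ) [Fact p.Prime], p ∣ Nat.card M → ∀ P : Subgroup G, IsSylIn p P M →
      P ≠ ⊥ ∧ IsSylIn p P K := by
    intro p hp hpM P hP
    have hPne : P ≠ ⊥ := fun e => by
      have := hP.2
      rw [e, Subgroup.card_bot] at this
      exact absurd this.symm (Nat.one_lt_pow ((Nat.Prime.factorization_pos_of_dvd hp.out
        Nat.card_pos.ne' hpM).ne') hp.out.one_lt).ne'
    exact ⟨hPne, sylIn_of_normalizer hP h.le
      (h.normalizer_eq hAK hcore hP.1 hPne (sylIn_normal_of_nilpotent hP h.nil)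
        (h.sylow_normalized hP)).le⟩
  have hnpc : ∀ p : ℕ, p.Prime → p ∣ Nat.card M → Cfsg.HasNormalPComplement p K := by
    intro p hp hpM
    haveI := Fact.mk hp
    by_cases hp2 : p = 2
    · subst hp2
      obtain ⟨P, hP, hcl⟩ := h.two
      obtain ⟨hne, hPK⟩ := hsyl 2 hpM P hP
      exact h.hnpc_two hAK hco hcore hP hcl hne hPK
    · obtain ⟨P, hP⟩ := exists_isSylIn p M
      obtain ⟨hne, hPK⟩ := hsyl p hpM P hP
      have hAP := h.sylow_normalized hP
      have hMP := sylIn_normal_of_nilpotent hP h.nil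
      refine hnpc_of_nilpotent_normalizer hp2 hPK ?_
      set Z := Cfsg.centerThompsonOf p P with hZdef
      have hZP : Z ≤ P := (Fusion.zElem_eq (p := p) P).symm.le.trans (Fusion.zElem_le P)
      have hZne : Z ≠ ⊥ := by
        rw [hZdef, ← Fusion.inducedFunctor_wZE]
        exact (Fusion.isConjugacyFunctor_induced Fusion.isCharPFunctor_wZE P hP.isPGroup).2.1 hne
      rw [h.normalizer_eq hAK hcore (hZP.trans hP.1) hZne (hMP.trans (normalizer_zj P))
        (hAP.trans (normalizer_zj P))]
      exact h.nil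
  -- a complement to `M`, invariant under `M` and `A`
  set R : Subgroup G := K ⊓ ⨅ p : {p : ℕ // p.Prime ∧ p ∣ Nat.card M},
    (Cfsg.pResidual p.1 K).map K.subtype with hR
  have hRn : ∀ B : Subgroup G, B ≤ Subgroup.normalizer (K : Set G) →
      B ≤ Subgroup.normalizer (R : Set G) := by
    intro B hB b hb
    rw [Subgroup.mem_normalizer_iff]
    intro x
    simp only [hR, Subgroup.mem_inf, Subgroup.mem_iInf]
    exact and_congr ((Subgroup.mem_normalizer_iff.1 (hB hb)) x)
      (forall_congr' fun p => (Subgroup.mem_normalizer_iff.1 (normalizer_residual p.1 hB hb)) x)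
  have hcoR : (Nat.card M).Coprime (Nat.card R) := by
    refine Nat.coprime_of_dvd fun p hp hpM hpR => ?_
    haveI := Fact.mk hp
    have hle : R ≤ (Cfsg.pResidual p K).map K.subtype :=
      inf_le_right.trans (iInf_le _ (⟨p, hp, hpM⟩ : {p : ℕ // p.Prime ∧ p ∣ Nat.card M}))
    have h1 := hpR.trans (Subgroup.card_dvd_of_le hle)
    rw [card_map_subtype] at h1
    exact hp.ne_one (Nat.eq_one_of_dvd_coprimes (Fusion.hnpc_iff.1 (hnpc p hp hpM)) h1 dvd_rfl)
  have hMA : A ⊔ M ≤ Subgroup.normalizer (R : Set G) :=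
    sup_le (hRn A hAK) (hRn M (h.le.trans Subgroup.le_normalizer))
  have hcAM : Nat.card (A ⊔ M : Subgroup G) = Nat.card M * Nat.card A := by
    have h1 := card_sup_mul_card_inf' M A h.inv
    rw [coprime_inf ((hco.coprime_dvd_right (Subgroup.card_dvd_of_le h.le)).symm),
      Subgroup.card_bot, mul_one, sup_comm] at h1
    exact h1
  have hcoB : (Nat.card (A ⊔ M : Subgroup G)).Coprime (Nat.card R) := by
    rw [hcAM]
    exact hcoR.mul_left (hco.coprime_dvd_right (Subgroup.card_dvd_of_le inf_le_left))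
  have hidx : M.relIndex K ≠ 1 := fun e => h.ne (le_antisymm h.le (Subgroup.relIndex_eq_one.1 e))
  obtain ⟨q, hq, hqi⟩ := Nat.exists_prime_and_dvd hidx
  haveI := Fact.mk hq
  have hKmul : Nat.card M * M.relIndex K = Nat.card K := by
    rw [← card_subgroupOf h.le]; exact (M.subgroupOf K).card_mul_index
  have hqM : ¬ q ∣ Nat.card M := by
    intro hd
    obtain ⟨P, hP⟩ := exists_isSylIn q M
    obtain ⟨-, hPK⟩ := hsyl q hd P hP
    have e : (Nat.card M).factorization q = (Nat.card K).factorization q :=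
      Nat.pow_right_injective hq.two_le (hP.2.symm.trans hPK.2)
    have h0 : M.relIndex K ≠ 0 := fun h0 => by
      rw [h0, mul_zero] at hKmul; exact Nat.card_pos.ne' hKmul.symm
    rw [← hKmul, Nat.factorization_mul Nat.card_pos.ne' h0, Finsupp.add_apply] at e
    have := hq.factorization_pos_of_dvd h0 hqi
    omega
  have hqR : q ∣ Nat.card R := by
    obtain ⟨x, hx⟩ := exists_prime_orderOf_dvd_card' (G := K) q (hKmul ▸ hqi.mul_left _)
    have hxR : (x : G) ∈ R := by
      refine ⟨x.2, Subgroup.mem_iInf.2 fun p => ⟨x, Subgroup.subset_closure ?_, rfl⟩⟩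
      show (orderOf x).Coprime p.1
      rw [hx]
      exact (Nat.coprime_primes hq p.2.1).2 fun h => hqM (h ▸ p.2.2)
    rw [← hx, ← Subgroup.orderOf_coe]
    rw [← Subgroup.orderOf_mk (x : G) hxR]
    exact orderOf_dvd_natCard _
  obtain ⟨Q, hQ, hQB⟩ := exists_invariant_sylow hMA hcoB (solvable_or_of_coprime hFT hcoB) q
  have hQM : ¬ Q ≤ M := fun hle => by
    refine hqM (dvd_trans ?_ (Subgroup.card_dvd_of_le hle))
    rw [hQ.2]
    exact dvd_pow_self q (Nat.Prime.factorization_pos_of_dvd hq Nat.card_pos.ne' hqR).ne'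
  have hQK : Q ≤ K := hQ.1.trans inf_le_left
  have htop : Q ⊔ M = K := by
    by_contra hne
    refine hQM (le_sup_left.trans (h.max _ (sup_le hQK h.le) le_sup_right hne ?_).le)
    intro a ha
    refine mem_normalizer_of_conj_smul ?_
    rw [Subgroup.smul_sup, conj_smul_of_mem_normalizer (hQB (Subgroup.mem_sup_left ha)),
      conj_smul_of_mem_normalizer (h.inv ha)]
  haveI hQn : (Q.subgroupOf K).Normal := Subgroup.normal_subgroupOf_of_le_normalizer (by
    rw [← htop]; exact sup_le Subgroup.le_normalizer (le_sup_right.trans hQB))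
  haveI : Group.IsSolvable (Q.subgroupOf K) := by
    haveI := (hQ.isPGroup.comap_of_injective _ K.subtype_injective).isNilpotent
    exact inferInstanceAs (Group.IsSolvable ↥(Q.comap K.subtype))
  haveI : Group.IsSolvable (K ⧸ Q.subgroupOf K) := by
    haveI := h.nil
    refine Group.isSolvable_of_surjective
      (f := (QuotientGroup.mk' (Q.subgroupOf K)).comp (Subgroup.inclusion h.le)) fun z => ?_
    obtain ⟨g, rfl⟩ := QuotientGroup.mk'_surjective _ z
    have hg : (g : G) ∈ ((Q : Set G) * (M : Set G)) := by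
      rw [← Subgroup.coe_mul_of_right_le_normalizer_left Q M (le_sup_right.trans hQB)]
      show (g : G) ∈ Q ⊔ M
      rw [htop]; exact g.2
    obtain ⟨a, ha, m, hm, e⟩ := hg
    refine ⟨⟨m, hm⟩, ?_⟩
    show QuotientGroup.mk' (Q.subgroupOf K) (Subgroup.inclusion h.le ⟨m, hm⟩) = _
    rw [QuotientGroup.mk'_eq_mk']
    refine ⟨(⟨m, h.le hm⟩ : K)⁻¹ * g, ?_, mul_inv_cancel_left _ g⟩
    show m⁻¹ * (g : G) ∈ Q
    rw [← e]
    have := (Subgroup.mem_normalizer_iff''.1 ((le_sup_right.trans hQB) hm) a).1 ha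
    simpa [mul_assoc] using this
  exact isSolvable_of_normal_quotient (Q.subgroupOf K) inferInstance inferInstance

theorem solvable_of_maxNil (hFT : OddSolvable.{u}) (hAK : A ≤ Subgroup.normalizer (K : Set G))
    (hco : (Nat.card A).Coprime (Nat.card K)) (h : MaxNil A K M) : Group.IsSolvable K :=
  solvable_of_maxNil_aux hFT _ G A K M rfl hAK hco h

end Cfsg.Agent.Solv.OddGated
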