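import Cfsg.Agent.Lib.Solv.OddGated.DeskinsJanko
import Mathlib.GroupTheory.SemidirectProduct

/-!
The Deskins–Janko theorem for coprime operator groups, for an action given by a homomorphism.
-/

set_option autoImplicit false

open scoped Pointwise commutatorElement

namespace Cfsg.Agent.Solv.OddGated.Operators

universe u v

variable {A : Type u} {G : Type v} [Group A] [Group G]

instance [Finite A] [Finite G] (φ : A →* MulAut G) : Finite (SemidirectProduct G A φ) :=
  Finite.of_equiv _ SemidirectProduct.equivProd.symm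

theorem solvable [Finite A] [Finite G] (hFT : OddSolvable.{max v u}) (φ : A →* MulAut G)
    (hcop : (Nat.card A).Coprime (Nat.card G)) (M : Subgroup G) (hMtop : M ≠ ⊤)
    (hMinv : ∀ a : A, ∀ m : G, m ∈ M → φ a m ∈ M)
    (hMmax : ∀ H : Subgroup G, M ≤ H → H ≠ ⊤ → (∀ a : A, ∀ h : G, h ∈ H → φ a h ∈ H) → H = M)
    (hnil : Group.IsNilpotent M)
    (h2 : ∀ S : Sylow 2 ↥M, Group.nilpotencyClass ↥(S : Subgroup ↥M) ≤ 2) :
    Group.IsSolvable G := by
  haveI := Fact.mk Nat.prime_two
  set il := (SemidirectProduct.inl : G →* SemidirectProduct G A φ)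
  set ir := (SemidirectProduct.inr : A →* SemidirectProduct G A φ)
  set K := (⊤ : Subgroup G).map il with hK
  have hcK : Nat.card K = Nat.card G := by
    rw [Subgroup.card_map_of_injective SemidirectProduct.inl_injective, Subgroup.card_top]
  have hcA : Nat.card ir.range = Nat.card A :=
    Nat.card_congr (MonoidHom.ofInjective (SemidirectProduct.inr_injective (φ := φ))).toEquiv.symm
  have hnorm : ∀ H : Subgroup G, (∀ a : A, ∀ x ∈ H, φ a x ∈ H) →
      ir.range ≤ Subgroup.normalizer ((H.map il : Subgroup _) : Set _) := by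
    rintro H h _ ⟨a, rfl⟩
    refine mem_normalizer_of_conj_smul
      (Subgroup.eq_of_le_of_card_ge ?_ (card_conj_smul _ _).ge)
    rw [conj_smul_eq_map]
    rintro _ ⟨_, ⟨x, hx, rfl⟩, rfl⟩
    refine ⟨φ a x, h a x hx, ?_⟩
    rw [SemidirectProduct.inl_aut, map_inv]
    rfl
  have hsol : Group.IsSolvable K := by
    refine solvable_of_maxNil hFT (hnorm ⊤ fun _ _ _ => trivial) (M := M.map il) ?_
      ⟨Subgroup.map_mono le_top, ?_, hnorm M hMinv, ?_, ?_, ?_⟩
    · rwa [hcK, hcA]
    · exact fun e => hMtop (Subgroup.map_injective SemidirectProduct.inl_injective e)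
    · intro H hH hMH hne hA
      have e : (H.comap il).map il = H := by
        rw [Subgroup.map_comap_eq, inf_eq_right]
        exact hH.trans (Subgroup.map_le_range _ _)
      have e2 : H.comap il = M := by
        refine hMmax _ (fun x hx => hMH (Subgroup.mem_map_of_mem _ hx)) (fun h => hne ?_) ?_
        · rw [← e, h]
        · intro a x hx
          show il (φ a x) ∈ H
          rw [SemidirectProduct.inl_aut, map_inv]
          exact (Subgroup.mem_normalizer_iff.1 (hA ⟨a, rfl⟩) _).1 hx
      rw [← e, e2]
    · haveI := hnil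
      exact Group.nilpotent_of_mulEquiv
        (M.equivMapOfInjective il SemidirectProduct.inl_injective)
    · obtain ⟨S⟩ : Nonempty (Sylow 2 M) := inferInstance
      refine ⟨((S : Subgroup M).map M.subtype).map il, map_sylow_image il (IsSylIn.of_sylow S),
        ClTwo.map ?_ il⟩
      rintro _ ⟨a, ha, rfl⟩ _ ⟨b, hb, rfl⟩ _ ⟨c, hc, rfl⟩
      haveI : Group.IsNilpotent (S : Subgroup M) := S.isPGroup'.isNilpotent
      have h := (Subgroup.lowerCentralSeries_eq_bot_iff_nilpotencyClass_le
        (G := (S : Subgroup M)) (n := 2)).2 (h2 S)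
      have h1 : ⁅⁅(⟨a, ha⟩ : (S : Subgroup M)), (⟨b, hb⟩ : (S : Subgroup M))⁆, (⟨c, hc⟩ : (S : Subgroup M))⁆ = 1 := by
        rw [← Subgroup.mem_bot, ← h, Subgroup.lowerCentralSeries_succ,
          Subgroup.lowerCentralSeries_succ, Subgroup.lowerCentralSeries_zero]
        exact Subgroup.commutator_mem_commutator
          (Subgroup.commutator_mem_commutator trivial trivial) trivial
      have h3 := congrArg (fun z : (S : Subgroup M) => ((z : M) : G)) h1
      exact (commutatorElement_eq_one_iff_mul_comm.1 h3).symm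
  let e : G ≃* K := Subgroup.topEquiv.symm.trans
    ((⊤ : Subgroup G).equivMapOfInjective il SemidirectProduct.inl_injective)
  exact Group.isSolvable_of_isSolvable_injective (f := e.toMonoidHom) e.injective

end Cfsg.Agent.Solv.OddGated.Operators
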