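import Cfsg.Agent.Lib.Fusion.ComponentDiag
import Cfsg.Agent.Lib.Fusion.LBalanceTwoApply
import Cfsg.Agent.Lib.Fusion.LocalLayer
import Cfsg.Agent.Lib.Solv.OddGated.SeparableHall

/-!
Components of centralizers of involutions, given the solvability of groups of odd order.
-/

set_option autoImplicit false
set_option linter.style.haveILetI false

open Cfsg Cfsg.Agent.Fusion
open scoped commutatorElement Pointwise

namespace Cfsg.Agent.Solv.OddGated

universe u

variable {G : Type u} [Group G]

/-- A perfect subgroup is centralised by an element whose commutators with it are central. -/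
theorem comm_of_central_commutators {J : Subgroup G} (hperf : Group.IsPerfect J) {g : G}
    (h1 : ∀ x ∈ J, ⁅x, g⁆ ∈ J) (h2 : ∀ x ∈ J, ∀ y ∈ J, y * ⁅x, g⁆ = ⁅x, g⁆ * y) :
    ∀ x ∈ J, x * g = g * x := by
  let f : J →* Subgroup.center J :=
    { toFun := fun x => ⟨⟨⁅(x : G), g⁆, h1 x x.2⟩,
        Subgroup.mem_center_iff.2 fun y => Subtype.ext (h2 x x.2 y y.2)⟩
      map_one' := Subtype.ext (Subtype.ext (commutatorElement_one_left g))
      map_mul' := fun x y => Subtype.ext (Subtype.ext (by
        show ⁅(x : G) * y, g⁆ = ⁅(x : G), g⁆ * ⁅(y : G), g⁆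
        rw [← h2 x x.2 _ (h1 y y.2)]
        calc ⁅(x : G) * y, g⁆ = (x : G) * ⁅(y : G), g⁆ * (x : G)⁻¹ * ⁅(x : G), g⁆ := by
              rw [commutatorElement_def, commutatorElement_def, commutatorElement_def]; group
          _ = ⁅(y : G), g⁆ * ⁅(x : G), g⁆ := by rw [h2 y y.2 x x.2, mul_inv_cancel_right])) }
  intro x hx
  have hker : f.ker = ⊤ := by
    haveI := hperf
    rw [eq_top_iff, ← Group.IsPerfect.commutator_eq_top (G := J), commutator_def,
      Subgroup.commutator_le]
    intro a _ b _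
    rw [MonoidHom.mem_ker, map_commutatorElement]
    exact commutatorElement_eq_one_iff_mul_comm.2
      (Subtype.ext (Subgroup.mem_center_iff.1 (f b).2 _))
  have := congrArg (fun z : Subgroup.center J => ((z : J) : G))
    (MonoidHom.mem_ker.1 (hker.ge (Subgroup.mem_top (⟨x, hx⟩ : J))))
  exact commutatorElement_eq_one_iff_mul_comm.1 this

theorem qs_map [Finite G] {J : Type u} [Group J] [Finite J] (hJ : Cfsg.IsQuasisimple J) (f : J →* G)
    (hker : f.ker ≤ Subgroup.center J) : Cfsg.IsQuasisimple f.range := by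
  haveI := hJ.1
  haveI : Group.IsPerfect f.range := Group.IsPerfect.ofSurjective (f := f.rangeRestrict)
    f.rangeRestrict_surjective
  refine ⟨inferInstance, ?_⟩
  have hsurj : Function.Surjective ((QuotientGroup.mk' (Subgroup.center f.range)).comp f.rangeRestrict) :=
    (QuotientGroup.mk'_surjective _).comp f.rangeRestrict_surjective
  have hk : ((QuotientGroup.mk' (Subgroup.center f.range)).comp f.rangeRestrict).ker =
      Subgroup.center J := by
    ext x
    rw [MonoidHom.mem_ker, MonoidHom.comp_apply, QuotientGroup.mk'_apply, QuotientGroup.eq_one_iff]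
    constructor
    · intro hx
      refine Subgroup.mem_center_iff.2 fun z => ?_
      have hJc : ∀ y : J, ⁅y, x⁆ ∈ f.ker := fun y => by
        rw [MonoidHom.mem_ker, map_commutatorElement, commutatorElement_eq_one_iff_mul_comm]
        exact congrArg Subtype.val (Subgroup.mem_center_iff.1 hx (f.rangeRestrict y))
      have htop : Group.IsPerfect (⊤ : Subgroup J) :=
        Group.IsPerfect.ofSurjective (f := Subgroup.topEquiv.symm.toMonoidHom) (MulEquiv.surjective _)
      exact comm_of_central_commutators htop (g := x) (fun _ _ => Subgroup.mem_top _)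
        (fun y _ w _ => Subgroup.mem_center_iff.1 (hker (hJc y)) w) z (Subgroup.mem_top z)
    · intro hx
      refine Subgroup.mem_center_iff.2 ?_
      rintro ⟨_, z, rfl⟩
      exact Subtype.ext (show f z * f x = f x * f z by
        rw [← map_mul, ← map_mul, Subgroup.mem_center_iff.1 hx z])
  haveI := hJ.2
  exact ((QuotientGroup.quotientMulEquivOfEq hk.symm).trans
    (QuotientGroup.quotientKerEquivOfSurjective _ hsurj)).symm.isSimpleGroup

variable [Finite G]

theorem pPrimeCore_le_center (hFT : OddSolvable.{u}) {L : Type u} [Group L] [Finite L]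
    (h : Cfsg.IsQuasisimple L) : Cfsg.pPrimeCore 2 L ≤ Subgroup.center L := by
  haveI : Fact (Nat.Prime 2) := ⟨Nat.prime_two⟩
  refine (qs_normal_le_center_or_top h _).resolve_left fun e => ?_
  haveI := h.1
  haveI := qs_nontrivial h
  refine Group.IsPerfect.not_isSolvable (G := L) (hFT L (Nat.not_even_iff_odd.1 fun he => ?_))
  have h1 := card_pPrimeCore_coprime 2 L
  rw [e, Subgroup.card_top] at h1
  exact absurd (Nat.eq_one_of_dvd_coprimes h1 he.two_dvd dvd_rfl) (by norm_num)

theorem pcompOf_of_component (hFT : OddSolvable.{u}) {L C : Subgroup G} (hLC : L ≤ C)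
    (hL : Cfsg.IsComponent (L.subgroupOf C)) : Cfsg.IsPComponentOf 2 L C := by
  haveI : Fact (Nat.Prime 2) := ⟨Nat.prime_two⟩
  have hq : Cfsg.IsQuasisimple L := Local.isQuasisimple_congr (Subgroup.subgroupOfEquivOfLe hLC) hL.2
  have hO := pPrimeCore_le_center hFT hq
  refine PComp.pcompOf_iff.2 ⟨hLC, hL.1, ?_, fun W hW ht => ?_⟩
  · have h1 := qs_map hq (QuotientGroup.mk' (Cfsg.pPrimeCore 2 L))
      (by rw [QuotientGroup.ker_mk']; exact hO)
    rw [MonoidHom.range_eq_top.2 (QuotientGroup.mk'_surjective _)] at h1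
    exact Local.isQuasisimple_congr Subgroup.topEquiv h1
  · refine (qs_subnormal hq hW).resolve_right fun h => qs_center_ne_top hq ?_
    exact top_le_iff.1 (ht.ge.trans (sup_le h hO))

theorem pair_layer {t : G} {J : Subgroup G} (h : CompDiag.Moved 2 t J) {L : Subgroup G}
    (hLt : L ≤ Subgroup.centralizer ({t} : Set G))
    (hL : Cfsg.IsComponent (L.subgroupOf (Subgroup.centralizer ({t} : Set G))))
    (hLD : L ≤ h.diag.range) :
    L = (Cfsg.layer ↥((J ⊔ J.map (MulAut.conj t).toMonoidHom) ⊓ Subgroup.centralizer ({t} : Set G))).map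
      ((J ⊔ J.map (MulAut.conj t).toMonoidHom) ⊓ Subgroup.centralizer ({t} : Set G)).subtype := by
  haveI : Fact (Nat.Prime 2) := ⟨Nat.prime_two⟩
  set J' := J.map (MulAut.conj t).toMonoidHom with hJ'
  set C := Subgroup.centralizer ({t} : Set G) with hC
  set H := (J ⊔ J') ⊓ C with hH
  set D := h.diag.range with hD
  have hJc : Cfsg.IsComponent J := h.comp
  have hDC : D ≤ C := by rintro _ ⟨x, rfl⟩; exact h.diag_fixed x
  have hDH : D ≤ H := le_inf (by
    rintro _ ⟨x, rfl⟩
    refine h.range_prodHom_le (S := J ⊔ J') (fun i y => ?_) ⟨fun _ => x, (h.diag_apply x).symm⟩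
    obtain ⟨v, hv⟩ : ∃ v, i.val = v := ⟨_, rfl⟩
    have hv2 : v < 2 := hv ▸ ZMod.val_lt i
    rw [CompDiag.phi_apply, hv]
    interval_cases v
    · simpa using Subgroup.mem_sup_left y.2
    · rw [pow_one]
      exact Subgroup.mem_sup_right ⟨y, y.2, rfl⟩) hDC
  have hHC : H ≤ C := inf_le_right
  have hDq : Cfsg.IsQuasisimple D := qs_map hJc.2 h.diag h.diag_ker_le
  have hLq : Cfsg.IsQuasisimple L := Local.isQuasisimple_congr (Subgroup.subgroupOfEquivOfLe hLt) hL.2
  have hLsn : (L.subgroupOf D).IsSubnormal := hL.1.comap (Subgroup.inclusion hDC)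
  have hLeq : L = D := by
    refine le_antisymm hLD (Subgroup.subgroupOf_eq_top.1
      ((qs_subnormal hDq hLsn).resolve_right fun hc => ?_))
    refine qs_not_le_centralizer hLq ?_
    rw [Subgroup.commutator_eq_bot_iff_le_centralizer]
    intro a ha
    refine Subgroup.mem_centralizer_iff.2 fun b hb => ?_
    exact (congrArg Subtype.val (Subgroup.mem_center_iff.1
      (hc (show (⟨b, hLD hb⟩ : D) ∈ L.subgroupOf D from hb)) ⟨a, hLD ha⟩)).symm
  have hLH : L ≤ H := hLeq ▸ hDH
  have hLc : Cfsg.IsComponent (L.subgroupOf H) := component_restrict hHC hLH hL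
  suffices hall : ∀ M : Subgroup H, Cfsg.IsComponent M → M = L.subgroupOf H by
    rw [show Cfsg.layer ↥H = L.subgroupOf H from
      le_antisymm (sSup_le fun M hM => (hall M hM).le) (component_le_layer hLc),
      Subgroup.map_subgroupOf_eq_of_le hLH]
  intro M hM
  by_contra hne
  have hcomm := components_commute hM hLc hne
  have hperf : Group.IsPerfect J := hJc.2.1
  -- elements of `H` centralising the diagonal are central
  have hcen : ∀ m ∈ H, (∀ d ∈ D, m * d = d * m) → ∀ w ∈ J ⊔ J', w * m = m * w := by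
    have hJJ' : ∀ a ∈ J, ∀ b ∈ J', a * b = b * a := by
      have hne' : J ≠ J' := fun e => h.move (mem_normalizer_iff_cj.2 e.symm)
      intro a ha b hb
      exact commutatorElement_eq_one_iff_mul_comm.1 (Subgroup.mem_bot.1
        ((components_commute hJc (component_conj hJc t) hne').le
          (Subgroup.commutator_mem_commutator ha hb)))
    have hJ'n : J' ≤ Subgroup.normalizer (J : Set G) := fun b hb =>
      Subgroup.centralizer_le_normalizer _ (Subgroup.mem_centralizer_iff.2 fun a ha => hJJ' a ha b hb)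
    have ht2 : t * t = 1 := by rw [← pow_two]; exact h.pow
    -- the factor in `J` of a decomposition is central
    have key : ∀ m j k, (∀ d ∈ D, m * d = d * m) → j ∈ J → k ∈ J' → m = j * k →
        ∀ x ∈ J, x * j = j * x := by
      intro m j k hd hj hk e
      refine comm_of_central_commutators hperf (g := j) (fun x hx => ?_) (fun x hx y hy => ?_)
      · rw [commutatorElement_def]
        exact mul_mem (mul_mem (mul_mem hx hj) (inv_mem hx)) (inv_mem hj)
      have hact : ∀ z ∈ J, h.diag ⟨x, hx⟩ * z * (h.diag ⟨x, hx⟩)⁻¹ = x * z * x⁻¹ := by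
        intro z hz
        have := h.diag_act (0 : ZMod 2) ⟨x, hx⟩ ⟨z, hz⟩
        rw [CompDiag.phi_zero, CompDiag.phi_zero] at this
        exact this
      have hm : ∀ z ∈ J, m * z * m⁻¹ = j * z * j⁻¹ := by
        intro z hz
        have h1 := hJJ' z hz k hk
        calc m * z * m⁻¹ = j * (k * z) * (k⁻¹ * j⁻¹) := by rw [e]; group
          _ = j * z * j⁻¹ := by rw [← h1]; group
      have hd' := hd _ ⟨⟨x, hx⟩, rfl⟩
      have key2 : ∀ z ∈ J, j * (x * z * x⁻¹) * j⁻¹ = x * (j * z * j⁻¹) * x⁻¹ := by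
        intro z hz
        rw [← hm _ (mul_mem (mul_mem hx hz) (inv_mem hx)), ← hact z hz,
          ← hact _ (mul_mem (mul_mem hj hz) (inv_mem hj)), ← hm z hz]
        calc m * (h.diag ⟨x, hx⟩ * z * (h.diag ⟨x, hx⟩)⁻¹) * m⁻¹
            = (m * h.diag ⟨x, hx⟩) * z * (m * h.diag ⟨x, hx⟩)⁻¹ := by group
          _ = (h.diag ⟨x, hx⟩ * m) * z * (h.diag ⟨x, hx⟩ * m)⁻¹ := by rw [hd']
          _ = _ := by group
      have h3 := key2 (j⁻¹ * x⁻¹ * y * x * j)
        (mul_mem (mul_mem (mul_mem (mul_mem (inv_mem hj) (inv_mem hx)) hy) hx) hj)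
      have h4 : j * x * j⁻¹ * x⁻¹ * y * x * j * x⁻¹ * j⁻¹ = y := by
        calc j * x * j⁻¹ * x⁻¹ * y * x * j * x⁻¹ * j⁻¹
            = j * (x * (j⁻¹ * x⁻¹ * y * x * j) * x⁻¹) * j⁻¹ := by group
          _ = x * (j * (j⁻¹ * x⁻¹ * y * x * j) * j⁻¹) * x⁻¹ := h3
          _ = y := by group
      rw [commutatorElement_def]
      calc y * (x * j * x⁻¹ * j⁻¹)
          = (x * j * x⁻¹ * j⁻¹) * (j * x * j⁻¹ * x⁻¹ * y * x * j * x⁻¹ * j⁻¹) := by group
        _ = _ := by rw [h4]
    intro m hm hd w hw
    have hmem : m ∈ ((J : Set G) * (J' : Set G)) := by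
      rw [← Subgroup.coe_mul_of_right_le_normalizer_left J J' hJ'n]; exact hm.1
    obtain ⟨j, hj, k, hk, rfl⟩ := hmem
    obtain ⟨k₀, hk₀, rfl⟩ := hk
    have hk₀' : (MulAut.conj t).toMonoidHom k₀ ∈ J' := ⟨k₀, hk₀, rfl⟩
    have e2 : j * (MulAut.conj t).toMonoidHom k₀ = k₀ * (t * j * t⁻¹) := by
      have hmt := Subgroup.mem_centralizer_singleton_iff.1 hm.2
      change j * (t * k₀ * t⁻¹) = k₀ * (t * j * t⁻¹)
      change j * (t * k₀ * t⁻¹) * t = t * (j * (t * k₀ * t⁻¹)) at hmt
      have ht' : t⁻¹ = t := inv_eq_of_mul_eq_one_right ht2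
      have h5 : j * (t * k₀ * t⁻¹) = t * j * t⁻¹ * (t * t * k₀ * (t * t)⁻¹) := by
        calc j * (t * k₀ * t⁻¹) = j * (t * k₀ * t⁻¹) * t * t⁻¹ := by group
          _ = _ := by rw [hmt]; group
      rw [h5, ht2, inv_one, mul_one, one_mul]
      exact (hJJ' k₀ hk₀ _ ⟨j, hj, rfl⟩).symm
    have c1 := key _ j _ hd hj hk₀' rfl
    have c2 := key _ k₀ _ hd hk₀ ⟨j, hj, rfl⟩ e2
    have d1 : ∀ w ∈ J ⊔ J', w * j = j * w := by
      intro w hw
      have : J ⊔ J' ≤ Subgroup.centralizer ({j} : Set G) := sup_le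
        (fun a ha => Subgroup.mem_centralizer_singleton_iff.2 (c1 a ha))
        (fun b hb => Subgroup.mem_centralizer_singleton_iff.2 (hJJ' j hj b hb).symm)
      exact Subgroup.mem_centralizer_singleton_iff.1 (this hw)
    have d2 : ∀ w ∈ J ⊔ J', w * (MulAut.conj t).toMonoidHom k₀ = (MulAut.conj t).toMonoidHom k₀ * w := by
      intro w hw
      have : J ⊔ J' ≤ Subgroup.centralizer ({(MulAut.conj t).toMonoidHom k₀} : Set G) := sup_le
        (fun a ha => Subgroup.mem_centralizer_singleton_iff.2 (hJJ' a ha _ hk₀'))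
        (by
          rintro _ ⟨b, hb, rfl⟩
          refine Subgroup.mem_centralizer_singleton_iff.2 ?_
          rw [← map_mul, ← map_mul, c2 b hb])
      exact Subgroup.mem_centralizer_singleton_iff.1 (this hw)
    show w * (j * (MulAut.conj t).toMonoidHom k₀) = j * (MulAut.conj t).toMonoidHom k₀ * w
    rw [← mul_assoc, d1 w hw, mul_assoc, d2 w hw, mul_assoc]
  refine qs_not_le_centralizer hM.2 ?_
  rw [Subgroup.commutator_eq_bot_iff_le_centralizer]
  intro m hm
  refine Subgroup.mem_centralizer_iff.2 fun m' hm' => Subtype.ext ?_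
  refine hcen m m.2 (fun d hd => ?_) m' m'.2.1
  exact congrArg Subtype.val (commutatorElement_eq_one_iff_mul_comm.1 (Subgroup.mem_bot.1
    (hcomm.le (Subgroup.commutator_mem_commutator hm
      (show (⟨d, hDH hd⟩ : H) ∈ L.subgroupOf H from hLeq.symm.le hd)))))

theorem component_trichotomy (hFT : OddSolvable.{u}) (hL2 : Cfsg.pLayer 2 G = Cfsg.layer G) (t : G)
    (ht : orderOf t = 2) (L : Subgroup G) (hLt : L ≤ Subgroup.centralizer ({t} : Set G))
    (hL : Cfsg.IsComponent (L.subgroupOf (Subgroup.centralizer ({t} : Set G)))) :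
    ∃ D : Subgroup G, Cfsg.IsComponent D ∧ (L = D ∨ (L < D ∧ D = ⁅D, Subgroup.zpowers t⁆) ∨
      (D.map (MulAut.conj t).toMonoidHom ≠ D ∧
        L = (Cfsg.layer ↥((D ⊔ D.map (MulAut.conj t).toMonoidHom) ⊓ Subgroup.centralizer ({t} : Set G))).map
          ((D ⊔ D.map (MulAut.conj t).toMonoidHom) ⊓ Subgroup.centralizer ({t} : Set G)).subtype)) := by
  haveI : Fact (Nat.Prime 2) := ⟨Nat.prime_two⟩
  set C := Subgroup.centralizer ({t} : Set G)
  have hI : Cfsg.IsPComponentOf 2 L C := pcompOf_of_component hFT hLt hL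
  have hLE : L ≤ Cfsg.layer G := by
    set N := Subgroup.normalizer (Subgroup.zpowers t : Set G)
    have hCN : C ≤ N := by
      intro c hc
      refine Subgroup.centralizer_le_normalizer _ (Subgroup.mem_centralizer_iff.2 ?_)
      rintro _ ⟨j, rfl⟩
      have h1 : Commute c t := Subgroup.mem_centralizer_singleton_iff.1 hc
      exact (h1.zpow_right j).eq.symm
    have hNC : N ≤ C := fun n hn => Subgroup.mem_centralizer_singleton_iff.2 (by
      have h1 := (Subgroup.mem_normalizer_iff.1 hn t).1 (Subgroup.mem_zpowers t)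
      obtain ⟨z, hz⟩ := Subgroup.mem_zpowers_iff.1 h1
      have hz' : n * t * n⁻¹ = t ∨ n * t * n⁻¹ = 1 := by
        rw [← hz, ← zpow_mod_orderOf, ht]
        rcases Int.emod_two_eq_zero_or_one z with e | e <;> simp [e]
      rcases hz' with e | e
      · exact (mul_inv_eq_iff_eq_mul.1 e)
      · rw [conj_eq_one_iff] at e
        rw [e, orderOf_one] at ht
        exact absurd ht (by norm_num))
    have hIN : Cfsg.IsPComponentOf 2 L N := by
      have e : N = C := le_antisymm hNC hCN
      rwa [e]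
    have hle : L ≤ (Cfsg.pLayer 2 N).map N.subtype := by
      rw [← Subgroup.map_subgroupOf_eq_of_le hIN.1]
      exact Subgroup.map_mono (le_sSup hIN.2)
    refine hL2 ▸ hle.trans (LBal.pLayer_balance_two ?_)
    exact IsPGroup.of_card (n := 1) (by rw [Nat.card_zpowers, ht, pow_one])
  have hLq : Cfsg.IsQuasisimple L := Local.isQuasisimple_congr (Subgroup.subgroupOfEquivOfLe hLt) hL.2
  obtain ⟨J, hJ, hne⟩ : ∃ J : Subgroup G, Cfsg.IsComponent J ∧ ¬ L ≤ Subgroup.centralizer (J : Set G) := by
    by_contra! hall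
    refine qs_not_le_centralizer hLq ?_
    rw [Subgroup.commutator_eq_bot_iff_le_centralizer]
    intro x hx
    have hle : Cfsg.layer G ≤ Subgroup.centralizer ({x} : Set G) := sSup_le fun J hJ y hy =>
      Subgroup.mem_centralizer_singleton_iff.2 (by
        have h1 : x ∈ Subgroup.centralizer (J : Set G) := hall J hJ hx
        exact Subgroup.mem_centralizer_iff.1 h1 y hy)
    exact Subgroup.mem_centralizer_iff.2 fun y hy =>
      Subgroup.mem_centralizer_singleton_iff.1 (hle (hLE hy))
  refine ⟨J, hJ, ?_⟩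
  by_cases htJ : t ∈ Subgroup.normalizer (J : Set G)
  · have hLJ := CompDiag.pcomp_le_component hJ htJ hI hLE hne
    by_cases heq : L = J
    · exact Or.inl heq
    refine Or.inr (Or.inl ⟨lt_of_le_of_ne hLJ heq, ?_⟩)
    set D := ⁅J, Subgroup.zpowers t⁆
    obtain ⟨hDJ, hDn, -⟩ := commutator_normal_in (K := J) (A := Subgroup.zpowers t)
      (Subgroup.zpowers_le.2 htJ)
    haveI : (D.subgroupOf J).Normal := (Subgroup.normal_subgroupOf_iff_le_normalizer hDJ).2 hDn
    rcases qs_normal_le_center_or_top hJ.2 (D.subgroupOf J) with h1 | h1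
    · exact le_antisymm (Subgroup.subgroupOf_eq_top.1 h1) hDJ
    exfalso
    have hcomm := comm_of_central_commutators (J := J) hJ.2.1 (g := t)
      (fun x hx => hDJ (Subgroup.commutator_mem_commutator hx (Subgroup.mem_zpowers t)))
      (fun x hx y hy => by
        have hm : ⁅x, t⁆ ∈ D := Subgroup.commutator_mem_commutator hx (Subgroup.mem_zpowers t)
        exact congrArg Subtype.val (Subgroup.mem_center_iff.1
          (h1 (show (⟨_, hDJ hm⟩ : J) ∈ D.subgroupOf J from hm)) ⟨y, hy⟩))
    have hJC : J ≤ C := fun x hx => Subgroup.mem_centralizer_singleton_iff.2 (hcomm x hx)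
    have h2 := component_le_component hL (component_subgroupOf hJ hJC) (fun x hx => hLJ hx)
    have h3 := congrArg (Subgroup.map C.subtype) h2
    rw [Subgroup.map_subgroupOf_eq_of_le hLt, Subgroup.map_subgroupOf_eq_of_le hJC] at h3
    exact heq h3
  · have hm : CompDiag.Moved 2 t J := ⟨by rw [← ht, pow_orderOf_eq_one], hJ, htJ⟩
    refine Or.inr (Or.inr ⟨fun e => htJ (mem_normalizer_iff_cj.2 e), ?_⟩)
    exact pair_layer hm hLt hL (hm.pcomp_le_diag hI hLE hne)

end Cfsg.Agent.Solv.OddGated
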