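import Cfsg.Agent.Lib.Solv.OddGated.SeparableHall
import Cfsg.Agent.Lib.Solv.CoprimeHall
import Cfsg.Agent.Lib.Solv.ClassPow
import Cfsg.Agent.Lib.Fusion.AbelianHall
import Cfsg.Agent.Lib.Fusion.ZJControl
import Cfsg.Agent.S0117

/-!
Coprime operator groups all of whose invariant proper subgroups are nilpotent.
-/

set_option autoImplicit false

open scoped Pointwise commutatorElement

namespace Cfsg.Agent.Solv.OddGated

universe u

variable {G : Type u} [Group G]

/-- Every proper `A`-invariant subgroup of `K` is nilpotent. -/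
def AllNil (A K : Subgroup G) : Prop :=
  ∀ H : Subgroup G, H ≤ K → H ≠ K → A ≤ Subgroup.normalizer (H : Set G) → Group.IsNilpotent H

theorem normalizer_zj [Finite G] {p : ℕ} (P : Subgroup G) :
    Subgroup.normalizer (P : Set G) ≤
      Subgroup.normalizer (Cfsg.centerThompsonOf p P : Set G) :=
  Fusion.zElem_eq (p := p) P ▸ Fusion.normalizer_le_zElem P

theorem normalizer_inf_normalizer {A K Z : Subgroup G} (hK : A ≤ Subgroup.normalizer (K : Set G))
    (hZ : A ≤ Subgroup.normalizer (Z : Set G)) :
    A ≤ Subgroup.normalizer ((K ⊓ Subgroup.normalizer (Z : Set G) : Subgroup G) : Set G) :=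
  normalizer_smul_inf hK (hZ.trans Subgroup.le_normalizer)

/-- Glauberman–Thompson, relative to a subgroup `K`. -/
theorem hnpc_of_nilpotent_normalizer [Finite G] {q : ℕ} [Fact q.Prime] (hq : q ≠ 2)
    {K Q : Subgroup G} (hQ : IsSylIn q Q K)
    (hnil : Group.IsNilpotent
      (K ⊓ Subgroup.normalizer (Cfsg.centerThompsonOf q Q : Set G) : Subgroup G)) :
    Cfsg.HasNormalPComplement q K := by
  obtain ⟨T, hT⟩ := hQ.exists_sylow
  refine (Cfsg.Agent.S0117.result hq T).2 ?_
  have e : (Cfsg.centerThompsonOf q (T : Subgroup K)).map K.subtype =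
      Cfsg.centerThompsonOf q Q := by
    rw [← Fusion.inducedFunctor_wZE, ← Fusion.inducedFunctor_wZE, ← hT,
      Fusion.inducedFunctor_map_of_injOn Fusion.isCharPFunctor_wZE K.subtype
        K.subtype_injective.injOn T.isPGroup']
  set Z := Cfsg.centerThompsonOf q (T : Subgroup K)
  have hle : (Subgroup.normalizer (Z : Set K)).map K.subtype ≤
      K ⊓ Subgroup.normalizer (Cfsg.centerThompsonOf q Q : Set G) := by
    rintro _ ⟨x, hx, rfl⟩
    refine ⟨x.2, mem_normalizer_of_conj_smul ?_⟩
    rw [← e, ← map_conj_smul K.subtype x, conj_smul_of_mem_normalizer hx]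
  haveI : Group.IsNilpotent ↥(Subgroup.normalizer (Z : Set K)) :=
    Group.nilpotent_of_mulEquiv
      ((Subgroup.normalizer (Z : Set K)).equivMapOfInjective K.subtype K.subtype_injective).symm
      (_h := isNilpotent_of_le hle hnil)
  exact Fusion.hnpc_of_isNilpotent

theorem solvable_of_normal_nilpotent [Finite G] {p : ℕ} [Fact p.Prime] {K : Subgroup G}
    (h : Cfsg.HasNormalPComplement p K) (hnil : Group.IsNilpotent ↥(Cfsg.pResidual p K)) :
    Group.IsSolvable K := by
  haveI := hnil
  haveI := (Fusion.isPGroup_quotient_pResidual (p := p) (G := K)).isNilpotent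
  exact isSolvable_of_normal_quotient (Cfsg.pResidual p K) inferInstance inferInstance

theorem normalizer_residual [Finite G] (p : ℕ) {A K : Subgroup G}
    (hA : A ≤ Subgroup.normalizer (K : Set G)) :
    A ≤ Subgroup.normalizer (((Cfsg.pResidual p K).map K.subtype : Subgroup G) : Set G) := by
  intro a ha
  refine mem_normalizer_of_conj_smul (Subgroup.eq_of_le_of_card_ge ?_ (card_conj_smul _ _).ge)
  rw [conj_smul_eq_map, Cfsg.pResidual, MonoidHom.map_closure, MonoidHom.map_closure]
  refine Subgroup.closure_mono ?_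
  rintro _ ⟨_, ⟨g, hg, rfl⟩, rfl⟩
  have hmem : a * (g : G) * a⁻¹ ∈ K := conj_mem_of_mem_normalizer (hA ha) g.2
  refine ⟨⟨_, hmem⟩, ?_, rfl⟩
  show Nat.Coprime (orderOf _) p
  rw [← Subgroup.orderOf_coe]
  show Nat.Coprime (orderOf (MulAut.conj a (g : G))) p
  rw [MulEquiv.orderOf_eq, Subgroup.orderOf_coe]
  exact hg

theorem residual_le {A K : Subgroup G} (p : ℕ) :
    (Cfsg.pResidual p K).map K.subtype ≤ K := Subgroup.map_subtype_le _

theorem normalizer_residual_self [Finite G] (p : ℕ) (K : Subgroup G) :
    K ≤ Subgroup.normalizer (((Cfsg.pResidual p K).map K.subtype : Subgroup G) : Set G) :=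
  normalizer_residual p Subgroup.le_normalizer

theorem isSolvable_of_pgroup_card [Finite G] {p : ℕ} [Fact p.Prime] {K : Subgroup G}
    (h : IsPGroup p K) : Group.IsSolvable K :=
  haveI := h.isNilpotent
  inferInstance

theorem solvable_of_allNil_aux (hFT : OddSolvable.{u}) : ∀ (k : ℕ) (G : Type u) [Group G]
    [Finite G] (A K : Subgroup G), Nat.card K = k → A ≤ Subgroup.normalizer (K : Set G) →
    (Nat.card A).Coprime (Nat.card K) → AllNil A K → Group.IsSolvable K := by
  intro k
  induction k using Nat.strong_induction_on with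
  | _ k ih =>
  intro G _ _ A K hk hAK hco hnil
  by_cases hred : ∃ N : Subgroup G, N ≤ K ∧ N ≠ ⊥ ∧ N ≠ K ∧
      K ≤ Subgroup.normalizer (N : Set G) ∧ A ≤ Subgroup.normalizer (N : Set G)
  · obtain ⟨N, hNK, hN1, hN2, hKN, hAN⟩ := hred
    set L := Subgroup.normalizer (N : Set G)
    haveI : (N.subgroupOf L).Normal :=
      Subgroup.normal_subgroupOf_of_le_normalizer le_rfl
    set f := QuotientGroup.mk' (N.subgroupOf L) with hf
    set K' := K.subgroupOf L
    set A' := A.subgroupOf L
    have hker : f.ker ≤ K' := by
      rw [hf, QuotientGroup.ker_mk']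
      exact fun x hx => hNK hx
    have hcard : Nat.card (K'.map f) * Nat.card N = Nat.card K := by
      have h1 := Subgroup.relIndex_map_map f ⊥ K'
      rw [Subgroup.map_bot, bot_sup_eq, sup_eq_left.2 hker, hf, QuotientGroup.ker_mk', ← hf,
        Subgroup.relIndex_bot_left] at h1
      have h2 : (N.subgroupOf L).relIndex K' = Nat.card (K'.map f) := h1.symm
      rw [← h2, ← card_subgroupOf hKN, ← card_subgroupOf (Subgroup.le_normalizer : N ≤ L)]
      rw [mul_comm, ← card_subgroupOf (L := K') (H := N.subgroupOf L) fun x hx => hNK hx]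
      exact Subgroup.card_mul_index _
    have hlt : Nat.card (K'.map f) < k := by
      rw [← hk, ← hcard]
      exact lt_mul_of_one_lt_right Nat.card_pos ((Subgroup.one_lt_card_iff_ne_bot _).2 hN1)
    have hsol : Group.IsSolvable (K'.map f) := by
      refine ih _ hlt _ (A'.map f) _ rfl ?_ ?_ ?_
      · rintro _ ⟨a, ha, rfl⟩
        refine mem_normalizer_of_conj_smul ?_
        rw [← map_conj_smul f a]
        congr 1
        refine Subgroup.map_injective L.subtype_injective ?_
        rw [map_conj_smul L.subtype a, Subgroup.map_subgroupOf_eq_of_le hKN]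
        exact conj_smul_of_mem_normalizer (hAK ha)
      · refine (hco.coprime_dvd_left ?_).coprime_dvd_right (hcard ▸ dvd_mul_right _ _)
        refine (Subgroup.card_map_dvd _ f).trans ?_
        rw [show Nat.card A' = Nat.card A from card_subgroupOf hAN]
      · intro H hH hne hinv
        set H₀ := (H.comap f).map L.subtype with hH₀
        have h1 : H.comap f ≤ K' := by
          refine (Subgroup.comap_mono hH).trans ?_
          rw [Subgroup.comap_map_eq, sup_eq_left.2 hker]
        have h0 : Group.IsNilpotent H₀ := by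
          refine hnil H₀ ((Subgroup.map_mono h1).trans ?_) ?_ ?_
          · rw [Subgroup.map_subgroupOf_eq_of_le hKN]
          · intro e
            apply hne
            have e2 : H.comap f = K' := Subgroup.map_injective L.subtype_injective
              (by rw [Subgroup.map_subgroupOf_eq_of_le hKN]; exact e)
            rw [← e2, Subgroup.map_comap_eq_self_of_surjective (QuotientGroup.mk'_surjective _)]
          · intro a ha
            refine mem_normalizer_of_conj_smul ?_
            show MulAut.conj (L.subtype ⟨a, hAN ha⟩) • H₀ = H₀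
            rw [hH₀, ← map_conj_smul]
            congr 1
            refine conj_smul_of_mem_normalizer ?_
            have := hinv (Subgroup.mem_map_of_mem f (show (⟨a, hAN ha⟩ : L) ∈ A' from ha))
            rw [Subgroup.mem_normalizer_iff] at this ⊢
            intro h
            simpa only [Subgroup.mem_comap, map_mul, map_inv] using this (f h)
        have h2 : Group.IsNilpotent ↥(H.comap f) :=
          Group.nilpotent_of_mulEquiv
            ((H.comap f).equivMapOfInjective _ L.subtype_injective).symm (_h := h0)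
        haveI := h2
        exact Group.nilpotent_of_surjective (f.subgroupComap H)
          (f.subgroupComap_surjective_of_surjective H (QuotientGroup.mk'_surjective _))
    have hNsol : Group.IsSolvable N :=
      haveI := hnil N hNK hN2 hAN
      inferInstance
    set g := f.subgroupMap K'
    have hK' : Group.IsSolvable K' := by
      haveI := hsol
      haveI : Group.IsSolvable ↥g.ker := by
        have hle : g.ker.map K'.subtype ≤ N.subgroupOf L := by
          rintro _ ⟨x, hx, rfl⟩
          rw [← QuotientGroup.ker_mk' (N.subgroupOf L), MonoidHom.mem_ker]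
          exact congrArg Subtype.val (MonoidHom.mem_ker.1 hx)
        haveI := isSolvable_of_le hle (isSolvable_subgroupOf Subgroup.le_normalizer hNsol)
        exact Group.isSolvable_of_isSolvable_injective
          (f := (g.ker.equivMapOfInjective _ K'.subtype_injective).toMonoidHom)
          (MulEquiv.injective _)
      exact Group.isSolvable_of_ker_le_range g.ker.subtype g (by simp)
    rw [← Subgroup.map_subgroupOf_eq_of_le hKN]
    exact isSolvable_map _ hK'
  rcases Nat.even_or_odd (Nat.card K) with heven | hodd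
  swap
  · exact hFT K hodd
  by_cases hqex : ∃ q : ℕ, q.Prime ∧ q ∣ Nat.card K ∧ q ≠ 2
  swap
  · haveI := Fact.mk Nat.prime_two
    refine isSolvable_of_pgroup_card (p := 2) (IsPGroup.of_card
      (Nat.eq_prime_pow_of_unique_prime_dvd Nat.card_pos.ne' (p := 2) fun {d} hd hdd => ?_))
    by_contra h
    exact hqex ⟨d, hd, hdd, h⟩
  obtain ⟨q, hq, hqK, hq2⟩ := hqex
  haveI := Fact.mk hq
  have hsolv := (solvable_or_of_coprime hFT hco)
  obtain ⟨Q, hQ, hQA⟩ := exists_invariant_sylow hAK hco hsolv q
  set Z := Cfsg.centerThompsonOf q Q with hZdef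
  have hQne : Q ≠ ⊥ := fun e => by
    have := hQ.2
    rw [e, Subgroup.card_bot] at this
    exact absurd this.symm (Nat.one_lt_pow ((Nat.Prime.factorization_pos_of_dvd hq
      Nat.card_pos.ne' hqK).ne') hq.one_lt).ne'
  have hZQ : Z ≤ Q := (Fusion.zElem_eq (p := q) Q).symm.le.trans (Fusion.zElem_le Q)
  have hZne : Z ≠ ⊥ := by
    rw [hZdef, ← Fusion.inducedFunctor_wZE]
    exact (Fusion.isConjugacyFunctor_induced Fusion.isCharPFunctor_wZE Q hQ.isPGroup).2.1 hQne
  have hZA : A ≤ Subgroup.normalizer (Z : Set G) := hQA.trans (normalizer_zj Q)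
  by_cases hM : K ⊓ Subgroup.normalizer (Z : Set G) = K
  · exfalso
    refine hred ⟨Z, hZQ.trans hQ.1, hZne, fun e => ?_, inf_eq_left.1 hM, hZA⟩
    obtain ⟨j, hj⟩ := IsPGroup.iff_card.1 (hQ.isPGroup.to_le hZQ)
    rw [← e, hj, Nat.even_pow] at heven
    exact hq2 ((Nat.prime_dvd_prime_iff_eq Nat.prime_two hq).1 heven.1.two_dvd).symm
  · have hnpc := hnpc_of_nilpotent_normalizer hq2 hQ
      (hnil _ inf_le_left hM (normalizer_inf_normalizer hAK hZA))
    set M := (Cfsg.pResidual q K).map K.subtype with hMdef
    have hMK : M ≠ K := fun e => by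
      have h1 := Fusion.hnpc_iff.1 hnpc
      rw [← card_map_subtype, ← hMdef, e] at h1
      exact (hq.coprime_iff_not_dvd.1 h1.symm) hqK
    haveI : Group.IsNilpotent M :=
      hnil M (Subgroup.map_subtype_le _) hMK (normalizer_residual q hAK)
    exact solvable_of_normal_nilpotent hnpc (Group.nilpotent_of_mulEquiv
      ((Cfsg.pResidual q K).equivMapOfInjective _ K.subtype_injective).symm)

variable [Finite G] {A K : Subgroup G}

theorem solvable_of_allNil (hFT : OddSolvable.{u}) (hAK : A ≤ Subgroup.normalizer (K : Set G))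
    (hco : (Nat.card A).Coprime (Nat.card K)) (h : AllNil A K) : Group.IsSolvable K :=
  solvable_of_allNil_aux hFT _ G A K rfl hAK hco h

end Cfsg.Agent.Solv.OddGated
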