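import Cfsg.Agent.Lib.Solv.CIT.EPPOSimple
import Cfsg.Agent.Lib.Lie.TwoQ.Top
import Cfsg.Agent.S0330
import Cfsg.Agent.S0333

/-!
Simple groups with at most one composite element order.
-/

set_option autoImplicit false
set_option linter.style.haveILetI false
set_option linter.unusedSectionVars false

namespace Cfsg.Agent.OddGated.OneComposite

open Cfsg
open Cfsg.Agent.Solv.CITGroups (CIT four_le_card cit_classification_iso)

universe u

/-- All element orders that are composite coincide. -/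
def AtMostOne (G : Type u) [Group G] : Prop :=
  ∀ x y : G, 1 < orderOf x → ¬ (orderOf x).Prime → 1 < orderOf y → ¬ (orderOf y).Prime → orderOf x = orderOf y

/-- The conclusion of the classification. -/
def Concl (G : Type u) [Group G] : Prop :=
  (∃ (F : Type) (_ : Field F) (_ : Fintype F), (Fintype.card F = 5 ∨ Fintype.card F = 7 ∨ Fintype.card F = 8 ∨ Fintype.card F = 9 ∨
      Fintype.card F = 11 ∨ Fintype.card F = 13 ∨ Fintype.card F = 16) ∧ Nonempty (G ≃* Matrix.ProjectiveSpecialLinearGroup (Fin 2) F)) ∨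
  (∃ (F : Type) (_ : Field F) (_ : Fintype F), Fintype.card F = 4 ∧ Nonempty (G ≃* Matrix.ProjectiveSpecialLinearGroup (Fin 3) F)) ∨
  (∃ (F : Type) (_ : Field F) (_ : Fintype F), Fintype.card F = 8 ∧ Nonempty (G ≃* ↥(Cfsg.Lie.Sz F 4))) ∨
  (∃ (F : Type) (_ : Field F) (_ : Fintype F), ∃ n r s : ℕ, r.Prime ∧ s.Prime ∧ 3 ^ n - 1 = 2 * r ∧ 3 ^ n + 1 = 4 * s ∧
      Fintype.card F = 3 ^ n ∧ Nonempty (G ≃* Matrix.ProjectiveSpecialLinearGroup (Fin 2) F)) ∨
  (∃ (F : Type) (_ : Field F) (_ : Fintype F), ∃ n r : ℕ, (2 ^ n - 1).Prime ∧ r.Prime ∧ 2 ^ n + 1 = 3 * r ∧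
      Fintype.card F = 2 ^ n ∧ Nonempty (G ≃* Matrix.ProjectiveSpecialLinearGroup (Fin 2) F))

variable {G : Type u} [Group G] [Finite G]

/-- `n` is an element order. -/
def IsOrd (G : Type u) [Group G] (n : ℕ) : Prop := ∃ x : G, orderOf x = n

theorem IsOrd.of_dvd {n d : ℕ} (h : IsOrd G n) (hd : d ∣ n) : IsOrd G d := by
  obtain ⟨x, rfl⟩ := h
  exact ⟨x ^ (orderOf x / d), orderOf_pow_orderOf_div (orderOf_pos x).ne' hd⟩

theorem AtMostOne.eq (h : AtMostOne G) {a b : ℕ} (ha : IsOrd G a) (hb : IsOrd G b) (a1 : 1 < a) (ap : ¬ a.Prime)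
    (b1 : 1 < b) (bp : ¬ b.Prime) : a = b := by
  obtain ⟨x, rfl⟩ := ha
  obtain ⟨y, rfl⟩ := hb
  exact h x y a1 ap b1 bp

/-- A composite order is a product of two primes. -/
theorem AtMostOne.semiprime (h : AtMostOne G) {n : ℕ} (hn : IsOrd G n) (n1 : 1 < n) (np : ¬ n.Prime) :
    ∃ r s : ℕ, r.Prime ∧ s.Prime ∧ n = r * s := by
  have hr := Nat.minFac_prime (by omega : n ≠ 1)
  obtain ⟨d, hd⟩ := Nat.minFac_dvd n
  refine ⟨n.minFac, d, hr, ?_, hd⟩
  by_contra hdp
  have hd0 : d ≠ 0 := fun e => by rw [e, mul_zero] at hd; omega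
  have hd1 : d ≠ 1 := fun e => np (by rw [hd, e, mul_one]; exact hr)
  have e := h.eq hn (hn.of_dvd ⟨n.minFac, by rw [mul_comm]; exact hd⟩) n1 np (by omega) hdp
  have h2 := hr.two_le
  rw [← e] at hd
  nlinarith

theorem psl_ord {F : Type} [Field F] [Fintype F] (e : G ≃* Matrix.ProjectiveSpecialLinearGroup (Fin 2) F)
    (h4 : 4 ≤ Fintype.card F) {m : ℕ} (hm : m ∣ (Fintype.card F - 1) / Nat.gcd 2 (Fintype.card F - 1) ∨
      m ∣ (Fintype.card F + 1) / Nat.gcd 2 (Fintype.card F - 1)) : IsOrd G m := by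
  obtain ⟨p, hp⟩ := CharP.exists F
  haveI : Fact p.Prime := ⟨CharP.char_is_prime F p⟩
  obtain ⟨y, hy⟩ := Small.SL2C.order_exists p h4 m (Or.inr hm)
  exact ⟨e.symm y, by rw [← hy]; exact orderOf_injective e.symm.toMonoidHom e.symm.injective y⟩

theorem psl_five (h60 : Nat.card G = 60) [IsSimpleGroup G] : Concl G := by
  haveI : Fact (Nat.Prime 5) := ⟨by norm_num⟩
  haveI : IsSimpleGroup (Matrix.ProjectiveSpecialLinearGroup (Fin 2) (ZMod 5)) :=
    Matrix.ProjectiveSpecialLinearGroup.rank_two_simple (by rw [Nat.card_zmod]; norm_num)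
  have hc := Classical.Dickson.card_psl (ZMod 5)
  rw [ZMod.card, show Nat.gcd 2 (5 - 1) = 2 from rfl] at hc
  obtain ⟨e₁⟩ := Lie.simple_sixty h60
  obtain ⟨e₂⟩ := Lie.simple_sixty (G := Matrix.ProjectiveSpecialLinearGroup (Fin 2) (ZMod 5)) (by norm_num at hc ⊢; omega)
  exact Or.inl ⟨ZMod 5, inferInstance, inferInstance, Or.inl (ZMod.card 5), ⟨e₁.trans e₂.symm⟩⟩

/-- The linear groups in characteristic two. -/
theorem psl_two_pow [IsSimpleGroup G] (h : AtMostOne G) {F : Type} [Field F] [Fintype F]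
    (e : G ≃* Matrix.ProjectiveSpecialLinearGroup (Fin 2) F) (h4 : 4 ≤ Fintype.card F) {n : ℕ}
    (hn : Fintype.card F = 2 ^ n) : Concl G := by
  have hn2 : 2 ≤ n := by
    by_contra hlt
    interval_cases n <;> omega
  have hev : Fintype.card F % 2 = 0 := by
    rw [hn, Nat.pow_mod, Nat.mod_self, zero_pow (by omega), Nat.zero_mod]
  have hg : Nat.gcd 2 (Fintype.card F - 1) = 1 :=
    Nat.coprime_iff_gcd_eq_one.1 ((Nat.prime_two.coprime_iff_not_dvd).2 (by omega))
  have om : IsOrd G (2 ^ n - 1) := psl_ord e h4 (Or.inl (by rw [hg, Nat.div_one, hn]))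
  have op : IsOrd G (2 ^ n + 1) := psl_ord e h4 (Or.inr (by rw [hg, Nat.div_one, hn]))
  have hb : 4 ≤ 2 ^ n := hn ▸ h4
  rcases eq_or_lt_of_le hn2 with rfl | hn3
  · refine psl_five ?_
    have hc := Classical.Dickson.card_psl F
    rw [← Nat.card_congr e.toEquiv, hn] at hc
    norm_num at hc
    exact hc
  by_cases hp : (2 ^ n + 1).Prime
  · obtain ⟨k, rfl⟩ := Nat.pow_of_pow_add_prime (le_refl 2) (by omega) hp
    cases k with
    | zero => simp at hn3
    | succ j =>
      obtain ⟨M, hM⟩ : ∃ M, M = 2 ^ j := ⟨_, rfl⟩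
      have hM2 : 2 ^ (j + 1) = 2 * M := by rw [hM, pow_succ, mul_comm]
      rw [hM2] at hn3 om hn hb
      have hmul : 2 ^ (2 * M) - 1 = (2 ^ M + 1) * (2 ^ M - 1) := by
        rw [← Nat.sq_sub_sq, one_pow, ← pow_mul, mul_comm M 2]
      have hB : 4 ≤ 2 ^ M := by
        calc 4 = 2 ^ 2 := rfl
          _ ≤ 2 ^ M := Nat.pow_le_pow_right two_pos (by omega)
      have hnp : ¬ (2 ^ (2 * M) - 1).Prime := by
        rw [hmul]
        exact Nat.not_prime_mul (by omega) (by omega)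
      have n1 : 1 < 2 ^ (2 * M) - 1 := by omega
      have hlt : ∀ d, d ∣ 2 ^ (2 * M) - 1 → d ≠ 2 ^ (2 * M) - 1 → 1 < d → d.Prime := fun d hd hne h1 => by
        by_contra hdp
        exact hne (h.eq (om.of_dvd hd) om h1 hdp n1 hnp)
      have hpa : (2 ^ M + 1).Prime := hlt _ ⟨_, hmul⟩ (by rw [hmul]; intro e'; nlinarith [Nat.sub_add_cancel (show 1 ≤ 2 ^ M by omega)]) (by omega)
      have hpb : (2 ^ M - 1).Prime := hlt _ ⟨_, by rw [hmul, mul_comm]⟩ (by rw [hmul]; intro e'; nlinarith [Nat.sub_add_cancel (show 1 ≤ 2 ^ M by omega)]) (by omega)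
      have h3 : 3 ∣ 2 ^ M - 1 ∨ 3 ∣ 2 ^ M + 1 := by
        have : 2 ^ M % 3 ≠ 0 := fun e0 => by
          have := Nat.prime_three.dvd_of_dvd_pow (Nat.dvd_of_mod_eq_zero e0)
          omega
        omega
      have hM4 : 2 ^ M = 4 := by
        rcases h3 with h3 | h3
        · have := (Nat.prime_dvd_prime_iff_eq Nat.prime_three hpb).1 h3
          omega
        · have := (Nat.prime_dvd_prime_iff_eq Nat.prime_three hpa).1 h3
          omega
      refine Or.inl ⟨F, inferInstance, inferInstance, ?_, ⟨e⟩⟩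
      have : Fintype.card F = 16 := by rw [hn, two_mul, pow_add, hM4]; norm_num
      tauto
  · have hmp : (2 ^ n - 1).Prime := by
      by_contra hmp
      have := h.eq op om (by omega) hp (by omega) hmp
      omega
    rcases Nat.Prime.eq_two_or_odd' (Nat.prime_of_pow_sub_one_prime (by omega) hmp).2 with rfl | hodd
    · omega
    obtain ⟨r, s, hr, hs, hrs⟩ := h.semiprime op (by omega) hp
    have h3 : 3 ∣ 2 ^ n + 1 := by
      obtain ⟨i, rfl⟩ := hodd
      rw [Nat.dvd_iff_mod_eq_zero, pow_succ, pow_mul, Nat.add_mod, Nat.mul_mod, Nat.pow_mod]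
      norm_num
    rw [hrs] at h3
    refine Or.inr (Or.inr (Or.inr (Or.inr ?_)))
    rcases Nat.prime_three.dvd_mul.1 h3 with h3' | h3'
    · rw [← (Nat.prime_dvd_prime_iff_eq Nat.prime_three hr).1 h3'] at hrs
      exact ⟨F, inferInstance, inferInstance, n, s, hmp, hs, hrs, hn, ⟨e⟩⟩
    · rw [← (Nat.prime_dvd_prime_iff_eq Nat.prime_three hs).1 h3', mul_comm] at hrs
      exact ⟨F, inferInstance, inferInstance, n, r, hmp, hr, hrs, hn, ⟨e⟩⟩

/-- Fermat and Mersenne primes. -/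
theorem psl_prime (h : AtMostOne G) {F : Type} [Field F] [Fintype F]
    (e : G ≃* Matrix.ProjectiveSpecialLinearGroup (Fin 2) F) (h4 : 4 ≤ Fintype.card F) (hq : (Fintype.card F).Prime)
    {k : ℕ} (hk : Fintype.card F = 2 ^ k + 1 ∨ Fintype.card F + 1 = 2 ^ k) : Concl G := by
  obtain ⟨j, hj⟩ := hq.odd_of_ne_two (by omega)
  have hg : Nat.gcd 2 (Fintype.card F - 1) = 2 := Nat.gcd_eq_left (by omega)
  have ho : ∀ i, i + 1 ≤ k → IsOrd G (2 ^ i) := fun i hi => by
    refine psl_ord e h4 ?_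
    have hd : 2 ^ i ∣ 2 ^ (k - 1) := Nat.pow_dvd_pow 2 (by omega)
    have e2 : 2 ^ k = 2 * 2 ^ (k - 1) := by rw [← pow_succ', Nat.sub_add_cancel (by omega)]
    rw [hg]
    rcases hk with hk | hk
    · left; rw [show (Fintype.card F - 1) / 2 = 2 ^ (k - 1) by omega]; exact hd
    · right; rw [show (Fintype.card F + 1) / 2 = 2 ^ (k - 1) by omega]; exact hd
  have hk3 : k ≤ 3 := by
    by_contra hlt
    have := h.eq (ho 2 (by omega)) (ho 3 (by omega)) (by norm_num) (by norm_num) (by norm_num) (by norm_num)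
    norm_num at this
  refine Or.inl ⟨F, inferInstance, inferInstance, ?_, ⟨e⟩⟩
  interval_cases k <;> omega

theorem suzuki_eight (h : AtMostOne G) (hs : Cfsg.Lie.IsoSuzuki G) : Concl G := by
  obtain ⟨F, iF, iFF, m, hm, hF, ⟨e⟩⟩ := hs
  haveI : Fact (Nat.Prime 2) := ⟨Nat.prime_two⟩
  obtain ⟨e'⟩ := Lie.Suzuki.lie_sz_equiv hF hm
  let f : Cfsg.Sz F m ≃* G := e'.trans e.symm
  haveI : Finite (Cfsg.Sz F m) := Finite.of_equiv G f.symm.toEquiv
  have hmap : ∀ x : Cfsg.Sz F m, orderOf (f x) = orderOf x := fun x => orderOf_injective f.toMonoidHom f.injective x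
  obtain ⟨P⟩ : Nonempty (Sylow 2 (Cfsg.Sz F m)) := inferInstance
  obtain ⟨-, hexp, -, -⟩ := S0330.result hm hF P
  obtain ⟨y, hy⟩ : ∃ y : (P : Subgroup (Cfsg.Sz F m)), y ^ 2 ≠ 1 := by
    by_contra hc
    push Not at hc
    have := Monoid.exponent_dvd_of_forall_pow_eq_one (G := (P : Subgroup (Cfsg.Sz F m))) hc
    rw [hexp] at this
    exact absurd (Nat.le_of_dvd two_pos this) (by norm_num)
  have hy4 : orderOf y = 4 :=
    orderOf_eq_prime_pow (p := 2) (n := 1) (by simpa using hy) (by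
      have hy' := Monoid.pow_exponent_eq_one y
      rw [hexp] at hy'
      simpa using hy')
  have o4 : IsOrd G 4 := ⟨f y, by rw [hmap, Subgroup.orderOf_coe, hy4]⟩
  have hlt : 2 ^ (m + 1) < 2 ^ (2 * m + 1) := Nat.pow_lt_pow_right one_lt_two (by omega)
  have hodd : 2 ^ (m + 1) % 2 = 0 ∧ 2 ^ (2 * m + 1) % 2 = 0 := by
    constructor <;> rw [pow_succ] <;> omega
  have hprime : ∀ k ∈ ({2 ^ (2 * m + 1) + 2 ^ (m + 1) + 1, 2 ^ (2 * m + 1) - 2 ^ (m + 1) + 1} : Set ℕ), k.Prime := by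
    intro k hk
    obtain ⟨U, hUc, hUk, -, -⟩ := S0333.result hm hF k hk
    obtain ⟨g, hg⟩ := IsCyclic.exists_ofOrder_eq_natCard (α := U)
    have ok : IsOrd G k := ⟨f g, by rw [hmap, Subgroup.orderOf_coe, hg, hUk]⟩
    simp only [Set.mem_insert_iff, Set.mem_singleton_iff] at hk
    have h2m : 2 ^ m * 2 = 2 ^ (m + 1) := (pow_succ 2 m).symm
    have h2m' : 0 < 2 ^ m := Nat.two_pow_pos m
    by_contra hkp
    have := h.eq o4 ok (by norm_num) (by norm_num) (by rcases hk with rfl | rfl <;> omega) hkp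
    rcases hk with rfl | rfl <;> omega
  have hp1 := hprime _ (Set.mem_insert _ _)
  have hp2 := hprime _ (Set.mem_insert_of_mem _ rfl)
  have h5 : 5 ∣ (2 ^ (2 * m + 1) + 2 ^ (m + 1) + 1) * (2 ^ (2 * m + 1) - 2 ^ (m + 1) + 1) := by
    have h := Solv.EPPOArith.five_dvd_sq (m := m)
    have hsq : 2 * 2 ^ (2 * m + 1) = 2 ^ (m + 1) * 2 ^ (m + 1) := by rw [← pow_succ', ← pow_add]; congr 1; ring
    obtain ⟨d, hd⟩ : ∃ d, 2 ^ (2 * m + 1) = 2 ^ (m + 1) + d := ⟨_, (Nat.add_sub_cancel' hlt.le).symm⟩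
    rw [hd, Nat.add_sub_cancel_left]
    generalize 2 ^ (2 * m + 1) = q at h hd hsq
    generalize 2 ^ (m + 1) = t at hd hsq
    subst hd
    have e5 : (t + d + t + 1) * (d + 1) = (t + d) ^ 2 + 1 := by nlinarith
    rwa [e5]
  have hq8 : 8 ≤ 2 ^ (2 * m + 1) := by
    calc 8 = 2 ^ 3 := rfl
      _ ≤ _ := Nat.pow_le_pow_right two_pos (by omega)
  have h4le : 4 ≤ 2 ^ (m + 1) := by
    calc 4 = 2 ^ 2 := rfl
      _ ≤ _ := Nat.pow_le_pow_right two_pos (by omega)
  have hm1 : m = 1 := by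
    rcases (show Nat.Prime 5 by norm_num).dvd_mul.1 h5 with h5 | h5
    · have := (Nat.prime_dvd_prime_iff_eq (by norm_num) hp1).1 h5
      omega
    · have h5' := (Nat.prime_dvd_prime_iff_eq (by norm_num) hp2).1 h5
      by_contra hm1
      have h2m : 2 ^ (m + 1) * 4 ≤ 2 ^ (2 * m + 1) := by
        calc 2 ^ (m + 1) * 4 = 2 ^ (m + 1 + 2) := by rw [pow_add _ (m + 1)]; norm_num
          _ ≤ _ := Nat.pow_le_pow_right two_pos (by omega)
      omega
  subst hm1
  exact Or.inr (Or.inr (Or.inl ⟨F, iF, iFF, by rw [hF]; norm_num, ⟨e⟩⟩))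

/-- The linear groups with an element of order twice an odd prime. -/
theorem psl_odd (h : AtMostOne G) {F : Type} [Field F] [Fintype F]
    (e : G ≃* Matrix.ProjectiveSpecialLinearGroup (Fin 2) F) (h4 : 4 ≤ Fintype.card F) (hodd : Odd (Fintype.card F))
    {r : ℕ} (hr : r.Prime) (hr2 : r ≠ 2) (hex : IsOrd G (2 * r)) : Concl G := by
  obtain ⟨j, hj⟩ := hodd
  have hg : Nat.gcd 2 (Fintype.card F - 1) = 2 := Nat.gcd_eq_left (by omega)
  have o1 : IsOrd G j := psl_ord e h4 (Or.inl (by rw [hg, show (Fintype.card F - 1) / 2 = j by omega]))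
  have o2 : IsOrd G (j + 1) := psl_ord e h4 (Or.inr (by rw [hg, show (Fintype.card F + 1) / 2 = j + 1 by omega]))
  have hcomp : ∀ a, IsOrd G a → 1 < a → ¬ a.Prime → a = 2 * r := fun a ha a1 ap =>
    h.eq ha hex a1 ap (by have := hr.two_le; omega) (Nat.not_prime_mul (by norm_num) hr.ne_one)
  have hro : r % 2 = 1 := (hr.eq_two_or_odd).resolve_left hr2
  have hr3 : 3 ≤ r := by have := hr.two_le; omega
  obtain ⟨p, hp⟩ := CharP.exists F
  haveI hpf : Fact p.Prime := ⟨CharP.char_is_prime F p⟩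
  obtain ⟨f, -, hf⟩ := FiniteField.card F p
  have small : ∀ q ∈ ({5, 7, 8, 9, 11, 13, 16} : Finset ℕ), Fintype.card F = q → Concl G := fun q hq hFq => by
    refine Or.inl ⟨F, inferInstance, inferInstance, ?_, ⟨e⟩⟩
    simp only [Finset.mem_insert, Finset.mem_singleton] at hq
    omega
  have key : ∀ a b : ℕ, IsOrd G a → IsOrd G b → a % 2 = 0 → b % 2 = 1 → 2 ≤ a → 2 ≤ b →
      ((Fintype.card F = 2 * a - 1 ∧ b + 1 = a) ∨ (Fintype.card F = 2 * a + 1 ∧ b = a + 1)) → Concl G := by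
    intro a b ha hb ha2 hb2 a2 b2 hab
    by_cases hap : a.Prime
    · have : a = 2 := (hap.eq_two_or_odd).resolve_right (by omega)
      subst this
      exact small 5 (by simp) (by omega)
    have hae := hcomp a ha (by omega) hap
    have hbp : b.Prime := by
      by_contra hbp
      have := hcomp b hb (by omega) hbp
      omega
    by_cases hq3 : 3 ∣ Fintype.card F
    · have hp3 : p = 3 := by
        rw [hf] at hq3
        exact ((Nat.prime_dvd_prime_iff_eq Nat.prime_three hpf.out).1 (Nat.prime_three.dvd_of_dvd_pow hq3)).symm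
      subst hp3
      rcases hab with ⟨hab, hb'⟩ | ⟨hab, hb'⟩
      · refine Or.inr (Or.inr (Or.inr (Or.inl ⟨F, inferInstance, inferInstance, f, b, r, hbp, hr, ?_, ?_, hf, ⟨e⟩⟩)))
        · omega
        · omega
      · exfalso
        have h8 := Solv.EPPOArith.three_pow_mod (f : ℕ)
        split_ifs at h8 <;> omega
    · have hq3' : Fintype.card F % 3 ≠ 0 := fun e0 => hq3 (Nat.dvd_of_mod_eq_zero e0)
      have : r = 3 ∨ b = 3 := by
        rcases (show Fintype.card F % 3 = 1 ∨ Fintype.card F % 3 = 2 by omega) with e3 | e3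
        · rcases hab with ⟨hab, hb'⟩ | ⟨hab, hb'⟩
          · right
            exact ((Nat.prime_dvd_prime_iff_eq Nat.prime_three hbp).1 (Nat.dvd_of_mod_eq_zero (by omega))).symm
          · left
            exact ((Nat.prime_dvd_prime_iff_eq Nat.prime_three hr).1 (Nat.dvd_of_mod_eq_zero (by omega))).symm
        · rcases hab with ⟨hab, hb'⟩ | ⟨hab, hb'⟩
          · left
            exact ((Nat.prime_dvd_prime_iff_eq Nat.prime_three hr).1 (Nat.dvd_of_mod_eq_zero (by omega))).symm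
          · right
            exact ((Nat.prime_dvd_prime_iff_eq Nat.prime_three hbp).1 (Nat.dvd_of_mod_eq_zero (by omega))).symm
      rcases hab with ⟨hab, hb'⟩ | ⟨hab, hb'⟩
      · exact small (Fintype.card F) (by simp only [Finset.mem_insert, Finset.mem_singleton]; omega) rfl
      · exact small (Fintype.card F) (by simp only [Finset.mem_insert, Finset.mem_singleton]; omega) rfl
  rcases Nat.mod_two_eq_zero_or_one j with hje | hje
  · exact key j (j + 1) o1 o2 hje (by omega) (by omega) (by omega) (Or.inr ⟨by omega, rfl⟩)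
  · rcases Nat.lt_or_ge j 3 with hj3 | hj3
    · omega
    · exact key (j + 1) j o2 o1 (by omega) hje (by omega) (by omega) (Or.inl ⟨by omega, rfl⟩)

/-- Simple groups of even order with at most one composite element order. -/
theorem classify [IsSimpleGroup G] (hna : ∃ a b : G, a * b ≠ b * a) (h2 : 2 ∣ Nat.card G) (h : AtMostOne G) :
    Concl G := by
  classical
  by_cases hC : CIT G
  · rcases cit_classification_iso hna hC h2 with ⟨F, iF, iFF, hcase, ⟨e⟩⟩ | hL | hS
    · have h4 := four_le_card hna e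
      rcases hcase with h9 | ⟨n, hn⟩ | ⟨hp, k, hk⟩
      · exact Or.inl ⟨F, iF, iFF, by tauto, ⟨e⟩⟩
      · exact psl_two_pow h e h4 hn
      · exact psl_prime h e h4 hp hk
    · exact Or.inr (Or.inl hL)
    · exact suzuki_eight h hS
  · simp only [Cfsg.Agent.Solv.CITGroups.CIT, not_forall] at hC
    obtain ⟨t, ht, hnp⟩ := hC
    obtain ⟨r, hr, hr2, x, hx⟩ : ∃ r, r.Prime ∧ r ≠ 2 ∧ ∃ x : G, orderOf x = 2 * r := by
      by_contra hc
      push Not at hc
      refine hnp (IsPGroup.of_card (Nat.eq_prime_pow_of_unique_prime_dvd Nat.card_pos.ne' fun {r} hr hrd => ?_))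
      haveI := Fact.mk hr
      obtain ⟨⟨y, hy⟩, hyo⟩ := exists_prime_orderOf_dvd_card' r hrd
      rw [Subgroup.orderOf_mk] at hyo
      by_contra hr2
      refine hc r hr hr2 (t * y) ?_
      have hcomm : Commute t y := (Subgroup.mem_centralizer_singleton_iff.1 hy : Commute y t).symm
      rw [hcomm.orderOf_mul_eq_mul_orderOf_of_coprime (by
        rw [ht, hyo]; exact (Nat.coprime_primes Nat.prime_two hr).2 (Ne.symm hr2)), ht, hyo]
    have hex : IsOrd G (2 * r) := ⟨x, hx⟩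
    have hkey : ∀ y : G, ∀ a : ℕ, a.Prime → a ∣ orderOf y → orderOf y = a ∨ orderOf y = 2 * r := by
      intro y a ha hy
      by_cases hp : (orderOf y).Prime
      · exact Or.inl ((Nat.prime_dvd_prime_iff_eq ha hp).1 hy).symm
      · refine Or.inr (h.eq ⟨y, rfl⟩ hex ?_ hp (by have := hr.two_le; omega) (Nat.not_prime_mul (by norm_num) hr.ne_one))
        have := Nat.le_of_dvd (orderOf_pos y) hy
        have := ha.two_le
        omega
    obtain ⟨F, iF, iFF, hodd, ⟨e⟩⟩ := Lie.TwoQ.simple_two_q hna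
      (q := r) ⟨hr, hr2, fun y => hkey y 2 Nat.prime_two, fun y => hkey y r hr, ⟨x, hx⟩⟩
    exact psl_odd h e (four_le_card hna e) hodd hr hr2 hex

end Cfsg.Agent.OddGated.OneComposite
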