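import Cfsg.Agent.Lib.Solv.OddGated.SylowFixerAut
import Cfsg.Prelude.Def_KGroupFacts

/-!
The outer automorphism group of a simple group whose Sylow 2-subgroup has a solvable automorphism group,
provided groups of odd order are solvable.
-/

set_option autoImplicit false
set_option linter.style.haveILetI false

open scoped Pointwise

namespace Cfsg.Agent.Solv.OddGated.Outer

open Cfsg

universe u

variable {G : Type u} [Group G] [Finite G]

/-- `Out(G)` is solvable if `G` is core-free and `Aut(S)` is solvable. -/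
theorem out_solvable (hFT : OddSolvable.{u}) (hO : ∀ N : Subgroup G, N.Normal → Odd (Nat.card N) → N = ⊥)
    (S : Sylow 2 G) (hS : Group.IsSolvable (MulAut ↥S)) : Group.IsSolvable (Cfsg.Out G) := by
  haveI : Fact (Nat.Prime 2) := ⟨Nat.prime_two⟩
  let A : Subgroup (MulAut G) :=
    { carrier := {φ | ∀ x : G, φ x ∈ (S : Subgroup G) ↔ x ∈ (S : Subgroup G)}
      one_mem' := fun x => Iff.rfl
      mul_mem' := fun {a b} ha hb x => (ha (b x)).trans (hb x)
      inv_mem' := fun {a} ha x => by
        rw [← ha (a⁻¹ x), MulAut.apply_inv_self] }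
  let res : A → MulAut ↥S := fun φ =>
    { toFun := fun x => ⟨(φ : MulAut G) x, (φ.2 x).2 x.2⟩
      invFun := fun x => ⟨((φ : MulAut G)⁻¹) x, ((A.inv_mem φ.2) x).2 x.2⟩
      left_inv := fun x => Subtype.ext (MulAut.inv_apply_self _ _ _)
      right_inv := fun x => Subtype.ext (MulAut.apply_inv_self _ _ _)
      map_mul' := fun x y => Subtype.ext (map_mul (φ : MulAut G) (x : G) y) }
  let f : A →* MulAut ↥S :=
    { toFun := res
      map_one' := MulEquiv.ext fun x => Subtype.ext rfl
      map_mul' := fun a b => MulEquiv.ext fun x => Subtype.ext rfl }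
  let C : Subgroup (MulAut G) := f.ker.map A.subtype
  have hfix : ∀ a ∈ C, ∀ s ∈ (S : Subgroup G), (a : MulAut G) s = s := by
    rintro _ ⟨a, ha, rfl⟩ s hs
    exact congrArg (fun e : MulAut ↥S => ((e ⟨s, hs⟩ : ↥S) : G)) (MonoidHom.mem_ker.1 ha)
  haveI : Group.IsSolvable ↥C := Fixer.solvable_of_structure hFT (Fixer.structure_of_fixer hO hfix)
  haveI : Group.IsSolvable ↥f.ker := Group.isSolvable_of_isSolvable_injective
    (f := (f.ker.equivMapOfInjective A.subtype A.subtype_injective).toMonoidHom) (MulEquiv.injective _)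
  haveI := hS
  haveI hA : Group.IsSolvable ↥A := Group.isSolvable_of_ker_le_range f.ker.subtype f (by rw [Subgroup.range_subtype])
  refine Group.isSolvable_of_surjective (f := (QuotientGroup.mk' (Cfsg.Inn G)).comp A.subtype) fun q => ?_
  obtain ⟨φ, rfl⟩ := QuotientGroup.mk'_surjective (Cfsg.Inn G) q
  obtain ⟨g, hg⟩ := MulAction.exists_smul_eq G S (S.comapOfInjective (φ : G ≃* G).toMonoidHom
    (show Function.Injective ⇑((φ : G ≃* G).toMonoidHom) from φ.injective)
    (by rw [MonoidHom.range_eq_top.2 φ.surjective]; exact le_top))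
  have hg' : ∀ x : G, φ x ∈ (S : Subgroup G) ↔ g⁻¹ * x * g ∈ (S : Subgroup G) := fun x => by
    have h := SetLike.ext_iff.1 (congrArg Sylow.toSubgroup hg) x
    rw [Sylow.coe_subgroup_smul, Sylow.coe_comapOfInjective, Subgroup.mem_pointwise_smul_iff_inv_smul_mem] at h
    simpa [MulAut.smul_def, MulAut.conj_inv_apply, MulAut.conj_apply] using h.symm
  refine ⟨⟨φ * MulAut.conj g, fun x => ?_⟩, ?_⟩
  · rw [MulAut.mul_apply, MulAut.conj_apply, hg']
    simp [mul_assoc]
  · show QuotientGroup.mk' (Cfsg.Inn G) (φ * MulAut.conj g) = _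
    rw [map_mul, show QuotientGroup.mk' (Cfsg.Inn G) (MulAut.conj g) = 1 from
      (QuotientGroup.eq_one_iff _).2 ⟨g, rfl⟩, mul_one]

end Cfsg.Agent.Solv.OddGated.Outer
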