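import Cfsg.Agent.Lib.Solv.OddGated.SylowFixerAut
import Cfsg.Agent.Lib.Fusion.Cores

/-!
A non-abelian 2-group of operators in which a central commutator has the same fixed points.
-/

set_option autoImplicit false
set_option linter.style.haveILetI false

open scoped commutatorElement

namespace Cfsg.Agent.Solv.OddGated.SemiregularTwo

open Cfsg.Agent.Fusion

universe u

variable {G : Type u} [Group G] [Finite G]

/-- the subgroup of automorphisms fixing a set pointwise -/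
def fixer {M : Type u} [Group M] (X : Set M) : Subgroup (MulAut M) where
  carrier := {φ | ∀ s ∈ X, φ s = s}
  one_mem' := fun _ _ => rfl
  mul_mem' := fun {a b} ha hb s hs => by rw [MulAut.mul_apply, hb s hs, ha s hs]
  inv_mem' := fun {a} ha s hs => by
    conv_lhs => rw [← ha s hs]
    rw [MulAut.inv_def, MulEquiv.symm_apply_apply]

/-- an element of `⁅Q, Q⁆` centralizing a Sylow 2-subgroup of `N` acts trivially modulo `O(N)` -/
theorem comm_trivial (N Q : Subgroup G) [N.Normal] (S : Sylow 2 ↥N) (hQ : IsPGroup 2 ↥Q)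
    (hfix : ∀ q ∈ Q, ∀ s : ↥N, s ∈ (S : Subgroup ↥N) → q * (s : G) * q⁻¹ = s)
    {t : G} (ht : t ∈ ⁅Q, Q⁆) (x : ↥N) :
    (x : G) * t * (x : G)⁻¹ * t⁻¹ ∈ (Cfsg.oddCore ↥N).map N.subtype := by
  haveI : Fact (Nat.Prime 2) := ⟨Nat.prime_two⟩
  set OG : Subgroup G := (Cfsg.oddCore ↥N).map N.subtype with hOG
  haveI : OG.Normal := inferInstance
  set M : Subgroup (G ⧸ OG) := N.map (QuotientGroup.mk' OG) with hM
  haveI : M.Normal := Subgroup.Normal.map inferInstance _ (QuotientGroup.mk'_surjective OG)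
  let f : ↥N →* ↥M := (QuotientGroup.mk' OG).subgroupMap N
  have hf : Function.Surjective f := MonoidHom.subgroupMap_surjective _ _
  have hfk : f.ker = Cfsg.oddCore ↥N := by
    ext y
    rw [MonoidHom.mem_ker]
    constructor
    · intro hy
      obtain ⟨z, hz, hzy⟩ := (QuotientGroup.eq_one_iff (y : G)).1 (congrArg Subtype.val hy)
      rwa [← Subtype.ext (show (z : G) = y from hzy)]
    · intro hy
      exact Subtype.ext ((QuotientGroup.eq_one_iff (y : G)).2 ⟨y, hy, rfl⟩)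
  have hcore : Cfsg.oddCore ↥M = ⊥ := by
    have e : ↥N ⧸ Cfsg.oddCore ↥N ≃* ↥M :=
      (QuotientGroup.quotientMulEquivOfEq hfk).symm.trans (QuotientGroup.quotientKerEquivOfSurjective f hf)
    show Cfsg.pPrimeCore 2 ↥M = ⊥
    rw [← map_pPrimeCore_equiv e, pPrimeCore_quotient_eq_bot, Subgroup.map_bot]
  have hO : ∀ X : Subgroup ↥M, X.Normal → Odd (Nat.card X) → X = ⊥ := fun X hX hodd => by
    haveI := hX
    rw [eq_bot_iff, ← hcore]
    exact le_pPrimeCore (Nat.coprime_two_right.2 hodd)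
  let S' : Sylow 2 ↥M := S.mapSurjective hf
  let C : Subgroup (MulAut ↥M) := fixer ((S' : Subgroup ↥M) : Set ↥M)
  let ψ : ↥Q →* MulAut ↥M := (MulAut.conjNormal.comp (QuotientGroup.mk' OG)).comp Q.subtype
  have hψ : ∀ (q : ↥Q) (m : ↥M), ((ψ q m : ↥M) : G ⧸ OG) =
      QuotientGroup.mk' OG q * m * (QuotientGroup.mk' OG q)⁻¹ := fun q m => by
    simp [ψ, MulAut.conjNormal_apply]
  have hψC : ∀ q : ↥Q, ψ q ∈ C := by
    intro q m hm
    rw [SetLike.mem_coe] at hm
    change m ∈ ((S.mapSurjective hf : Sylow 2 ↥M) : Subgroup ↥M) at hm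
    rw [Sylow.coe_mapSurjective] at hm
    obtain ⟨s, hs, rfl⟩ := hm
    apply Subtype.ext
    rw [hψ]
    show QuotientGroup.mk' OG q * QuotientGroup.mk' OG (s : G) * _ = QuotientGroup.mk' OG (s : G)
    rw [← map_inv, ← map_mul, ← map_mul, hfix q q.2 s hs]
  let ψC : ↥Q →* ↥C := ψ.codRestrict C hψC
  have hodd := Fixer.odd_commutator (S := S') (C := C) hO (fun a ha s hs => ha s hs)
  rw [← Subgroup.map_subtype_commutator] at ht
  obtain ⟨tQ, htQ, rfl⟩ := ht
  have hmem : ψC tQ ∈ (⁅(⊤ : Subgroup ↥C), (⊤ : Subgroup ↥C)⁆ : Subgroup ↥C) := by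
    rw [commutator_def] at htQ
    have h := Subgroup.mem_map_of_mem ψC htQ
    rw [Subgroup.map_commutator] at h
    exact Subgroup.commutator_mono le_top le_top h
  have hone : ψC tQ = 1 := by
    rw [← orderOf_eq_one_iff]
    obtain ⟨k, hk⟩ := IsPGroup.iff_orderOf.1 hQ tQ
    have h1 : orderOf (ψC tQ) ∣ 2 ^ k := hk ▸ orderOf_map_dvd ψC tQ
    have h2 : orderOf (ψC tQ) ∣ Nat.card ↥(⁅(⊤ : Subgroup ↥C), (⊤ : Subgroup ↥C)⁆ : Subgroup ↥C) :=
      (Subgroup.orderOf_mk _ hmem) ▸ orderOf_dvd_natCard _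
    exact Nat.eq_one_of_dvd_coprimes ((Nat.coprime_two_left.2 hodd).pow_left k) h1 h2
  have h3 : ψ tQ (f x) = f x := by
    have := congrArg Subtype.val hone
    rw [show ψ tQ = 1 from this]
    rfl
  have h4 := congrArg Subtype.val h3
  rw [hψ] at h4
  change QuotientGroup.mk' OG (tQ : G) * QuotientGroup.mk' OG (x : G) * _ = QuotientGroup.mk' OG (x : G) at h4
  have h5 : QuotientGroup.mk' OG ((x : G) * (tQ : G) * (x : G)⁻¹ * (tQ : G)⁻¹) = 1 := by
    rw [map_mul, map_mul, map_mul, map_inv, map_inv]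
    conv_lhs => arg 1; arg 1; arg 1; rw [← h4]
    group
  exact (QuotientGroup.eq_one_iff _).1 h5

theorem commutator_le (N Q : Subgroup G) [N.Normal] (hQ : IsPGroup 2 ↥Q) (hdisj : Q ⊓ N = ⊥)
    {t : G} (htQ : t ∈ ⁅Q, Q⁆)
    (hC : N ⊓ Subgroup.centralizer (Q : Set G) = N ⊓ Subgroup.centralizer ({t} : Set G)) :
    ⁅N, Q⁆ ≤ (Cfsg.oddCore ↥N).map N.subtype := by
  haveI : Fact (Nat.Prime 2) := ⟨Nat.prime_two⟩
  obtain ⟨P, hP, hQP⟩ := exists_sylIn_ge hQ (le_top : Q ≤ (⊤ : Subgroup G))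
  have hS := hP.inf_normal (N := N) le_top (by rw [Subgroup.normalizer_eq_top])
  have hcQ : ⁅N ⊓ Subgroup.centralizer (Q : Set G), Q⁆ = ⊥ :=
    Subgroup.commutator_eq_bot_iff_le_centralizer.2 inf_le_right
  -- `Q` centralizes `P ⊓ N`
  obtain ⟨n, hn⟩ := (Subgroup.isNilpotent_iff_lowerCentralSeries P).1 hP.isPGroup.isNilpotent
  have hstep : ∀ j, ∀ K : Subgroup G, K ≤ P ⊓ N → K ≤ P.lowerCentralSeries (n - j) →
      K ≤ Subgroup.centralizer (Q : Set G) := by
    intro j
    induction j with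
    | zero =>
      intro K _ hK
      rw [Nat.sub_zero, hn] at hK
      exact hK.trans bot_le
    | succ j ih =>
      intro K hK1 hK2
      rcases Nat.lt_or_ge j n with hjn | hjn
      · have hnext : ⁅K, Q⁆ ≤ P.lowerCentralSeries (n - j) := by
          rw [show n - j = (n - (j + 1)) + 1 by omega, Subgroup.lowerCentralSeries_succ]
          exact Subgroup.commutator_mono hK2 hQP
        have hin : ⁅K, Q⁆ ≤ P ⊓ N := by
          refine le_inf ?_ ?_
          · refine (Subgroup.commutator_mono (hK1.trans inf_le_left) hQP).trans ?_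
            exact P.commutator_le_self
          · exact (Subgroup.commutator_mono (hK1.trans inf_le_right) le_rfl).trans
              (Subgroup.commutator_le_left N Q)
        have hKQ : ⁅⁅K, Q⁆, Q⁆ = ⊥ :=
          Subgroup.commutator_eq_bot_iff_le_centralizer.2 (ih _ hin hnext)
        have h3 : ⁅⁅Q, Q⁆, K⁆ = ⊥ :=
          Subgroup.commutator_commutator_eq_bot_of_rotate
            (by rw [Subgroup.commutator_comm Q K]; exact hKQ) hKQ
        intro k hk
        have hkt : k * t = t * k := by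
          have h4 := Subgroup.commutator_mem_commutator htQ hk
          rw [h3, Subgroup.mem_bot, commutatorElement_eq_one_iff_mul_comm] at h4
          exact h4.symm
        have h5 : k ∈ N ⊓ Subgroup.centralizer ({t} : Set G) :=
          ⟨(hK1 hk).2, Subgroup.mem_centralizer_singleton_iff.2 hkt⟩
        rw [← hC] at h5
        exact h5.2
      · exact ih K hK1 (by rw [show n - j = n - (j + 1) by omega]; exact hK2)
  have hfix : P ⊓ N ≤ Subgroup.centralizer (Q : Set G) :=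
    hstep n (P ⊓ N) le_rfl (by rw [Nat.sub_self]; exact inf_le_left)
  obtain ⟨S, hSeq⟩ := hS.exists_sylow_subgroupOf
  have hfix' : ∀ q ∈ Q, ∀ s : ↥N, s ∈ (S : Subgroup ↥N) → q * (s : G) * q⁻¹ = s := by
    intro q hq s hs
    rw [hSeq, Subgroup.mem_subgroupOf] at hs
    rw [Subgroup.mem_centralizer_iff.1 (hfix hs) q hq, mul_inv_cancel_right]
  set OG : Subgroup G := (Cfsg.oddCore ↥N).map N.subtype with hOG
  haveI : OG.Normal := inferInstance
  have htQ' : t ∈ Q := Q.commutator_le_self htQ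
  have hOodd : Odd (Nat.card ↥OG) := by
    rw [hOG, Subgroup.card_map_of_injective N.subtype_injective]
    exact Nat.coprime_two_right.1 (card_pPrimeCore_coprime 2 _)
  rw [Subgroup.commutator_le]
  intro x hx q hq
  have hxt : x * t * x⁻¹ * t⁻¹ ∈ OG := comm_trivial N Q S hQ hfix' htQ ⟨x, hx⟩
  set T : Subgroup G := Subgroup.zpowers t with hT
  set H : Subgroup G := T ⊔ OG with hH
  have hTp : IsPGroup 2 ↥T := hQ.to_le (Subgroup.zpowers_le.2 htQ')
  have hsyl : ∀ T' : Subgroup G, T' ≤ H → IsPGroup 2 ↥T' → Nat.card ↥T' = Nat.card ↥T →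
      SylIn 2 T' H := by
    intro T' h1 h2 h3
    refine ⟨h1, h2, fun hd => ?_⟩
    have h4 : Nat.card ↥T' * T'.relIndex H = Nat.card ↥H := by
      have := Subgroup.relIndex_mul_relIndex ⊥ T' H bot_le h1
      simpa only [Subgroup.relIndex_bot_left] using this
    have h5 : Nat.card ↥T * T'.relIndex H ∣ Nat.card ↥T * Nat.card ↥OG := by
      rw [← h3, h4, h3]; exact card_sup_dvd OG T
    have h6 := hd.trans (Nat.dvd_of_mul_dvd_mul_left Nat.card_pos h5)
    exact (Nat.not_even_iff_odd.2 hOodd) (even_iff_two_dvd.2 h6)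
  have hcjle : Fusion.cj T x ≤ H := by
    intro y hy
    rw [Fusion.mem_cj] at hy
    obtain ⟨k, hk⟩ := Subgroup.mem_zpowers_iff.1 hy
    have hy' : y = (x * t * x⁻¹) ^ k := by rw [conj_zpow, hk]; group
    rw [hy']
    refine zpow_mem ?_ k
    have := H.mul_mem (Subgroup.mem_sup_right (S := T) hxt) (Subgroup.mem_sup_left (T := OG) (Subgroup.mem_zpowers t))
    rwa [inv_mul_cancel_right] at this
  obtain ⟨h, hh, hcj⟩ := (hsyl T le_sup_left hTp rfl).conj_eq
    (hsyl _ hcjle (Fusion.isPGroup_cj hTp x) (Fusion.card_cj T x))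
  obtain ⟨a, ha, o, ho, rfl⟩ := Subgroup.mem_sup_of_normal_right.1 hh
  -- the conjugator may be taken in the core
  set o' : G := a * o * a⁻¹ with ho'
  have ho'O : o' ∈ OG := (inferInstance : OG.Normal).conj_mem o ho a
  have hcj' : Fusion.cj T o' = Fusion.cj T x := by
    calc Fusion.cj T o' = Fusion.cj (Fusion.cj T a) o' := by rw [Fusion.cj_eq_self_of_mem ha]
      _ = Fusion.cj T (o' * a) := Fusion.cj_cj T a o'
      _ = Fusion.cj T (a * o) := by rw [ho']; congr 1; group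
      _ = Fusion.cj T x := hcj
  have hmem : x * t * x⁻¹ ∈ Fusion.cj T o' := by
    rw [hcj']; exact Fusion.conj_mem_cj (Subgroup.mem_zpowers t)
  rw [Fusion.mem_cj] at hmem
  have hd1 : o'⁻¹ * (x * t * x⁻¹) * o' * t⁻¹ ∈ OG := by
    have e : o'⁻¹ * (x * t * x⁻¹) * o' * t⁻¹ = o'⁻¹ * (x * t * x⁻¹ * t⁻¹) * (t * o' * t⁻¹) := by group
    rw [e]
    exact mul_mem (mul_mem (inv_mem ho'O) hxt) ((inferInstance : OG.Normal).conj_mem o' ho'O t)
  have hd2 : o'⁻¹ * (x * t * x⁻¹) * o' * t⁻¹ ∈ Q ⊓ N :=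
    ⟨Subgroup.zpowers_le.2 htQ' (T.mul_mem hmem (T.inv_mem (Subgroup.mem_zpowers t))), Subgroup.map_subtype_le _ hd1⟩
  rw [hdisj, Subgroup.mem_bot, mul_inv_eq_one] at hd2
  have hc : o'⁻¹ * x ∈ N ⊓ Subgroup.centralizer ({t} : Set G) := by
    refine ⟨N.mul_mem (N.inv_mem (Subgroup.map_subtype_le _ ho'O)) hx, Subgroup.mem_centralizer_singleton_iff.2 ?_⟩
    calc o'⁻¹ * x * t = (o'⁻¹ * (x * t * x⁻¹) * o') * (o'⁻¹ * x) := by group
      _ = t * (o'⁻¹ * x) := by rw [hd2]
  rw [← hC] at hc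
  set c := o'⁻¹ * x with hcdef
  have hcq : c * q * c⁻¹ = q := by
    rw [← Subgroup.mem_centralizer_iff.1 hc.2 q hq, mul_inv_cancel_right]
  have e : ⁅x, q⁆ = o' * (q * o'⁻¹ * q⁻¹) := by
    have hx' : x = o' * c := by rw [hcdef]; group
    rw [commutatorElement_def, hx']
    calc o' * c * q * (o' * c)⁻¹ * q⁻¹ = o' * (c * q * c⁻¹) * o'⁻¹ * q⁻¹ := by group
      _ = o' * (q * o'⁻¹ * q⁻¹) := by rw [hcq]; group
  rw [e]
  exact mul_mem ho'O ((inferInstance : OG.Normal).conj_mem _ (inv_mem ho'O) q)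

end Cfsg.Agent.Solv.OddGated.SemiregularTwo
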