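import Cfsg.Agent.Lib.Solv.OddGated.InvolutionComponent
import Cfsg.Agent.Lib.Fusion.PLayerBasics
import Cfsg.Agent.Lib.Fusion.TerminalBasics

/-!
The layer of a core-free group with a standard subgroup, given the solvability of groups of odd
order.
-/

set_option autoImplicit false
set_option linter.style.haveILetI false

open Cfsg Cfsg.Agent.Fusion
open scoped commutatorElement Pointwise

namespace Cfsg.Agent.Solv.OddGated

universe u

variable {G : Type u} [Group G] [Finite G]

theorem qs_even (hFT : OddSolvable.{u}) {J : Type u} [Group J] [Finite J]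
    (h : Cfsg.IsQuasisimple J) : Even (Nat.card J) := by
  refine Nat.not_odd_iff_even.1 fun hodd => ?_
  haveI := h.1
  haveI := qs_nontrivial h
  exact Group.IsPerfect.not_isSolvable (G := J) (hFT J hodd)

theorem pLayer_eq_layer (h0 : Cfsg.pPrimeCore 2 G = ⊥) : Cfsg.pLayer 2 G = Cfsg.layer G := by
  haveI : Fact (Nat.Prime 2) := ⟨Nat.prime_two⟩
  refine le_antisymm (sSup_le fun K hK => component_le_layer ⟨hK.1, ?_⟩) (sSup_le fun K hK => ?_)
  · have hinj : Function.Injective (QuotientGroup.mk' (Cfsg.pPrimeCore 2 G)) := by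
      rw [← MonoidHom.ker_eq_bot_iff, QuotientGroup.ker_mk', h0]
    exact Local.isQuasisimple_congr (K.equivMapOfInjective _ hinj).symm hK.2.1.2
  · obtain ⟨⟨-, h⟩, -⟩ := Terminal.pcompOf_component (p := 2) h0 hK (C := ⊤) le_top
    refine le_sSup ?_
    obtain ⟨h1, h2⟩ := PComp.isPComponent_iff.1 h
    exact PComp.isPComponent_iff.2 ⟨hK.1, h2.congr (Subgroup.subgroupOfEquivOfLe le_top)⟩

variable {A : Subgroup G}

theorem normalizer_of_common_even (hA : Cfsg.IsStandardSubgroup A) {S : Subgroup G}
    (hS : Even (Nat.card S)) (hSQ : S ≤ Subgroup.centralizer (A : Set G)) {g : G}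
    (hg : S ≤ (Subgroup.centralizer (A : Set G)).map (MulAut.conj g).toMonoidHom) :
    g ∈ Subgroup.normalizer (A : Set G) := by
  rw [hA.2.2.2]
  by_contra h
  exact Nat.not_even_iff_odd.2 (hA.2.1.2 g h)
    (even_iff_two_dvd.2 (hS.two_dvd.trans (Subgroup.card_dvd_of_le (le_inf hSQ hg))))

theorem standard_component_centralizer (hA : Cfsg.IsStandardSubgroup A) {t : G} (ht : orderOf t = 2)
    (htA : t ∈ Subgroup.centralizer (A : Set G)) :
    A ≤ Subgroup.centralizer ({t} : Set G) ∧
      Cfsg.IsComponent (A.subgroupOf (Subgroup.centralizer ({t} : Set G))) := by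
  set C := Subgroup.centralizer ({t} : Set G)
  have hAC : A ≤ C := fun a ha =>
    Subgroup.mem_centralizer_singleton_iff.2 (Subgroup.mem_centralizer_iff.1 htA a ha)
  have hCN : C ≤ Subgroup.normalizer (A : Set G) := fun g hg => by
    refine normalizer_of_common_even hA (S := Subgroup.zpowers t)
      (by rw [Nat.card_zpowers, ht]; exact even_two) (Subgroup.zpowers_le.2 htA)
      (Subgroup.zpowers_le.2 ⟨t, htA, ?_⟩)
    show g * t * g⁻¹ = t
    rw [Subgroup.mem_centralizer_singleton_iff.1 hg, mul_inv_cancel_right]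
  exact ⟨hAC, ((Subgroup.normal_subgroupOf_iff_le_normalizer hAC).2 hCN).isSubnormal,
    Local.isQuasisimple_congr (Subgroup.subgroupOfEquivOfLe hAC).symm hA.1⟩

omit [Finite G] in
theorem commute_of_comp {J K : Subgroup G} (hJ : Cfsg.IsComponent J) (hK : Cfsg.IsComponent K)
    (hne : J ≠ K) {a b : G} (ha : a ∈ J) (hb : b ∈ K) : a * b = b * a :=
  commutatorElement_eq_one_iff_mul_comm.1 (Subgroup.mem_bot.1
    ((components_commute hJ hK hne).le (Subgroup.commutator_mem_commutator ha hb)))

/-- A nontrivial even subgroup of `C(A)` centralised by `D` forces `D` to normalise `A`. -/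
theorem le_normalizer_of_centralized (hA : Cfsg.IsStandardSubgroup A) {S D : Subgroup G}
    (hS : Even (Nat.card S)) (hSQ : S ≤ Subgroup.centralizer (A : Set G))
    (hD : ∀ d ∈ D, ∀ s ∈ S, d * s = s * d) : D ≤ Subgroup.normalizer (A : Set G) := fun d hd =>
  normalizer_of_common_even hA hS hSQ fun s hs => ⟨s, hSQ hs, by
    show d * s * d⁻¹ = s
    rw [hD d hd s hs, mul_inv_cancel_right]⟩

theorem center_component_eq_bot (hA : Cfsg.IsStandardSubgroup A) (hO : Cfsg.oddCore G = ⊥)
    {D : Subgroup G} (hD : Cfsg.IsComponent D) (hDN : ¬ D ≤ Subgroup.normalizer (A : Set G))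
    (hcen : ∀ z : D, z ∈ Subgroup.center D → (z : G) ∈ Subgroup.centralizer (A : Set G)) :
    Subgroup.center D = ⊥ := by
  haveI : Fact (Nat.Prime 2) := ⟨Nat.prime_two⟩
  by_contra hne
  have h1 := center_component_le_fitting hD
  rw [Fusion.fitting_eq_pCore (p := 2) hO] at h1
  have hp : IsPGroup 2 ↥((Subgroup.center D).map D.subtype) :=
    (isPGroup_pCore 2 G).to_le h1
  refine hDN (le_normalizer_of_centralized hA (S := (Subgroup.center D).map D.subtype) ?_ ?_ ?_)
  · obtain ⟨n, hn⟩ := IsPGroup.iff_card.1 hp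
    rw [hn]
    refine even_two.pow_of_ne_zero fun h => hne ?_
    rw [h, pow_zero, card_map_subtype] at hn
    exact Subgroup.card_eq_one.1 hn
  · rintro _ ⟨z, hz, rfl⟩
    exact hcen z hz
  · rintro d hd _ ⟨z, hz, rfl⟩
    exact congrArg Subtype.val (Subgroup.mem_center_iff.1 hz ⟨d, hd⟩)

theorem zmod_two_cases : (∀ i : ZMod 2, i = 0 ∨ i = 1) ∧ (0 : ZMod 2) ≠ 1 := by decide

theorem standard_trichotomy (hFT : OddSolvable.{u}) (hA : Cfsg.IsStandardSubgroup A)
    (hO : Cfsg.oddCore G = ⊥) (t : G) (ht : orderOf t = 2)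
    (htA : t ∈ Subgroup.centralizer (A : Set G)) :
    A.Normal ∨ (∃ X : Subgroup G, IsSimpleGroup ↥X ∧ ¬ IsMulCommutative ↥X ∧ Nonempty (↥X ≃* ↥A) ∧
      (∀ a ∈ X, ∀ b ∈ X.map (MulAut.conj t).toMonoidHom, a * b = b * a) ∧
      X ⊓ X.map (MulAut.conj t).toMonoidHom = ⊥ ∧
      X ⊔ X.map (MulAut.conj t).toMonoidHom = Cfsg.layer G ∧
      Subgroup.centralizer (A : Set G) = Subgroup.zpowers t) ∨
    (A ≤ Cfsg.layer G ∧ IsSimpleGroup ↥(Cfsg.layer G) ∧ ¬ IsMulCommutative ↥(Cfsg.layer G)) := by
  haveI : Fact (Nat.Prime 2) := ⟨Nat.prime_two⟩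
  obtain ⟨hAC, hAcomp⟩ := standard_component_centralizer hA ht htA
  set C := Subgroup.centralizer ({t} : Set G) with hC
  obtain ⟨D, hD, hcase⟩ := component_trichotomy hFT (pLayer_eq_layer hO) t ht A hAC hAcomp
  have simple_of_center : ∀ X : Subgroup G, Cfsg.IsQuasisimple X → Subgroup.center X = ⊥ →
      IsSimpleGroup X ∧ ¬ IsMulCommutative X := by
    intro X hX hZ
    haveI := hX.2
    refine ⟨((QuotientGroup.quotientMulEquivOfEq hZ).trans QuotientGroup.quotientBot).symm.isSimpleGroup,
      fun h => qs_center_ne_top hX ?_⟩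
    exact eq_top_iff.2 fun x _ => Subgroup.mem_center_iff.2 fun y => h.is_comm.comm y x
  rcases hcase with heq | ⟨hlt, -⟩ | ⟨hmove, hlay⟩
  · -- `A` is a component
    left
    subst heq
    refine Subgroup.normalizer_eq_top_iff.1 (eq_top_iff.2 fun g _ => mem_normalizer_iff_cj.2 ?_)
    by_contra hne
    exact hA.2.2.1 g hne (components_commute hD (component_conj hD g) (Ne.symm hne))
  · -- `A` lies properly in the component `D`
    right; right
    have hDN : ¬ D ≤ Subgroup.normalizer (A : Set G) := by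
      intro hn
      haveI : (A.subgroupOf D).Normal := (Subgroup.normal_subgroupOf_iff_le_normalizer hlt.le).2 hn
      rcases qs_normal_le_center_or_top hD.2 (A.subgroupOf D) with h1 | h1
      · exact hlt.ne (le_antisymm hlt.le (Subgroup.subgroupOf_eq_top.1 h1))
      · refine qs_not_le_centralizer hA.1 ?_
        rw [Subgroup.commutator_eq_bot_iff_le_centralizer]
        intro a ha
        refine Subgroup.mem_centralizer_iff.2 fun b hb => ?_
        exact (congrArg Subtype.val (Subgroup.mem_center_iff.1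
          (h1 (show (⟨b, hlt.le hb⟩ : D) ∈ A.subgroupOf D from hb)) ⟨a, hlt.le ha⟩)).symm
    have hlayer : Cfsg.layer G = D := by
      refine le_antisymm (sSup_le fun K hK => ?_) (component_le_layer hD)
      by_contra hKD
      have hne : D ≠ K := fun e => hKD (e ▸ le_rfl)
      exact hDN (le_normalizer_of_centralized hA (qs_even hFT hK.2)
        (fun k hk => Subgroup.mem_centralizer_iff.2 fun a ha =>
          commute_of_comp hD hK hne (hlt.le ha) hk)
        (fun d hd k hk => commute_of_comp hD hK hne hd hk))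
    have hZ := center_component_eq_bot hA hO hD hDN fun z hz =>
      Subgroup.mem_centralizer_iff.2 fun a ha =>
        congrArg Subtype.val (Subgroup.mem_center_iff.1 hz ⟨a, hlt.le ha⟩)
    exact ⟨hlayer ▸ hlt.le, hlayer ▸ (simple_of_center D hD.2 hZ).1,
      hlayer ▸ (simple_of_center D hD.2 hZ).2⟩
  · -- a moved component
    right; left
    have hm : CompDiag.Moved 2 t D :=
      ⟨by rw [← ht, pow_orderOf_eq_one], hD, fun h => hmove (mem_normalizer_iff_cj.1 h)⟩
    set D' := D.map (MulAut.conj t).toMonoidHom with hD'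
    have hD'c : Cfsg.IsComponent D' := component_conj hD t
    have hAsup : A ≤ D ⊔ D' := hlay.le.trans ((Subgroup.map_subtype_le _).trans inf_le_left)
    have hAE : A ≤ Cfsg.layer G :=
      hAsup.trans (sup_le (component_le_layer hD) (component_le_layer hD'c))
    have hI := pcompOf_of_component hFT hAC hAcomp
    have hne : ¬ A ≤ Subgroup.centralizer (D : Set G) := by
      intro hc
      have hc' : A ≤ Subgroup.centralizer (D' : Set G) := fun a ha => by
        refine Subgroup.mem_centralizer_iff.2 ?_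
        rintro _ ⟨d, hd, rfl⟩
        have h1 := Subgroup.mem_centralizer_iff.1 (hc ha) d hd
        have h2 : t * a * t⁻¹ = a := by
          rw [Subgroup.mem_centralizer_iff.1 htA a ha |>.symm, mul_inv_cancel_right]
        show t * d * t⁻¹ * a = a * (t * d * t⁻¹)
        conv_lhs => rw [← h2]
        conv_rhs => rw [← h2]
        calc t * d * t⁻¹ * (t * a * t⁻¹) = t * (d * a) * t⁻¹ := by group
          _ = _ := by rw [h1]; group
      refine qs_not_le_centralizer hA.1 ?_
      rw [Subgroup.commutator_eq_bot_iff_le_centralizer]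
      intro a ha
      have hsup : D ⊔ D' ≤ Subgroup.centralizer ({a} : Set G) := sup_le
        (fun d hd => Subgroup.mem_centralizer_singleton_iff.2
          (Subgroup.mem_centralizer_iff.1 (hc ha) d hd))
        (fun d hd => Subgroup.mem_centralizer_singleton_iff.2
          (Subgroup.mem_centralizer_iff.1 (hc' ha) d hd))
      exact Subgroup.mem_centralizer_iff.2 fun b hb =>
        Subgroup.mem_centralizer_singleton_iff.1 (hsup (hAsup hb))
    have hAd : A ≤ hm.diag.range := hm.pcomp_le_diag hI hAE hne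
    have hAeq : A = hm.diag.range := by
      have hdq : Cfsg.IsQuasisimple hm.diag.range := qs_map hD.2 hm.diag hm.diag_ker_le
      have hdC : hm.diag.range ≤ C := by rintro _ ⟨x, rfl⟩; exact hm.diag_fixed x
      have hsn : (A.subgroupOf hm.diag.range).IsSubnormal :=
        hAcomp.1.comap (Subgroup.inclusion hdC)
      refine le_antisymm hAd (Subgroup.subgroupOf_eq_top.1 ((qs_subnormal hdq hsn).resolve_right fun hc => ?_))
      refine qs_not_le_centralizer hA.1 ?_
      rw [Subgroup.commutator_eq_bot_iff_le_centralizer]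
      intro a ha
      refine Subgroup.mem_centralizer_iff.2 fun b hb => ?_
      exact (congrArg Subtype.val (Subgroup.mem_center_iff.1
        (hc (show (⟨b, hAd hb⟩ : hm.diag.range) ∈ A.subgroupOf hm.diag.range from hb)) ⟨a, hAd ha⟩)).symm
    have hact : ∀ x y : D, hm.diag x * y * (hm.diag x)⁻¹ = x * y * (x : G)⁻¹ := by
      intro x y
      have := hm.diag_act (0 : ZMod 2) x y
      rw [CompDiag.phi_zero, CompDiag.phi_zero] at this
      exact this
    have hDN : ¬ D ≤ Subgroup.normalizer (A : Set G) := by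
      intro hn
      have hDA : D ≤ A := by
        rw [← qs_self_commutator hD.2, Subgroup.commutator_le]
        intro x hx y hy
        have hy' : hm.diag ⟨y, hy⟩ ∈ A := hAeq.ge ⟨_, rfl⟩
        have h1 : x * hm.diag ⟨y, hy⟩ * x⁻¹ * (hm.diag ⟨y, hy⟩)⁻¹ ∈ A :=
          mul_mem ((Subgroup.mem_normalizer_iff.1 (hn hx) _).1 hy') (inv_mem hy')
        have h2 := hact ⟨y, hy⟩ ⟨x⁻¹, inv_mem hx⟩
        rw [show x * hm.diag ⟨y, hy⟩ * x⁻¹ * (hm.diag ⟨y, hy⟩)⁻¹ =
          x * (hm.diag ⟨y, hy⟩ * x⁻¹ * (hm.diag ⟨y, hy⟩)⁻¹) by group, h2] at h1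
        simpa [commutatorElement_def, mul_assoc] using h1
      exact hm.move (mem_normalizer_of_cj_le (by
        rintro _ ⟨d, hd, rfl⟩
        show t * d * t⁻¹ ∈ D
        rw [← Subgroup.mem_centralizer_iff.1 htA d (hDA hd), mul_inv_cancel_right]
        exact hd))
    have hDD' : D ≠ D' := fun e => hmove e.symm
    have hsupc : ∀ g : G, (∀ d ∈ D, d * g = g * d) → (∀ d ∈ D', d * g = g * d) →
        g ∈ Subgroup.centralizer (A : Set G) := by
      intro g h1 h2
      have hle : D ⊔ D' ≤ Subgroup.centralizer ({g} : Set G) := sup_le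
        (fun d hd => Subgroup.mem_centralizer_singleton_iff.2 (h1 d hd))
        (fun d hd => Subgroup.mem_centralizer_singleton_iff.2 (h2 d hd))
      exact Subgroup.mem_centralizer_iff.2 fun a ha =>
        Subgroup.mem_centralizer_singleton_iff.1 (hle (hAsup ha))
    have hlayer : Cfsg.layer G = D ⊔ D' := by
      refine le_antisymm (sSup_le fun K hK => ?_) (sup_le (component_le_layer hD) (component_le_layer hD'c))
      by_contra hKD
      have hne1 : D ≠ K := fun e => hKD (e ▸ le_sup_left)
      have hne2 : D' ≠ K := fun e => hKD (e ▸ le_sup_right)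
      exact hDN (le_normalizer_of_centralized hA (qs_even hFT hK.2)
        (fun k hk => hsupc k (fun d hd => commute_of_comp hD hK hne1 hd hk)
          (fun d hd => commute_of_comp hD'c hK hne2 hd hk))
        (fun d hd k hk => commute_of_comp hD hK hne1 hd hk))
    have hZ := center_component_eq_bot hA hO hD hDN fun z hz => hsupc z
      (fun d hd => congrArg Subtype.val (Subgroup.mem_center_iff.1 hz ⟨d, hd⟩))
      (fun d hd => (commute_of_comp hD hD'c hDD' z.2 hd).symm)
    have hinj : Function.Injective hm.diag :=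
      (MonoidHom.ker_eq_bot_iff _).1 (le_bot_iff.1 (hZ ▸ hm.diag_ker_le))
    refine ⟨D, (simple_of_center D hD.2 hZ).1, (simple_of_center D hD.2 hZ).2,
      ⟨(MonoidHom.ofInjective hinj).trans (MulEquiv.subgroupCongr hAeq.symm)⟩,
      fun a ha b hb => commute_of_comp hD hD'c hDD' ha hb, ?_, hlayer.symm, ?_⟩
    · rw [eq_bot_iff]
      intro z hz
      have : (⟨z, hz.1⟩ : D) ∈ Subgroup.center D := Subgroup.mem_center_iff.2 fun d =>
        Subtype.ext (commute_of_comp hD hD'c hDD' d.2 hz.2)
      rw [hZ, Subgroup.mem_bot] at this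
      exact Subgroup.mem_bot.2 (congrArg Subtype.val this)
    refine le_antisymm (fun q hq => ?_) (Subgroup.zpowers_le.2 htA)
    -- `C(D ⊔ D')` is trivial
    set Q := Subgroup.centralizer (Cfsg.layer G : Set G) with hQ
    haveI : (Cfsg.layer G).Normal := Local.layer_normal
    haveI hQn : Q.Normal := centralizer_normal_of_normal _
    have hQbot : Q = ⊥ := by
      have hQA : Q ≤ Subgroup.centralizer (A : Set G) := Subgroup.centralizer_le hAE
      by_contra hQne
      rcases Nat.even_or_odd (Nat.card Q) with he | ho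
      · refine hDN fun d _ => normalizer_of_common_even hA he hQA fun x hx => ?_
        refine ⟨d⁻¹ * x * d, hQA ?_, by simp [mul_assoc]⟩
        simpa using hQn.conj_mem x hx d⁻¹
      · refine hQne (le_bot_iff.1 ?_)
        rw [← hO]
        exact le_pPrimeCore (Nat.coprime_two_right.2 ho)
    have hfix : ∀ r : G, r ∈ Subgroup.centralizer (A : Set G) → r ∈ Subgroup.normalizer (D : Set G) →
        r = 1 := by
      intro r hr hrD
      have h1 : ∀ x ∈ D, r * x * r⁻¹ = x := by
        intro x hx
        have hx' : r * x * r⁻¹ ∈ D := (Subgroup.mem_normalizer_iff.1 hrD x).1 hx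
        have hc : (⟨_, hx'⟩ : D)⁻¹ * ⟨x, hx⟩ ∈ Subgroup.center D := by
          refine Subgroup.mem_center_iff.2 fun y => Subtype.ext ?_
          have key : ∀ z ∈ D, r * x * r⁻¹ * z * (r * x * r⁻¹)⁻¹ = x * z * x⁻¹ := by
            intro z hz
            have hz' : r⁻¹ * z * r ∈ D := by
              simpa [mul_assoc] using (Subgroup.mem_normalizer_iff''.1 hrD z).1 hz
            have hcd := Subgroup.mem_centralizer_iff.1 hr _ (hAeq.ge ⟨⟨x, hx⟩, rfl⟩)
            have e1 := hact ⟨x, hx⟩ ⟨_, hz'⟩
            have e2 := hact ⟨x, hx⟩ ⟨z, hz⟩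
            simp only at e1 e2
            calc r * x * r⁻¹ * z * (r * x * r⁻¹)⁻¹
                = r * (x * (r⁻¹ * z * r) * x⁻¹) * r⁻¹ := by group
              _ = (r * hm.diag ⟨x, hx⟩) * (r⁻¹ * z * r) * (r * hm.diag ⟨x, hx⟩)⁻¹ := by
                  rw [← e1]; group
              _ = (hm.diag ⟨x, hx⟩ * r) * (r⁻¹ * z * r) * (hm.diag ⟨x, hx⟩ * r)⁻¹ := by rw [hcd]
              _ = hm.diag ⟨x, hx⟩ * z * (hm.diag ⟨x, hx⟩)⁻¹ := by group
              _ = _ := e2
          show (y : G) * ((r * x * r⁻¹)⁻¹ * x) = (r * x * r⁻¹)⁻¹ * x * y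
          have h3 := key y y.2
          set w := r * x * r⁻¹
          calc (y : G) * (w⁻¹ * x) = w⁻¹ * (w * y * w⁻¹) * x := by group
            _ = w⁻¹ * (x * y * x⁻¹) * x := by rw [h3]
            _ = w⁻¹ * x * y := by group
        rw [hZ, Subgroup.mem_bot, inv_mul_eq_one] at hc
        exact congrArg Subtype.val hc
      have h2 : ∀ d ∈ D', r * d * r⁻¹ = d := by
        rintro _ ⟨x, hx, rfl⟩
        have hcd := Subgroup.mem_centralizer_iff.1 hr _ (hAeq.ge ⟨⟨x, hx⟩, rfl⟩)
        have e : hm.diag ⟨x, hx⟩ = x * (t * x * t⁻¹) := by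
          rw [CompDiag.Moved.diag_apply]
          have hf : (fun _ : ZMod 2 => (⟨x, hx⟩ : D)) =
              Pi.mulSingle 0 ⟨x, hx⟩ * Pi.mulSingle 1 ⟨x, hx⟩ := by
            funext i
            rcases zmod_two_cases.1 i with rfl | rfl
            · rw [Pi.mul_apply, Pi.mulSingle_eq_same,
                Pi.mulSingle_eq_of_ne zmod_two_cases.2, mul_one]
            · rw [Pi.mul_apply, Pi.mulSingle_eq_same,
                Pi.mulSingle_eq_of_ne zmod_two_cases.2.symm, one_mul]
          rw [hf, map_mul, hm.prodHom_single, hm.prodHom_single, CompDiag.phi_zero,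
            CompDiag.phi_apply, show (1 : ZMod 2).val = 1 from rfl, pow_one]
        show r * (t * x * t⁻¹) * r⁻¹ = t * x * t⁻¹
        have h3 : r * (x * (t * x * t⁻¹)) * r⁻¹ = x * (t * x * t⁻¹) := by
          rw [← e, ← hcd, mul_inv_cancel_right]
        calc r * (t * x * t⁻¹) * r⁻¹ = (r * x * r⁻¹)⁻¹ * (r * (x * (t * x * t⁻¹)) * r⁻¹) := by group
          _ = _ := by rw [h1 x hx, h3, inv_mul_cancel_left]
      have hrQ : r ∈ Q := by
        rw [hQ, hlayer, Subgroup.mem_centralizer_iff]
        intro g hg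
        have hle : D ⊔ D' ≤ Subgroup.centralizer ({r} : Set G) := sup_le
          (fun d hd => Subgroup.mem_centralizer_singleton_iff.2
            (mul_inv_eq_iff_eq_mul.1 (h1 d hd)).symm)
          (fun d hd => Subgroup.mem_centralizer_singleton_iff.2
            (mul_inv_eq_iff_eq_mul.1 (h2 d hd)).symm)
        exact Subgroup.mem_centralizer_singleton_iff.1 (hle hg)
      exact Subgroup.mem_bot.1 (hQbot.le hrQ)
    obtain ⟨k, hk⟩ := hm.perm (n := q) (hAeq ▸ hq)
    have := hfix _ (mul_mem (inv_mem (pow_mem htA k)) hq) hk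
    rw [inv_mul_eq_one] at this
    exact this ▸ Subgroup.npow_mem_zpowers t k

end Cfsg.Agent.Solv.OddGated
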