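import Cfsg.Agent.Lib.Fusion.Alperin
import Cfsg.Agent.Lib.Fusion.NPC
import Cfsg.Agent.Lib.Solv.Parts
import Cfsg.Agent.Lib.Solv.Basic

/-!
Automorphisms fixing a Sylow 2-subgroup pointwise: commutators of such automorphisms lift fusion
in the Sylow subgroup to fixed elements, and fix the first coordinate of fused elements.
-/

set_option autoImplicit false
set_option linter.style.haveILetI false

open scoped commutatorElement

namespace Cfsg.Agent.Solv.OddGated.Fixer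

open Cfsg.Agent.Fusion

universe u

variable {G : Type u} [Group G] [Finite G]

/-- The odd part of a group with a central Sylow 2-subgroup. -/
theorem central_sylow {C : Subgroup G} {Z : Subgroup G} (hZ : SylIn 2 Z C)
    (hcen : ∀ z ∈ Z, ∀ x ∈ C, z * x = x * z) :
    (∀ x : C, x ∈ Cfsg.pResidual 2 C ↔ (orderOf x).Coprime 2) ∧
      ∀ x : C, ∃ z o : C, x = z * o ∧ (z : G) ∈ Z ∧ o ∈ Cfsg.pResidual 2 C := by
  haveI : Fact (Nat.Prime 2) := ⟨Nat.prime_two⟩
  have h2 : ∀ y : C, (∃ k, orderOf y = 2 ^ k) → (y : G) ∈ Z := by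
    rintro y ⟨k, hk⟩
    obtain ⟨c, hc, hle⟩ := hZ.conj_le
      (Solv.isPGroup_zpowers (u := (y : G)) (k := k) (by rw [Subgroup.orderOf_coe, hk]))
      (Subgroup.zpowers_le.2 y.2)
    have h1 : c * y * c⁻¹ ∈ Z := hle (conj_mem_cj (Subgroup.mem_zpowers (y : G)))
    have h3 := hcen _ h1 c hc
    have h4 : (y : G) = c * y * c⁻¹ := by
      calc (y : G) = c⁻¹ * ((c * y * c⁻¹) * c) := by group
        _ = c⁻¹ * (c * (c * y * c⁻¹)) := by rw [h3]
        _ = _ := by group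
    rw [h4]; exact h1
  have hnpc : Cfsg.HasNormalPComplement 2 C := by
    obtain ⟨P⟩ : Nonempty (Sylow 2 C) := inferInstance
    refine hnpc_of_centralize (sylIn_top P) fun Q hQ g _ _ => ?_
    refine Subgroup.mem_centralizer_iff.2 fun q hq => Subtype.ext ?_
    obtain ⟨k, hk⟩ := IsPGroup.iff_orderOf.1 P.isPGroup' ⟨q, hQ hq⟩
    exact hcen q (h2 q ⟨k, by rw [← hk]; simp⟩) g g.2
  have hco := hnpc_iff.1 hnpc
  refine ⟨fun x => ⟨fun hx => ?_, fun hx => Subgroup.subset_closure hx⟩, fun x => ?_⟩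
  · refine hco.coprime_dvd_left ?_
    rw [← Subgroup.orderOf_mk x hx]
    exact orderOf_dvd_natCard _
  · obtain ⟨z, o, -, -, he, hk, ho⟩ := Solv.exists_ppart 2 x
    exact ⟨z, o, he.symm, h2 z hk, Subgroup.subset_closure ho⟩

variable {S : Subgroup G} {𝒞 : Subgroup (MulAut G)}

omit [Finite G] in
theorem map_centralizer_mem (φ : MulAut G) {U : Subgroup G} (hfix : ∀ a ∈ U, φ a = a) {x : G}
    (hx : x ∈ Subgroup.centralizer (U : Set G)) : φ x ∈ Subgroup.centralizer (U : Set G) := by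
  refine Subgroup.mem_centralizer_iff.2 fun a ha => ?_
  rw [← hfix a ha, ← map_mul, ← map_mul, Subgroup.mem_centralizer_iff.1 hx a ha]

omit [Finite G] in
theorem discrepancy_mem (φ : MulAut G) {U : Subgroup G} (hfix : ∀ a ∈ U, φ a = a) {n : G}
    (hn : n ∈ Subgroup.normalizer (U : Set G)) :
    n⁻¹ * φ n ∈ Subgroup.centralizer (U : Set G) := by
  refine Subgroup.mem_centralizer_iff.2 fun a ha => ?_
  have hb : n * a * n⁻¹ ∈ U := (Subgroup.mem_normalizer_iff.1 hn a).1 ha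
  have h1 := hfix _ hb
  rw [map_mul, map_mul, map_inv, hfix a ha] at h1
  calc a * (n⁻¹ * φ n) = n⁻¹ * (n * a * n⁻¹) * φ n := by group
    _ = n⁻¹ * (φ n * a * (φ n)⁻¹) * φ n := by rw [h1]
    _ = n⁻¹ * φ n * a := by group

/-- A commutator automorphism moves a normalizing element by an element of odd order. -/
theorem discrepancy_odd (hfix : ∀ a ∈ 𝒞, ∀ s ∈ S, (a : MulAut G) s = s) {U : Subgroup G} (hUS : U ≤ S)
    (hZ : SylIn 2 (S ⊓ Subgroup.centralizer (U : Set G)) (Subgroup.centralizer (U : Set G)))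
    (hsmall : S ⊓ Subgroup.centralizer (U : Set G) ≤ U) {φ : 𝒞}
    (hφ : φ ∈ ⁅(⊤ : Subgroup 𝒞), (⊤ : Subgroup 𝒞)⁆) {n : G}
    (hn : n ∈ Subgroup.normalizer (U : Set G)) :
    (orderOf (n⁻¹ * (φ : MulAut G) n)).Coprime 2 := by
  set C := Subgroup.centralizer (U : Set G) with hC
  have hcen : ∀ z ∈ S ⊓ C, ∀ x ∈ C, z * x = x * z := fun z hz x hx =>
    Subgroup.mem_centralizer_iff.1 hx z (hsmall hz)
  obtain ⟨hodd, hsplit⟩ := central_sylow hZ hcen
  set R := Cfsg.pResidual 2 C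
  set π := QuotientGroup.mk' R with hπ
  have hfixU : ∀ a ∈ 𝒞, ∀ x ∈ U, (a : MulAut G) x = x := fun a ha x hx => hfix a ha x (hUS hx)
  have hinv : ∀ (a : 𝒞) (y : C),
      π ⟨(a : MulAut G) (y : G), map_centralizer_mem _ (hfixU a a.2) y.2⟩ = π y := by
    intro a y
    obtain ⟨z, o, rfl, hz, ho⟩ := hsplit y
    have h1 : (⟨(a : MulAut G) (o : G), map_centralizer_mem _ (hfixU a a.2) o.2⟩ : C) ∈ R := by
      rw [hodd, ← Subgroup.orderOf_coe]
      show (orderOf ((a : MulAut G) (o : G))).Coprime 2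
      rw [MulEquiv.orderOf_eq, Subgroup.orderOf_coe]
      exact (hodd o).1 ho
    have e : (⟨(a : MulAut G) ((z * o : C) : G), map_centralizer_mem _ (hfixU a a.2) (z * o).2⟩ : C) =
        z * ⟨(a : MulAut G) (o : G), map_centralizer_mem _ (hfixU a a.2) o.2⟩ := by
      refine Subtype.ext ?_
      show (a : MulAut G) ((z : G) * o) = z * (a : MulAut G) o
      rw [map_mul, hfix a a.2 z hz.1]
    have ho1 : π o = 1 := (QuotientGroup.eq_one_iff o).2 ho
    have ho2 : π ⟨(a : MulAut G) (o : G), map_centralizer_mem _ (hfixU a a.2) o.2⟩ = 1 :=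
      (QuotientGroup.eq_one_iff _).2 h1
    rw [e, map_mul, map_mul, ho1, ho2]
  have hcomm : ∀ a b : C ⧸ R, a * b = b * a := by
    intro a b
    obtain ⟨x, rfl⟩ := QuotientGroup.mk'_surjective R a
    obtain ⟨y, rfl⟩ := QuotientGroup.mk'_surjective R b
    obtain ⟨z, o, rfl, hz, ho⟩ := hsplit x
    have ho1 : π o = 1 := (QuotientGroup.eq_one_iff o).2 ho
    rw [map_mul, ho1, mul_one, ← map_mul, ← map_mul]
    exact congrArg π (Subtype.ext (hcen z hz y y.2))
  let γ : 𝒞 →* C ⧸ R :=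
    { toFun := fun a => π ⟨n⁻¹ * (a : MulAut G) n, discrepancy_mem _ (hfixU a a.2) hn⟩
      map_one' := by
        rw [← map_one π]; congr 1
        exact Subtype.ext (by show n⁻¹ * n = 1; group)
      map_mul' := fun a b => by
        rw [← hinv a ⟨n⁻¹ * (b : MulAut G) n, discrepancy_mem _ (hfixU b b.2) hn⟩, ← map_mul]
        congr 1
        refine Subtype.ext ?_
        show n⁻¹ * (a : MulAut G) ((b : MulAut G) n) =
          n⁻¹ * (a : MulAut G) n * (a : MulAut G) (n⁻¹ * (b : MulAut G) n)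
        rw [map_mul, map_inv]; group }
  have h1 : γ φ = 1 := by
    have hle : ⁅(⊤ : Subgroup 𝒞), (⊤ : Subgroup 𝒞)⁆ ≤ γ.ker := Subgroup.commutator_le.2
      fun a _ b _ => by
        rw [MonoidHom.mem_ker, map_commutatorElement]
        exact commutatorElement_eq_one_iff_mul_comm.2 (hcomm _ _)
    exact hle hφ
  have h2 : (⟨n⁻¹ * (φ : MulAut G) n, discrepancy_mem _ (hfixU φ φ.2) hn⟩ : C) ∈ R :=
    (QuotientGroup.eq_one_iff _).1 h1
  rw [hodd, ← Subgroup.orderOf_coe] at h2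
  exact h2

/-- The fixed subgroup. -/
def fixed (φ : MulAut G) : Subgroup G := MonoidHom.eqLocus φ.toMonoidHom (MonoidHom.id G)

omit [Finite G] in
theorem mem_fixed {φ : MulAut G} {g : G} : g ∈ fixed φ ↔ φ g = g := Iff.rfl

/-- A step that a fixed element realises. -/
def Step (φ : MulAut G) (T : Subgroup G) (x : G) : Prop :=
  x ∈ Subgroup.normalizer (T : Set G) ∧
    ∃ x' : G, φ x' = x' ∧ ∀ a ∈ T, x'⁻¹ * a * x' = x⁻¹ * a * x

omit [Finite G] in
theorem step_inv (φ : MulAut G) (T : Subgroup G) (x : G) (h : Step φ T x) :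
    x ∈ Subgroup.normalizer (T : Set G) ∧ Step φ T x⁻¹ := by
  obtain ⟨hx, x', hx', he⟩ := h
  refine ⟨hx, inv_mem hx, x'⁻¹, by rw [map_inv, hx'], fun a ha => ?_⟩
  have hb : x * a * x⁻¹ ∈ T := (Subgroup.mem_normalizer_iff.1 hx a).1 ha
  have h1 := he _ hb
  rw [show x⁻¹ * (x * a * x⁻¹) * x = a by group] at h1
  rw [inv_inv, inv_inv]
  nth_rw 1 [← h1]
  group

omit [Finite G] in
theorem realise_chain {φ : MulAut G} {A : Set G} {g : G} (h : Chain (Step φ) A g) :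
    ∃ g' : G, φ g' = g' ∧ ∀ a ∈ A, g'⁻¹ * a * g' = g⁻¹ * a * g := by
  induction h with
  | nil A => exact ⟨1, map_one _, fun a _ => rfl⟩
  | @cons A g T x hx hT _ ih =>
    obtain ⟨-, x', hx', he⟩ := hx
    obtain ⟨g', hg', he'⟩ := ih
    refine ⟨x' * g', by rw [map_mul, hx', hg'], fun a ha => ?_⟩
    calc (x' * g')⁻¹ * a * (x' * g') = g'⁻¹ * (x'⁻¹ * a * x') * g' := by group
      _ = g⁻¹ * (x⁻¹ * a * x) * g := by rw [he a (hT ha), he' _ ⟨a, ha, rfl⟩]
      _ = _ := by group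

/-- Fusion in `S` is realised by fixed elements. -/
theorem realise (hS : SylIn 2 S ⊤) (hfix : ∀ a ∈ 𝒞, ∀ s ∈ S, (a : MulAut G) s = s) {φ : 𝒞}
    (hφ : φ ∈ ⁅(⊤ : Subgroup 𝒞), (⊤ : Subgroup 𝒞)⁆) (hφ2 : φ * φ = 1) {A : Set G} {g : G}
    (hA : A ⊆ S) (hAg : rcj g A ⊆ S) :
    ∃ g' : G, (φ : MulAut G) g' = g' ∧ ∀ a ∈ A, g'⁻¹ * a * g' = g⁻¹ * a * g := by
  haveI : Fact (Nat.Prime 2) := ⟨Nat.prime_two⟩
  refine realise_chain (chain_of_local hS (step_inv _) (fun X hX => ?_) hA hAg)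
  obtain ⟨c, hcS, hsyl⟩ := exists_extremal_conj hS hX
  refine ⟨cj X c, c, rfl, hcS, hsyl, fun n hn bigger => Chain.single ⟨hn, ?_⟩ subset_rfl⟩
  set U := cj X c
  set C := Subgroup.centralizer (U : Set G) with hC
  have hCN : C ≤ Subgroup.normalizer (U : Set G) := Subgroup.centralizer_le_normalizer _
  have hNC : Subgroup.normalizer (U : Set G) ≤ Subgroup.normalizer (C : Set G) := fun m hm => by
    rw [mem_normalizer_iff_cj, hC, cj_centralizer, cj_eq_self hm]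
  have hZ : SylIn 2 (S ⊓ C) C := by
    have h := hsyl.inf_normal hCN hNC
    rwa [inf_assoc, inf_eq_right.2 hCN] at h
  by_cases hsmall : S ⊓ C ≤ U
  · have hodd := discrepancy_odd hfix hcS hZ hsmall hφ hn
    set o := n⁻¹ * (φ : MulAut G) n with ho
    have hoo : o * (φ : MulAut G) o = 1 := by
      have h1 : (φ : MulAut G) ((φ : MulAut G) n) = n := by
        have := congrArg (fun a : 𝒞 => (a : MulAut G) n) hφ2
        exact this
      rw [ho, map_mul, map_inv, h1]; group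
    have hφo : (φ : MulAut G) o = o⁻¹ := (inv_eq_of_mul_eq_one_right hoo).symm
    obtain ⟨k, hk⟩ : Odd (orderOf o) := Nat.coprime_two_right.1 hodd
    refine ⟨n * o ^ (k + 1), ?_, fun a ha => ?_⟩
    · have h1 : (φ : MulAut G) n = n * o := by rw [ho]; group
      rw [map_mul, map_pow, h1, hφo, mul_assoc, inv_pow]
      congr 1
      rw [mul_inv_eq_iff_eq_mul, ← pow_add, show k + 1 + (k + 1) = orderOf o + 1 by omega, pow_succ,
        pow_orderOf_eq_one, one_mul]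
    · have h1 : n⁻¹ * a * n ∈ U := by
        simpa [mul_assoc] using (Subgroup.mem_normalizer_iff''.1 hn a).1 ha
      have h2 : n⁻¹ * a * n * o ^ (k + 1) = o ^ (k + 1) * (n⁻¹ * a * n) :=
        Subgroup.mem_centralizer_iff.1 (pow_mem
          (discrepancy_mem _ (fun x hx => hfix φ φ.2 x (hcS hx)) hn) (k + 1)) _ h1
      calc (n * o ^ (k + 1))⁻¹ * a * (n * o ^ (k + 1))
          = (o ^ (k + 1))⁻¹ * (n⁻¹ * a * n * o ^ (k + 1)) := by group
        _ = _ := by rw [h2, inv_mul_cancel_left]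
  · obtain ⟨u, hu, hm⟩ := frattini_conj hZ hNC hn
    have hmU : u * n ∈ Subgroup.normalizer (U : Set G) := mul_mem (hCN hu) hn
    set T := U ⊔ (S ⊓ C)
    have hlt : Nat.card X < Nat.card T := by
      rw [← card_cj X c]
      by_contra hcon
      refine hsmall (le_sup_right.trans_eq
        (Subgroup.eq_of_le_of_card_ge (le_sup_left : U ≤ T) ?_).symm)
      exact le_of_not_gt hcon
    have hTm : cj T (u * n)⁻¹ = T := by
      rw [cj_sup, cj_eq_self (inv_mem hmU), cj_eq_self (inv_mem hm)]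
    obtain ⟨m', hm', he⟩ := realise_chain
      (bigger T (u * n) hlt (sup_le hcS inf_le_left) (by rw [hTm]; exact sup_le hcS inf_le_left))
    refine ⟨m', hm', fun a ha => ?_⟩
    rw [he a (Subgroup.mem_sup_left ha)]
    have h1 : a * u = u * a := Subgroup.mem_centralizer_iff.1 hu a ha
    calc (u * n)⁻¹ * a * (u * n) = n⁻¹ * (u⁻¹ * (a * u)) * n := by group
      _ = _ := by rw [h1, inv_mul_cancel_left]

/-- An element of `S` of the form `g * φ(g)⁻¹` is trivial. -/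
theorem shift_eq_one (hS : SylIn 2 S ⊤) (hfix : ∀ a ∈ 𝒞, ∀ s ∈ S, (a : MulAut G) s = s) {φ : 𝒞}
    (hφ : φ ∈ ⁅(⊤ : Subgroup 𝒞), (⊤ : Subgroup 𝒞)⁆) (hφ2 : φ * φ = 1) {g : G}
    (hgS : g * ((φ : MulAut G) g)⁻¹ ∈ S) : (φ : MulAut G) g = g := by
  haveI : Fact (Nat.Prime 2) := ⟨Nat.prime_two⟩
  obtain ⟨f, hf⟩ : ∃ f : MulAut G, f = (φ : MulAut G) := ⟨_, rfl⟩
  rw [← hf] at hgS ⊢
  have hfS : ∀ s ∈ S, f s = s := fun s hs => hf ▸ hfix φ φ.2 s hs
  have hff : ∀ y, f (f y) = y := fun y => by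
    rw [hf]; exact congrArg (fun a : 𝒞 => (a : MulAut G) y) hφ2
  set s₀ := g * (f g)⁻¹ with hs₀
  by_contra hne
  have hs₀ne : s₀ ≠ 1 := fun h => hne (mul_inv_eq_one.1 h).symm
  have hs₀2 : s₀ * s₀ = 1 := by
    have h1 := hfS s₀ hgS
    rw [hs₀, map_mul, map_inv, hff] at h1
    calc s₀ * s₀ = (f g * g⁻¹) * (g * (f g)⁻¹) := by rw [h1]
      _ = 1 := by group
  -- pass to an extremal conjugate
  obtain ⟨c, hcS, hsyl⟩ := exists_extremal_conj hS
    (Subgroup.zpowers_le.2 hgS : Subgroup.zpowers s₀ ≤ S)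
  have hsc : c * s₀ * c⁻¹ ∈ cj (Subgroup.zpowers s₀) c := conj_mem_cj (Subgroup.mem_zpowers s₀)
  obtain ⟨g₁, hg₁, he₁⟩ := realise hS hfix hφ hφ2 (A := {s₀}) (g := c⁻¹)
    (Set.singleton_subset_iff.2 hgS) (by
      rintro _ ⟨_, rfl, rfl⟩
      show c⁻¹⁻¹ * s₀ * c⁻¹ ∈ S
      rw [inv_inv]; exact hcS hsc)
  rw [← hf] at hg₁
  set s := c * s₀ * c⁻¹ with hs
  set g' := g₁⁻¹ * g * g₁
  have hgs : g' * (f g')⁻¹ = s := by
    have e := he₁ s₀ rfl
    rw [inv_inv] at e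
    have e2 : f g' = g₁⁻¹ * f g * g₁ := by simp [g', hg₁]
    rw [e2, hs, ← e, hs₀]
    simp only [g']
    group
  have hsne : s ≠ 1 := fun h => hs₀ne (by rwa [hs, conj_eq_one_iff] at h)
  have hs2 : s * s = 1 := by
    calc s * s = c * (s₀ * s₀) * c⁻¹ := by rw [hs]; group
      _ = 1 := by rw [hs₀2]; group
  have hU : cj (Subgroup.zpowers s₀) c = Subgroup.zpowers s := by
    rw [cj, MonoidHom.map_zpowers]; rfl
  rw [hU] at hsyl hcS
  set N := Subgroup.normalizer (Subgroup.zpowers s : Set G)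
  have hsS : s ∈ S := hcS (Subgroup.mem_zpowers s)
  have hNs : ∀ n ∈ N, n * s = s * n := by
    intro n hn
    have h1 := (Subgroup.mem_normalizer_iff.1 hn s).1 (Subgroup.mem_zpowers s)
    obtain ⟨j, hj⟩ := Subgroup.mem_zpowers_iff.1 h1
    have ho : orderOf s = 2 := orderOf_eq_prime (by rw [pow_two, hs2]) hsne
    rw [← zpow_mod_orderOf, ho] at hj
    rcases Int.emod_two_eq_zero_or_one j with e | e <;> rw [Nat.cast_ofNat, e] at hj
    · rw [zpow_zero, eq_comm, conj_eq_one_iff] at hj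
      exact absurd hj hsne
    · rw [zpow_one, eq_mul_inv_iff_mul_eq] at hj
      exact hj.symm
  set R₀ := S ⊓ N
  have hfg : f g' = s⁻¹ * g' := by rw [← hgs]; group
  have hRF : ∀ r ∈ R₀, f (g'⁻¹ * r * g') = g'⁻¹ * r * g' := by
    intro r hr
    rw [map_mul, map_mul, map_inv, hfg, hfS r hr.1]
    calc (s⁻¹ * g')⁻¹ * r * (s⁻¹ * g') = g'⁻¹ * (s * r) * s⁻¹ * g' := by group
      _ = g'⁻¹ * (r * s) * s⁻¹ * g' := by rw [hNs r hr.2]
      _ = _ := by group
  have hSF : S ≤ fixed f := fun x hx => hfS x hx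
  have hle : cj R₀ g'⁻¹ ≤ fixed f := by
    rintro _ ⟨r, hr, rfl⟩
    show f (g'⁻¹ * r * g'⁻¹⁻¹) = _
    rw [inv_inv, hRF r hr]
    show g'⁻¹ * r * g' = g'⁻¹ * r * g'⁻¹⁻¹
    rw [inv_inv]
  obtain ⟨w, hw, hwle⟩ := (hS.mono hSF le_top).conj_le
    (isPGroup_cj hS.isPGroup.to_inf_left g'⁻¹) hle
  rw [cj_cj] at hwle
  obtain ⟨x', hx', hex⟩ := realise hS hfix hφ hφ2 (A := (R₀ : Set G)) (g := g' * w⁻¹)
    (fun r hr => (hr : r ∈ R₀).1) (by
      rw [rcj_coe, mul_inv_rev, inv_inv]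
      exact hwle)
  rw [← hf] at hx'
  set u := g' * w⁻¹ * x'⁻¹
  have huC : u ∈ Subgroup.centralizer (R₀ : Set G) := by
    refine Subgroup.mem_centralizer_iff.2 fun r hr => ?_
    have h1 := hex r hr
    calc r * u = u * (x' * ((g' * w⁻¹)⁻¹ * r * (g' * w⁻¹)) * x'⁻¹) := by simp only [u]; group
      _ = u * r := by rw [← h1]; group
  have hus : u * (f u)⁻¹ = s := by
    have e2 : f u = f g' * w⁻¹ * x'⁻¹ := by simp [u, hx', mem_fixed.1 hw]
    rw [← hgs, e2]
    simp only [u]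
    group
  set C := Subgroup.centralizer (R₀ : Set G)
  have hsR : s ∈ R₀ := ⟨hsS, Subgroup.le_normalizer (Subgroup.mem_zpowers s)⟩
  have hCN : C ≤ N := fun x hx => by
    refine Subgroup.centralizer_le_normalizer _ (Subgroup.mem_centralizer_iff.2 ?_)
    rintro _ ⟨j, rfl⟩
    have h1 : Commute s x := Subgroup.mem_centralizer_iff.1 hx s hsR
    exact h1.zpow_left j
  obtain ⟨D, hD⟩ := exists_sylIn (p := 2) C
  have hDR : D ≤ R₀ := by
    have hDn : D ≤ Subgroup.normalizer (R₀ : Set G) := hD.le.trans (Subgroup.centralizer_le_normalizer _)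
    exact le_sup_right.trans_eq
      (hsyl.eq_of_le (hsyl.isPGroup.to_sup_of_normal_left' hD.isPGroup hDn) le_sup_left
        (sup_le hsyl.le (hD.le.trans hCN)))
  obtain ⟨hodd, hsplit⟩ := central_sylow hD fun z hz x hx =>
    Subgroup.mem_centralizer_iff.1 hx z (hDR hz)
  obtain ⟨z, o, hzo, hz, ho⟩ := hsplit ⟨u, huC⟩
  have hu : u = (z : G) * (o : G) := congrArg Subtype.val hzo
  have hfR : ∀ r ∈ R₀, f r = r := fun r hr => hfS r hr.1
  have hfo : (⟨f (o : G), map_centralizer_mem f hfR o.2⟩ : C) ∈ Cfsg.pResidual 2 C := by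
    rw [hodd, ← Subgroup.orderOf_coe]
    show (orderOf (f (o : G))).Coprime 2
    rw [MulEquiv.orderOf_eq, Subgroup.orderOf_coe]
    exact (hodd o).1 ho
  have hsC : (o : G) * (f (o : G))⁻¹ = s := by
    have h1 : f u = (z : G) * f o := by rw [hu, map_mul, hfR _ (hDR hz)]
    rw [← hus, h1, hu]
    have h2 : (o : G) * (f (o : G))⁻¹ ∈ C := mul_mem o.2 (inv_mem (map_centralizer_mem f hfR o.2))
    calc (o : G) * (f (o : G))⁻¹ = (o : G) * (f (o : G))⁻¹ * (z : G) * (z : G)⁻¹ := by group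
      _ = (z : G) * ((o : G) * (f (o : G))⁻¹) * (z : G)⁻¹ := by
          rw [← Subgroup.mem_centralizer_iff.1 h2 (z : G) (hDR hz)]
      _ = _ := by group
  have h3 := (hodd _).1 (mul_mem ho (inv_mem hfo))
  rw [← Subgroup.orderOf_coe] at h3
  change (orderOf ((o : G) * (f (o : G))⁻¹)).Coprime 2 at h3
  rw [hsC, orderOf_eq_prime (by rw [pow_two, hs2]) hsne] at h3
  exact absurd h3 (by decide)

end Cfsg.Agent.Solv.OddGated.Fixer
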