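import Cfsg.Agent.Lib.Solv.OddGated.SylowFixer
import Cfsg.Agent.Lib.Solv.OddGated.SeparableHall
import Cfsg.Agent.Lib.Char.ZStar
import Cfsg.Agent.Lib.Fusion.AbelianHall
import Mathlib.GroupTheory.SemidirectProduct

/-!
The automorphisms fixing a Sylow 2-subgroup of a core-free group pointwise.
-/

set_option autoImplicit false
set_option linter.style.haveILetI false

open scoped commutatorElement

namespace Cfsg.Agent.Solv.OddGated.Fixer

open Cfsg.Agent.Fusion

universe u

variable {G : Type u} [Group G]

/-- `G` extended by the powers of an automorphism. -/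
abbrev Ext (φ : MulAut G) := SemidirectProduct G (Subgroup.zpowers φ) (Subgroup.zpowers φ).subtype

instance [Finite G] (φ : MulAut G) : Finite (Ext φ) :=
  Finite.of_equiv _ SemidirectProduct.equivProd.symm

theorem fixed_of_involution [Finite G] (hO : ∀ N : Subgroup G, N.Normal → Odd (Nat.card N) → N = ⊥)
    {S : Subgroup G} (hS : SylIn 2 S ⊤) {φ : MulAut G} (hφ : orderOf φ = 2)
    (hfix : ∀ s ∈ S, φ s = s)
    (hshift : ∀ g : G, g * (φ g)⁻¹ ∈ S → φ g = g) : False := by
  haveI : Fact (Nat.Prime 2) := ⟨Nat.prime_two⟩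
  let il : G →* Ext φ := SemidirectProduct.inl
  let ir : Subgroup.zpowers φ →* Ext φ := SemidirectProduct.inr
  set φ' : Subgroup.zpowers φ := ⟨φ, Subgroup.mem_zpowers φ⟩
  set t := ir φ'
  have ht2 : orderOf t = 2 := by
    rw [orderOf_injective ir SemidirectProduct.inr_injective, ← Subgroup.orderOf_coe]; exact hφ
  have hcardT : Nat.card (Subgroup.zpowers φ) = 2 := by rw [Nat.card_zpowers, hφ]
  have hact : ∀ g : G, t * il g = il (φ g) * t := by
    intro g
    show ir φ' * il g = SemidirectProduct.inl ((Subgroup.zpowers φ).subtype φ' g) * ir φ'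
    rw [SemidirectProduct.inl_aut, map_inv, inv_mul_cancel_right]
  -- a Sylow subgroup containing `t`
  have hSt : Subgroup.zpowers t ≤ Subgroup.normalizer ((S.map il : Subgroup (Ext φ)) : Set (Ext φ)) := by
    refine Subgroup.zpowers_le.2 (Subgroup.centralizer_le_normalizer _ (Subgroup.mem_centralizer_iff.2 ?_))
    rintro _ ⟨s, hs, rfl⟩
    rw [hact s, hfix s hs]
  have hp : IsPGroup 2 (S.map il ⊔ Subgroup.zpowers t : Subgroup (Ext φ)) :=
    (hS.isPGroup.map il).to_sup_of_normal_left'
      (IsPGroup.of_card (n := 1) (by rw [Nat.card_zpowers, ht2, pow_one])) hSt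
  obtain ⟨P, hP⟩ := hp.exists_le_sylow
  have htP : t ∈ P := hP (Subgroup.mem_sup_right (Subgroup.mem_zpowers t))
  have hPG : ∀ g : G, il g ∈ P → g ∈ S := by
    have hQ : IsPGroup 2 ((P : Subgroup (Ext φ)).comap il) :=
      P.isPGroup'.comap_of_injective il SemidirectProduct.inl_injective
    have e := hS.eq_of_le hQ (fun s hs => hP (Subgroup.mem_sup_left ⟨s, hs, rfl⟩)) le_top
    intro g hg
    exact e.le hg
  have hiso : Char.OddInvol t := by
    refine Char.oddInvol_of_isolated_sylow ht2 htP fun x hx => ?_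
    have hxdec : x = il x.left * ir x.right := (SemidirectProduct.inl_left_mul_inr_right x).symm
    have hr : ir x.right * t * (ir x.right)⁻¹ = t := by
      have hc : x.right * φ' = φ' * x.right := by
        obtain ⟨j, hj⟩ := Subgroup.mem_zpowers_iff.1 x.right.2
        refine Subtype.ext ?_
        show (x.right : MulAut G) * φ = φ * (x.right : MulAut G)
        rw [← hj]
        exact ((Commute.refl φ).zpow_left j).eq
      rw [← map_inv, ← map_mul, ← map_mul, hc, mul_inv_cancel_right]
    have hconj : x * t * x⁻¹ = il (x.left * (φ x.left)⁻¹) * t := by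
      conv_lhs => rw [hxdec]
      calc il x.left * ir x.right * t * (il x.left * ir x.right)⁻¹
          = il x.left * (ir x.right * t * (ir x.right)⁻¹) * (il x.left)⁻¹ := by group
        _ = il x.left * (t * il x.left⁻¹) := by rw [hr, map_inv, mul_assoc]
        _ = _ := by rw [hact, map_inv, map_mul, map_inv, mul_assoc]
    rw [hconj] at hx ⊢
    have h0 := (P : Subgroup (Ext φ)).mul_mem hx ((P : Subgroup (Ext φ)).inv_mem htP)
    rw [mul_inv_cancel_right] at h0
    have h1 := hPG _ h0
    rw [hshift _ h1, mul_inv_cancel, map_one, one_mul]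
  have hcore : Cfsg.oddCore (Ext φ) = ⊥ := by
    set N := Cfsg.oddCore (Ext φ)
    haveI : N.Normal := inferInstance
    have hN : (Nat.card N).Coprime 2 := card_pPrimeCore_coprime 2 _
    have h1 : N.comap il = ⊥ := by
      refine hO _ inferInstance (Nat.coprime_two_right.1 (hN.coprime_dvd_left ?_))
      rw [Nat.card_congr ((N.comap il).equivMapOfInjective il SemidirectProduct.inl_injective).toEquiv]
      exact Subgroup.card_dvd_of_le (Subgroup.map_comap_le _ _)
    let f : N →* Subgroup.zpowers φ := SemidirectProduct.rightHom.comp N.subtype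
    have hinj : Function.Injective f := by
      rw [← MonoidHom.ker_eq_bot_iff, eq_bot_iff]
      intro n hn
      have hr : (n : Ext φ).right = 1 := hn
      have hd : (n : Ext φ) = il (n : Ext φ).left := by
        conv_lhs => rw [← SemidirectProduct.inl_left_mul_inr_right (n : Ext φ), hr, map_one, mul_one]
      have : (n : Ext φ).left ∈ N.comap il := by
        rw [Subgroup.mem_comap, ← hd]; exact n.2
      rw [h1, Subgroup.mem_bot] at this
      rw [Subgroup.mem_bot]
      exact Subtype.ext (by rw [hd, this, map_one]; rfl)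
    have h2 : Nat.card N ∣ 2 := by
      have := Subgroup.card_dvd_of_injective f hinj
      rwa [hcardT] at this
    exact Subgroup.card_eq_one.1 (Nat.eq_one_of_dvd_coprimes hN dvd_rfl h2)
  have hcentral := Char.zStar_central hiso hcore
  have h1 : φ = 1 := MulEquiv.ext fun g => by
    refine SemidirectProduct.inl_injective (φ := (Subgroup.zpowers φ).subtype) ?_
    have := hact g
    rw [hcentral (il g)] at this
    exact (mul_right_cancel this).symm
  rw [h1, orderOf_one] at hφ
  exact absurd hφ (by norm_num)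

variable [Finite G] {S : Sylow 2 G} {C : Subgroup (MulAut G)}

theorem odd_commutator (hO : ∀ N : Subgroup G, N.Normal → Odd (Nat.card N) → N = ⊥)
    (hfix : ∀ a ∈ C, ∀ s ∈ (S : Subgroup G), (a : MulAut G) s = s) :
    Odd (Nat.card (⁅(⊤ : Subgroup C), (⊤ : Subgroup C)⁆ : Subgroup C)) := by
  haveI : Fact (Nat.Prime 2) := ⟨Nat.prime_two⟩
  refine Nat.not_even_iff_odd.1 fun he => ?_
  obtain ⟨φ, hφ⟩ := exists_prime_orderOf_dvd_card' 2 he.two_dvd
  have hS := sylIn_top S
  have hφ2 : (φ : C) * (φ : C) = 1 := by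
    have := congrArg Subtype.val (pow_orderOf_eq_one φ)
    rw [hφ, pow_two] at this
    simpa using this
  refine fixed_of_involution hO hS (φ := ((φ : C) : MulAut G)) ?_ (hfix _ (φ : C).2)
    fun g hg => shift_eq_one hS hfix φ.2 hφ2 hg
  rw [Subgroup.orderOf_coe, Subgroup.orderOf_coe, hφ]

theorem structure_of_fixer (hO : ∀ N : Subgroup G, N.Normal → Odd (Nat.card N) → N = ⊥)
    (hfix : ∀ a ∈ C, ∀ s ∈ (S : Subgroup G), (a : MulAut G) s = s) :
    (∀ T : Sylow 2 ↥C, (∀ a b : ↥T, a * b = b * a) ∧
      ∃ N : Subgroup ↥C, N.Normal ∧ Subgroup.IsComplement' N (T : Subgroup ↥C)) := by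
  haveI : Fact (Nat.Prime 2) := ⟨Nat.prime_two⟩
  have hodd := odd_commutator hO hfix
  set D := ⁅(⊤ : Subgroup C), (⊤ : Subgroup C)⁆
  haveI : D.Normal := by rw [show D = commutator C from (commutator_def C).symm]; infer_instance
  intro T
  constructor
  · intro a b
    refine commutatorElement_eq_one_iff_mul_comm.1 (Subtype.ext ?_)
    have h1 : ((⁅a, b⁆ : ↥T) : C) ∈ D ⊓ (T : Subgroup C) :=
      ⟨Subgroup.commutator_mem_commutator (Subgroup.mem_top (a : C)) (Subgroup.mem_top (b : C)),
        (⁅a, b⁆ : ↥T).2⟩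
    have hco : (Nat.card D).Coprime (Nat.card (T : Subgroup C)) := by
      obtain ⟨k, hk⟩ := IsPGroup.iff_card.1 T.isPGroup'
      rw [hk]
      exact (Nat.coprime_two_right.2 hodd).pow_right k
    rw [Solv.coprime_inf hco, Subgroup.mem_bot] at h1
    exact h1
  · refine hnpc_exists_complement ?_ T
    haveI : Group.IsNilpotent (C ⧸ D) := by
      letI : CommGroup (C ⧸ D) :=
        { (inferInstance : Group (C ⧸ D)) with
          mul_comm := fun a b => by
            obtain ⟨x, rfl⟩ := QuotientGroup.mk'_surjective D a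
            obtain ⟨y, rfl⟩ := QuotientGroup.mk'_surjective D b
            rw [← commutatorElement_eq_one_iff_mul_comm, ← map_commutatorElement]
            exact (QuotientGroup.eq_one_iff _).2
              (Subgroup.commutator_mem_commutator (Subgroup.mem_top x) (Subgroup.mem_top y)) }
      infer_instance
    refine hnpc_iff.2 ?_
    set R := Cfsg.pResidual 2 C
    have h1 : (Nat.card (R.map (QuotientGroup.mk' D))).Coprime 2 :=
      (hnpc_iff.1 (hnpc_of_isNilpotent (G := C ⧸ D) (p := 2))).coprime_dvd_left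
        (Subgroup.card_dvd_of_le (map_pResidual_le _))
    have h2 : Nat.card R ∣ Nat.card (R.map (QuotientGroup.mk' D)) * Nat.card D := by
      set g := (QuotientGroup.mk' D).subgroupMap R
      have hc := g.ker.index_mul_card
      rw [Subgroup.index_ker, MonoidHom.range_eq_top.2 ((QuotientGroup.mk' D).subgroupMap_surjective R),
        Subgroup.card_top] at hc
      rw [← hc]
      refine mul_dvd_mul_left _ ?_
      rw [← Solv.card_map_subtype g.ker]
      refine Subgroup.card_dvd_of_le ?_
      rintro _ ⟨x, hx, rfl⟩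
      exact (QuotientGroup.eq_one_iff (x : C)).1 (congrArg Subtype.val (MonoidHom.mem_ker.1 hx))
    exact (h1.mul_left (Nat.coprime_two_right.2 hodd)).coprime_dvd_left h2

omit [Finite G] in
theorem solvable_of_structure [Finite G] (hFT : OddSolvable.{u})
    (h : ∀ T : Sylow 2 ↥C, (∀ a b : ↥T, a * b = b * a) ∧
      ∃ N : Subgroup ↥C, N.Normal ∧ Subgroup.IsComplement' N (T : Subgroup ↥C)) :
    Group.IsSolvable ↥C := by
  haveI : Fact (Nat.Prime 2) := ⟨Nat.prime_two⟩
  obtain ⟨T⟩ : Nonempty (Sylow 2 C) := inferInstance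
  obtain ⟨hab, N, hN, hc⟩ := h T
  haveI := hN
  haveI : Group.IsSolvable N :=
    hFT N (Nat.coprime_two_right.1 (coprime_card_of_isComplement' hc))
  haveI : Group.IsSolvable (↥C ⧸ N) := by
    haveI : Group.IsSolvable (T : Subgroup C) := Group.isSolvable_of_comm hab
    refine Group.isSolvable_of_surjective
      (f := (QuotientGroup.mk' N).comp (T : Subgroup C).subtype) fun x => ?_
    obtain ⟨g, rfl⟩ := QuotientGroup.mk'_surjective N x
    obtain ⟨⟨n, t⟩, he⟩ := hc.2 g
    refine ⟨t, ?_⟩
    show QuotientGroup.mk' N (t : C) = QuotientGroup.mk' N g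
    have hn : QuotientGroup.mk' N (n : C) = 1 := (QuotientGroup.eq_one_iff _).2 n.2
    rw [← he]
    show _ = QuotientGroup.mk' N ((n : C) * (t : C))
    rw [map_mul, hn, one_mul]
  exact Group.isSolvable_of_ker_le_range N.subtype (QuotientGroup.mk' N)
    (by simp [QuotientGroup.ker_mk'])

end Cfsg.Agent.Solv.OddGated.Fixer
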