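import Cfsg.Agent.Lib.Solv.Component
import Cfsg.Agent.Lib.Solv.Parts
import Cfsg.Agent.Lib.Solv.OddGated.SeparableHall

/-!
If cyclic subgroups of prime power order are determined up to conjugacy by their order then there
is at most one component.
-/

set_option autoImplicit false

open scoped Pointwise commutatorElement

namespace Cfsg.Agent.Solv.OddGated

universe u

variable {G : Type u} [Group G] [Finite G]

theorem exists_noncentral_primary {L : Type u} [Group L] [Finite L] {r : ℕ} [hr : Fact r.Prime]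
    (h : r ∣ Nat.card (L ⧸ Subgroup.center L)) :
    ∃ x : L, x ∉ Subgroup.center L ∧ ∃ k, orderOf x = r ^ k := by
  obtain ⟨y, hy⟩ := exists_prime_orderOf_dvd_card' r h
  obtain ⟨x, rfl⟩ := QuotientGroup.mk'_surjective _ y
  obtain ⟨u, v, -, -, huv, hk, hco⟩ := Solv.exists_ppart r x
  refine ⟨u, fun hu => ?_, hk⟩
  set π := QuotientGroup.mk' (Subgroup.center L)
  have hu1 : π u = 1 := (QuotientGroup.eq_one_iff u).2 hu
  have hxv : π x = π v := by rw [← huv, map_mul, hu1, one_mul]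
  have h1 : orderOf (π x) ∣ orderOf v := hxv ▸ orderOf_map_dvd π v
  rw [hy] at h1
  exact hr.out.ne_one (Nat.eq_one_of_dvd_coprimes hco h1 dvd_rfl)

theorem quotient_center_not_solvable {L : Type u} [Group L] [Finite L]
    (h : Cfsg.IsQuasisimple L) : ¬ Group.IsSolvable (L ⧸ Subgroup.center L) := by
  intro hs
  haveI := hs
  haveI := h.1
  haveI := qs_nontrivial h
  haveI : Group.IsSolvable (Subgroup.center L) := Group.isSolvable_of_comm fun a b => Subtype.ext
    (Subgroup.mem_center_iff.1 b.2 (a : L))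
  exact Group.IsPerfect.not_isSolvable (G := L)
    (Group.isSolvable_of_ker_le_range (Subgroup.center L).subtype
      (QuotientGroup.mk' (Subgroup.center L)) (by simp [QuotientGroup.ker_mk']))

theorem two_dvd_quotient_center (hFT : OddSolvable.{u}) {L : Type u} [Group L] [Finite L]
    (h : Cfsg.IsQuasisimple L) : 2 ∣ Nat.card (L ⧸ Subgroup.center L) := by
  by_contra hd
  exact quotient_center_not_solvable h
    (hFT _ (Nat.not_even_iff_odd.1 fun he => hd he.two_dvd))

theorem exists_odd_prime_quotient_center {L : Type u} [Group L] [Finite L]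
    (h : Cfsg.IsQuasisimple L) :
    ∃ r : ℕ, r.Prime ∧ r ≠ 2 ∧ r ∣ Nat.card (L ⧸ Subgroup.center L) := by
  by_contra! hd
  haveI := Fact.mk Nat.prime_two
  refine quotient_center_not_solvable h ?_
  haveI := (IsPGroup.of_card (G := L ⧸ Subgroup.center L) (Nat.eq_prime_pow_of_unique_prime_dvd
    Nat.card_pos.ne' (p := 2) fun {d} hdp hdd => by
      by_contra h2
      exact hd d hdp h2 hdd)).isNilpotent
  infer_instance

/-- Equal orders of elements of prime power order give conjugate cyclic subgroups. -/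
def CyclicConj (G : Type u) [Group G] : Prop :=
  ∀ (r : ℕ), r.Prime → ∀ x y : G, (∃ k, orderOf x = r ^ k) → orderOf x = orderOf y →
    ∃ g : G, Subgroup.zpowers y = (Subgroup.zpowers x).map (MulAut.conj g).toMonoidHom

variable (hG : CyclicConj G)

include hG

omit [Finite G] in
theorem no_product {K₁ K₂ : Subgroup G} (h₁ : Cfsg.IsComponent K₁) (h₂ : Cfsg.IsComponent K₂)
    (hne : K₁ ≠ K₂) {r : ℕ} (hr : r.Prime) {x₁ : K₁} {x₂ : K₂}
    (hx₁ : x₁ ∉ Subgroup.center K₁) (hx₂ : x₂ ∉ Subgroup.center K₂)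
    (hk : ∃ k, orderOf (x₁ : G) = r ^ k)
    (ho : orderOf ((x₁ : G) * (x₂ : G)) = orderOf (x₁ : G)) : False := by
  obtain ⟨g, hg⟩ := hG r hr _ _ hk ho.symm
  set y := (x₁ : G) * (x₂ : G) with hy
  set L := K₁.map (MulAut.conj g).toMonoidHom
  have hL : Cfsg.IsComponent L := component_conj h₁ g
  have hyL : y ∈ L := by
    have h := hg.le (Subgroup.mem_zpowers y)
    exact Subgroup.map_mono (Subgroup.zpowers_le.2 x₁.2) h
  have hcomm : ∀ {A B : Subgroup G}, ⁅A, B⁆ = ⊥ → ∀ a ∈ A, ∀ b ∈ B, a * b = b * a := by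
    intro A B h a ha b hb
    exact commutatorElement_eq_one_iff_mul_comm.1
      (Subgroup.mem_bot.1 (h.le (Subgroup.commutator_mem_commutator ha hb)))
  have h12 := hcomm (components_commute h₁ h₂ hne)
  have hL1 : L = K₁ := by
    by_contra hne1
    refine hx₁ (Subgroup.mem_center_iff.2 fun a => Subtype.ext ?_)
    have h3 := hcomm (components_commute hL h₁ hne1) y hyL a a.2
    have h4 := h12 a a.2 x₂ x₂.2
    show (a : G) * x₁ = x₁ * a
    refine mul_right_cancel (b := (x₂ : G)) ?_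
    calc (a : G) * x₁ * x₂ = y * a := by rw [h3, hy, mul_assoc]
      _ = _ := by rw [hy, mul_assoc, ← h4, ← mul_assoc]
  have hL2 : L = K₂ := by
    by_contra hne2
    refine hx₂ (Subgroup.mem_center_iff.2 fun a => Subtype.ext ?_)
    have h3 := hcomm (components_commute hL h₂ hne2) y hyL a a.2
    have h4 := h12 x₁ x₁.2 a a.2
    show (a : G) * x₂ = x₂ * a
    refine mul_left_cancel (a := (x₁ : G)) ?_
    calc (x₁ : G) * ((a : G) * x₂) = (a : G) * y := by
          rw [← mul_assoc, h4, hy, mul_assoc]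
      _ = _ := by rw [← h3, hy, mul_assoc]
  exact hne (hL1.symm.trans hL2)

theorem order_le {K₁ K₂ : Subgroup G} (h₁ : Cfsg.IsComponent K₁) (h₂ : Cfsg.IsComponent K₂)
    (hne : K₁ ≠ K₂) {r : ℕ} [hr : Fact r.Prime] {x₁ : K₁} {x₂ : K₂}
    (hx₁ : x₁ ∉ Subgroup.center K₁) (hx₂ : x₂ ∉ Subgroup.center K₂)
    {i j : ℕ} (hi : orderOf (x₁ : G) = r ^ i) (hj : orderOf (x₂ : G) = r ^ j) : i ≤ j := by
  by_contra! hlt
  refine no_product hG h₁ h₂ hne hr.out hx₁ hx₂ ⟨i, hi⟩ ?_
  have hc : Commute (x₁ : G) (x₂ : G) := commutatorElement_eq_one_iff_mul_comm.1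
    (Subgroup.mem_bot.1 ((components_commute h₁ h₂ hne).le
      (Subgroup.commutator_mem_commutator x₁.2 x₂.2)))
  rw [hi]
  obtain ⟨i', rfl⟩ : ∃ i', i = i' + 1 := ⟨i - 1, by omega⟩
  have h2 : (x₂ : G) ^ r ^ i' = 1 :=
    orderOf_dvd_iff_pow_eq_one.1 (hj ▸ pow_dvd_pow r (by omega))
  refine orderOf_eq_prime_pow ?_ ?_
  · rw [hc.mul_pow, h2, mul_one]
    intro h
    have := orderOf_dvd_iff_pow_eq_one.2 h
    rw [hi, Nat.pow_dvd_pow_iff_le_right hr.out.one_lt] at this
    omega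
  · rw [hc.mul_pow, pow_succ, pow_mul (x₂ : G), h2, one_pow, mul_one, ← pow_succ, ← hi,
      pow_orderOf_eq_one]

theorem component_unique (hFT : OddSolvable.{u}) {K₁ K₂ : Subgroup G} (h₁ : Cfsg.IsComponent K₁)
    (h₂ : Cfsg.IsComponent K₂) : K₁ = K₂ := by
  by_contra hne
  haveI := Fact.mk Nat.prime_two
  obtain ⟨x₁, hx₁, i, hi⟩ := exists_noncentral_primary (r := 2) (two_dvd_quotient_center hFT h₁.2)
  obtain ⟨x₂, hx₂, j, hj⟩ := exists_noncentral_primary (r := 2) (two_dvd_quotient_center hFT h₂.2)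
  rw [← Subgroup.orderOf_coe] at hi hj
  have hij : i = j := le_antisymm (order_le hG h₁ h₂ hne hx₁ hx₂ hi hj)
    (order_le hG h₂ h₁ (Ne.symm hne) hx₂ hx₁ hj hi)
  obtain ⟨g, hg⟩ := hG 2 Nat.prime_two (x₁ : G) (x₂ : G) ⟨i, hi⟩ (by rw [hi, hj, hij])
  have hconj : K₁.map (MulAut.conj g).toMonoidHom = K₂ := by
    by_contra h
    refine hx₂ (Subgroup.mem_center_iff.2 fun a => Subtype.ext ?_)
    have hm : (x₂ : G) ∈ K₁.map (MulAut.conj g).toMonoidHom :=
      Subgroup.map_mono (Subgroup.zpowers_le.2 x₁.2) (hg.le (Subgroup.mem_zpowers _))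
    exact (commutatorElement_eq_one_iff_mul_comm.1 (Subgroup.mem_bot.1
      ((components_commute (component_conj h₁ g) h₂ h).le
        (Subgroup.commutator_mem_commutator hm a.2)))).symm
  obtain ⟨r, hr, hr2, hrd⟩ := exists_odd_prime_quotient_center h₁.2
  haveI := Fact.mk hr
  obtain ⟨y, hy, k, hk⟩ := exists_noncentral_primary (r := r) hrd
  rw [← Subgroup.orderOf_coe] at hk
  set e : K₁ ≃* K₂ :=
    (K₁.equivMapOfInjective _ (MulAut.conj g).injective).trans (MulEquiv.subgroupCongr hconj)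
  have hez : e y ∉ Subgroup.center K₂ := fun h => hy (Subgroup.mem_center_iff.2 fun a =>
    e.injective (by simpa using Subgroup.mem_center_iff.1 h (e a)))
  have hk2 : orderOf ((e y : K₂) : G) = r ^ k := by
    rw [Subgroup.orderOf_coe, MulEquiv.orderOf_eq, ← Subgroup.orderOf_coe, hk]
  have hkpos : k ≠ 0 := fun h0 => hy (by
    rw [h0, pow_zero, orderOf_eq_one_iff] at hk
    rw [show y = 1 from Subtype.ext hk]
    exact one_mem _)
  obtain ⟨k', rfl⟩ : ∃ k', k = k' + 1 := ⟨k - 1, by omega⟩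
  have h2co : (2 : ℕ).Coprime (r ^ (k' + 1)) :=
    Nat.Coprime.pow_right _ ((Nat.coprime_primes Nat.prime_two hr).2 (Ne.symm hr2))
  have hc : ∀ z : K₂, Commute (y : G) (z : G) := fun z => commutatorElement_eq_one_iff_mul_comm.1
    (Subgroup.mem_bot.1 ((components_commute h₁ h₂ hne).le
      (Subgroup.commutator_mem_commutator y.2 z.2)))
  have hfin : ∀ z : K₂, z ∉ Subgroup.center K₂ → (z : G) ^ r ^ (k' + 1) = 1 →
      (y : G) ^ r ^ k' * (z : G) ^ r ^ k' ≠ 1 → False := by
    intro z hz hzp hne1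
    refine no_product hG h₁ h₂ hne hr hy hz ⟨_, hk⟩ ?_
    rw [hk]
    refine orderOf_eq_prime_pow ?_ ?_
    · rwa [(hc z).mul_pow]
    · rw [(hc z).mul_pow, hzp, ← hk, pow_orderOf_eq_one, one_mul]
  have hep : ((e y : K₂) : G) ^ r ^ (k' + 1) = 1 := hk2 ▸ pow_orderOf_eq_one _
  by_cases hcase : (y : G) ^ r ^ k' * ((e y : K₂) : G) ^ r ^ k' = 1
  · -- replace `e y` by its square
    refine hfin (e y ^ 2) (fun h => hez ?_) ?_ ?_
    · obtain ⟨l, hl⟩ := exists_pow_eq_self_of_coprime (x := e y) (n := 2)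
        (by rwa [← Subgroup.orderOf_coe, hk2])
      rw [← hl]
      exact pow_mem h _
    · rw [SubgroupClass.coe_pow, ← pow_mul, mul_comm, pow_mul, hep, one_pow]
    · intro h
      rw [SubgroupClass.coe_pow, ← pow_mul, mul_comm, pow_mul, pow_two, ← mul_assoc, hcase,
        one_mul] at h
      have := orderOf_dvd_iff_pow_eq_one.2 h
      rw [hk2, Nat.pow_dvd_pow_iff_le_right hr.one_lt] at this
      omega
  · exact hfin (e y) hez hep hcase

theorem layer_simple_quotient (hFT : OddSolvable.{u}) (hE : Cfsg.layer G ≠ ⊥) :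
    IsSimpleGroup (↥(Cfsg.layer G) ⧸ Subgroup.center ↥(Cfsg.layer G)) ∧
      ¬ IsMulCommutative (↥(Cfsg.layer G) ⧸ Subgroup.center ↥(Cfsg.layer G)) := by
  obtain ⟨K, hK⟩ : ∃ K : Subgroup G, Cfsg.IsComponent K := by
    by_contra! h
    exact hE (eq_bot_iff.2 (sSup_le fun K hK => absurd hK (h K)))
  have e : Cfsg.layer G = K :=
    le_antisymm (sSup_le fun L hL => (component_unique hG hFT hL hK).le) (component_le_layer hK)
  rw [e]
  refine ⟨hK.2.2, fun h => quotient_center_not_solvable hK.2 ?_⟩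
  exact Group.isSolvable_of_comm fun a b => h.is_comm.comm a b

omit hG in
theorem cyclicConj_of (h : ∀ (p : ℕ), p.Prime → ∀ A B : Subgroup G, IsCyclic ↥A → IsCyclic ↥B →
    IsPGroup p ↥A → Nat.card ↥A = Nat.card ↥B →
      ∃ g : G, B = A.map (MulAut.conj g).toMonoidHom) : CyclicConj G :=
  fun r hr x y ⟨k, hk⟩ ho => h r hr _ _ inferInstance inferInstance (isPGroup_zpowers hk)
    (by rw [Nat.card_zpowers, Nat.card_zpowers, ho])

end Cfsg.Agent.Solv.OddGated
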